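import Groth.Agent.Dcoh.LocalD
import Groth.Agent.S0924
import Mathlib.CategoryTheory.Retract

/-!
# Perfect objects are closed under retracts
-/

set_option autoImplicit false
universe u
open CategoryTheory CategoryTheory.Limits AlgebraicGeometry Pretriangulated
attribute [local instance] HasDerivedCategory.standard

namespace Groth.Agent.Models2.PerfRetract

/-- In a pretriangulated category a retract is a direct summand. -/
lemma exists_biprod_iso {C : Type*} [Category* C] [Preadditive C] [HasZeroObject C] [HasShift C ℤ]
    [∀ n : ℤ, (CategoryTheory.shiftFunctor C n).Additive] [Pretriangulated C] {K L : C}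
    (r : Retract K L) : ∃ (M : C), Nonempty (L ≅ K ⊞ M) := by
  obtain ⟨M, g, h, hT⟩ := Pretriangulated.distinguished_cocone_triangle r.i
  have : Mono (Triangle.mk r.i g h).mor₁ := by
    change Mono r.i
    exact ⟨fun a b hab => by simpa using hab =≫ r.r⟩
  obtain ⟨e, -, -⟩ := exists_iso_binaryBiproduct_of_distTriang _ hT
    (Triangle.mor₃_eq_zero_of_mono₁ _ hT this)
  exact ⟨M, ⟨e⟩⟩

variable {X : Scheme.{u}}

/-- Retracts of perfect objects are perfect. -/
lemma isPerfect_of_retract {K L : DCoh.D X} (r : Retract K L) (hL : DCoh.IsPerfect L) :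
    DCoh.IsPerfect K := by
  obtain ⟨M, ⟨e⟩⟩ := exists_biprod_iso r
  exact (Groth.Agent.S0924.result K M (Dcoh.LocalD.isPerfect_of_iso e hL)).1

end Groth.Agent.Models2.PerfRetract
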