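import Groth.Agent.Dcoh.LocalD
import Groth.Agent.PerfC.LpullFlat

/-!
# `Lg^*` along an open immersion is restriction
-/

set_option autoImplicit false
universe u
open CategoryTheory CategoryTheory.Limits AlgebraicGeometry
attribute [local instance] HasDerivedCategory.standard

namespace Groth.Agent.Models2.RestrictLpull

variable {X Y : Scheme.{u}} (g : X ⟶ Y) [IsOpenImmersion g]

theorem preservesFiniteLimits_pullback : PreservesFiniteLimits (Scheme.Modules.pullback g) :=
  ⟨fun _ _ _ => preservesLimitsOfShape_of_natIso (Scheme.Modules.restrictFunctorIsoPullback g)⟩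

/-- `Lg^*` is the restriction functor for an open immersion `g`. -/
noncomputable def lpullRestrict [DCoh.HasLpull g] : DCoh.Lpull g ≅ DCoh.restrictD g :=
  haveI := preservesFiniteLimits_pullback g
  PerfC.LpullFlat.lpullIso g ≪≫
    Dcoh.MapDer.mapDerIso (Scheme.Modules.restrictFunctorIsoPullback g).symm

end Groth.Agent.Models2.RestrictLpull
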