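import Groth.Agent.PerfC.FlatExact
import Groth.Agent.Dcoh.StalkT

/-!
# `M ↦ f^* M ⊗ K` is exact when `K` is flat over the base
-/

set_option autoImplicit false
universe u
open CategoryTheory CategoryTheory.Limits AlgebraicGeometry TopologicalSpace MonoidalCategory

namespace Groth.Agent.Models2.FMExact

open Groth.Agent.CycB.StalkExact Groth.Agent.Fdesc.PullbackStalk Groth.Agent.PerfC.FlatExact
open Groth.Agent.Dcoh.Stalk

section Algebra

open TensorProduct

variable {R S M N K : Type*} [CommRing R] [CommRing S] [Algebra R S] [AddCommGroup M]
  [AddCommGroup N] [AddCommGroup K] [Module R M] [Module R N] [Module S K] [Module R K]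
  [IsScalarTower R S K]

theorem injective_lTensor_baseChange [Module.Flat R K] (ψ : M →ₗ[R] N)
    (hψ : Function.Injective ψ) :
    Function.Injective ((ψ.baseChange S).lTensor K) := by
  have key : ∀ t : K ⊗[S] (S ⊗[R] M),
      AlgebraTensorModule.cancelBaseChange R S S K N ((ψ.baseChange S).lTensor K t) =
        ψ.lTensor K (AlgebraTensorModule.cancelBaseChange R S S K M t) := by
    intro t
    induction t using TensorProduct.induction_on with
    | zero => simp only [map_zero]
    | add a b ha hb => simp only [map_add, ha, hb]
    | tmul k t =>
      induction t using TensorProduct.induction_on with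
      | zero => simp only [tmul_zero, map_zero]
      | add a b ha hb => simp only [tmul_add, map_add, ha, hb]
      | tmul s m =>
        simp only [LinearMap.lTensor_tmul, LinearMap.baseChange_tmul,
          AlgebraTensorModule.cancelBaseChange_tmul]
  intro a b hab
  apply (AlgebraTensorModule.cancelBaseChange R S S K M).injective
  apply Module.Flat.lTensor_preserves_injective_linearMap (M := K) ψ hψ
  rw [← key, ← key, hab]

theorem injective_rTensor_baseChange [Module.Flat R K] (ψ : M →ₗ[R] N)
    (hψ : Function.Injective ψ) :
    Function.Injective ((ψ.baseChange S).rTensor K) := by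
  have key : ∀ t : (S ⊗[R] M) ⊗[S] K,
      TensorProduct.comm S (S ⊗[R] N) K ((ψ.baseChange S).rTensor K t) =
        (ψ.baseChange S).lTensor K (TensorProduct.comm S (S ⊗[R] M) K t) := by
    intro t
    induction t using TensorProduct.induction_on with
    | zero => simp only [map_zero]
    | add a b ha hb => simp only [map_add, ha, hb]
    | tmul k t => rfl
  intro a b hab
  apply (TensorProduct.comm S (S ⊗[R] M) K).injective
  apply injective_lTensor_baseChange (S := S) (K := K) ψ hψ
  rw [← key, ← key, hab]

end Algebra

variable {X Z : Scheme.{u}} (f : Z ⟶ X) (K : Z.Modules)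

lemma stalkF_map_hom {M N : X.Modules} (φ : M ⟶ N) (x : X) :
    ((stalkF x).map φ).hom = stalkLin φ x := rfl

theorem mono_map (hK : FlatMod.IsFlatOver f K) {M N : X.Modules} (φ : M ⟶ N) [Mono φ] :
    Mono ((DCoh.tensorBi.flip.obj K).map ((Scheme.Modules.pullback f).map φ)) := by
  rw [mono_iff_stalkLin]
  intro z
  let _ := stalkAlg f z
  let _ := FlatMod.moduleStalkOver f K z
  have := isScalarTower f K z
  have : Module.Flat (X.presheaf.stalk (f.base z)) (K.presheaf.stalk z) := hK z
  have h1 : Function.Injective
      ((stalkLin ((Scheme.Modules.pullback f).map φ) z).rTensor (K.presheaf.stalk z)) := by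
    have h2 := injective_rTensor_baseChange (S := Z.presheaf.stalk z) (K := K.presheaf.stalk z)
      (stalkLin φ (f.base z)) (stalkLin_injective φ (f.base z))
    have h3 : ∀ t, (stalkLin ((Scheme.Modules.pullback f).map φ) z).rTensor (K.presheaf.stalk z)
        ((stalkPullbackEquiv f M z).rTensor (K.presheaf.stalk z) t) =
        (stalkPullbackEquiv f N z).rTensor (K.presheaf.stalk z)
          (((stalkLin φ (f.base z)).baseChange (Z.presheaf.stalk z)).rTensor
            (K.presheaf.stalk z) t) := by
      intro t
      induction t using TensorProduct.induction_on with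
      | zero => simp only [map_zero]
      | add a b ha hb => simp only [map_add, ha, hb]
      | tmul k t =>
        simp only [LinearMap.rTensor_tmul, LinearEquiv.rTensor_tmul]
        rw [stalkLin_pullback f φ z k]
        rfl
    intro a b hab
    obtain ⟨a, rfl⟩ := ((stalkPullbackEquiv f M z).rTensor (K.presheaf.stalk z)).surjective a
    obtain ⟨b, rfl⟩ := ((stalkPullbackEquiv f M z).rTensor (K.presheaf.stalk z)).surjective b
    rw [h3, h3] at hab
    congr 1
    exact h2 (((stalkPullbackEquiv f N z).rTensor (K.presheaf.stalk z)).injective hab)
  have nat := tensorStalkIso_naturality_left (N := K) ((Scheme.Modules.pullback f).map φ) z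
  have nat' := congrArg ModuleCat.Hom.hom nat
  intro a b hab
  have e : Function.Injective (tensorStalkIso ((Scheme.Modules.pullback f).obj M) K z).hom.hom :=
    (tensorStalkIso ((Scheme.Modules.pullback f).obj M) K z).toLinearEquiv.injective
  apply e
  apply h1
  have ha := LinearMap.congr_fun nat' a
  have hb := LinearMap.congr_fun nat' b
  refine (ha.symm.trans ?_).trans hb
  exact congrArg (tensorStalkIso ((Scheme.Modules.pullback f).obj N) K z).hom.hom hab

/-- `- ⊗ N` in the two forms of the prelude. -/
noncomputable def tensorRightModIso (N : Z.Modules) :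
    DCoh.tensorBi.flip.obj N ≅ DCoh.tensorRightMod N :=
  NatIso.ofComponents (fun _ => Iso.refl _) (by
    intro M M' f
    simp only [Iso.refl_hom]
    rfl)

instance preservesFiniteColimits_tensorRightMod (N : Z.Modules) :
    PreservesFiniteColimits (DCoh.tensorRightMod N) :=
  preservesFiniteColimits_of_natIso (tensorRightModIso N)

/-- `M ↦ f^* M ⊗ K`. -/
noncomputable abbrev G : X.Modules ⥤ Z.Modules :=
  Scheme.Modules.pullback f ⋙ DCoh.tensorRightMod K

instance additive_pullback : (Scheme.Modules.pullback f).Additive :=
  (Scheme.Modules.pullbackPushforwardAdjunction f).left_adjoint_additive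

instance preservesFiniteColimits_G : PreservesFiniteColimits (G f K) := inferInstance

instance additive_G : (G f K).Additive := inferInstance

/-- `M ↦ f^* M ⊗ K` is exact when `K` is flat over the base. -/
theorem preservesFiniteLimits_G (hK : FlatMod.IsFlatOver f K) : PreservesFiniteLimits (G f K) := by
  have h := (Functor.preservesFiniteColimits_iff_forall_exact_map_and_epi
    (G f K)).1 inferInstance
  refine (Functor.preservesFiniteLimits_iff_forall_exact_map_and_mono
      (G f K)).2 fun S hS => ⟨(h S hS).1, ?_⟩
  have := hS.mono_f
  have h1 := mono_map f K hK S.f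
  have h2 : Mono ((DCoh.tensorRightMod K).map ((Scheme.Modules.pullback f).map S.f)) :=
    ((MorphismProperty.monomorphisms Z.Modules).arrow_mk_iso_iff
      (Arrow.isoMk ((tensorRightModIso K).app _) ((tensorRightModIso K).app _)
        ((tensorRightModIso K).hom.naturality _).symm)).1 h1
  exact h2

end Groth.Agent.Models2.FMExact
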