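import Groth.Agent.CohqB.AmpBridge
import Groth.Agent.Ega2.AmpleAff
import Groth.Agent.Ega2.AmpleTransfer

/-!
# Ampleness and pullback: composition, isomorphisms, affine morphisms, restriction to opens
-/

set_option autoImplicit false

universe u

open CategoryTheory Limits AlgebraicGeometry TopologicalSpace
open Groth.Agent.CohqB.AmpCocycle

namespace Groth.Agent.Models2.AmplePull

variable {X X' X'' : Scheme.{u}}

theorem isAmple_of_iso {L L' : X.Modules} (e : L ≅ L') (h : CohB1.IsAmple L) : CohB1.IsAmple L' :=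
  Ega2.Weight.isAmple_of_iso e h

theorem isAmple_iff_of_iso {L L' : X.Modules} (e : L ≅ L') : CohB1.IsAmple L ↔ CohB1.IsAmple L' :=
  ⟨isAmple_of_iso e, isAmple_of_iso e.symm⟩

/-- The pullback of an ample module along an affine morphism is ample. -/
theorem isAmple_pullback (g : X' ⟶ X) [IsAffineHom g] {L : X.Modules} (h : CohB1.IsAmple L) :
    CohB1.IsAmple ((Scheme.Modules.pullback g).obj L) := by
  have := h.2.1
  obtain ⟨n, C, hW, -, ⟨T⟩⟩ := exists_triv_affine L h.1 (fun _ : Unit => (⊤ : X.Opens))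
    (fun x => ⟨(), trivial⟩)
  rw [T.isAmple_iff] at h
  rw [(T.pullback g).isAmple_iff]
  exact h.pull g

theorem isInvertible_pullback (g : X' ⟶ X) {L : X.Modules} (h : PicF.IsInvertible L) :
    PicF.IsInvertible ((Scheme.Modules.pullback g).obj L) := by
  rw [Groth.Agent.Fdesc.LocGen.isInvertible_iff] at h ⊢
  intro x
  obtain ⟨U, e, hx, he⟩ := h (g x)
  exact ⟨g ⁻¹ᵁ U, _, hx, he.pullSec g⟩

theorem isInvertible_of_iso {L L' : X.Modules} (e : L ≅ L') (h : PicF.IsInvertible L) :
    PicF.IsInvertible L' := fun x => by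
  obtain ⟨U, hx, ⟨j⟩⟩ := h x
  exact ⟨U, hx, ⟨((Scheme.Modules.restrictFunctor U.ι).mapIso e).symm ≪≫ j⟩⟩

theorem isAmple_pullback_comp (g : X'' ⟶ X') (h : X' ⟶ X) (L : X.Modules) :
    CohB1.IsAmple ((Scheme.Modules.pullback (g ≫ h)).obj L) ↔
      CohB1.IsAmple ((Scheme.Modules.pullback g).obj ((Scheme.Modules.pullback h).obj L)) :=
  isAmple_iff_of_iso ((Scheme.Modules.pullbackComp g h).app L).symm

theorem isAmple_pullback_congr {g h : X' ⟶ X} (e : g = h) (L : X.Modules) :
    CohB1.IsAmple ((Scheme.Modules.pullback g).obj L) ↔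
      CohB1.IsAmple ((Scheme.Modules.pullback h).obj L) := by
  rw [e]

theorem isAmple_restrict_iff (j : X' ⟶ X) [IsOpenImmersion j] (L : X.Modules) :
    CohB1.IsAmple (L.restrict j) ↔ CohB1.IsAmple ((Scheme.Modules.pullback j).obj L) :=
  isAmple_iff_of_iso ((Scheme.Modules.restrictFunctorIsoPullback j).app L)

theorem isAmple_pullback_iff_of_isIso (g : X'' ⟶ X') [IsIso g] (h : X' ⟶ X) (L : X.Modules) :
    CohB1.IsAmple ((Scheme.Modules.pullback (g ≫ h)).obj L) ↔
      CohB1.IsAmple ((Scheme.Modules.pullback h).obj L) := by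
  constructor
  · intro H
    have h1 : h = inv g ≫ g ≫ h := by simp
    rw [isAmple_pullback_congr h1, isAmple_pullback_comp]
    exact isAmple_pullback _ H
  · intro H
    rw [isAmple_pullback_comp]
    exact isAmple_pullback _ H

end Groth.Agent.Models2.AmplePull
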