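import Groth.Agent.Models2.QCohLoc

/-!
# Colimits of quasi-coherent modules
-/

set_option autoImplicit false
universe u
open CategoryTheory AlgebraicGeometry Limits TopologicalSpace

namespace Groth.Agent.Models2.QCohColim

open AlgebraicGeometry.Scheme.Modules Groth.Agent.Models2.QCohLoc

noncomputable section

variable {X : Scheme.{u}} {R : CommRingCat.{u}}

/-- `IsQuasicoherent` with the universes fixed. -/
abbrev IsQC (M : X.Modules) : Prop :=
  SheafOfModules.IsQuasicoherent.{u, u, u} (R := X.ringCatSheaf) M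

lemma isQC_restrict {Y : Scheme.{u}} (f : Y ⟶ X) [IsOpenImmersion f] (M : X.Modules)
    (hM : IsQC M) : IsQC (M.restrict f) :=
  haveI := hM
  Scheme.Modules.isQuasicoherent_restrictFunctor f M

/-- Quasi-coherence can be checked on an affine cover. -/
theorem isQC_of_restrict (M : X.Modules) {ι : Type u} (S : ι → CommRingCat.{u})
    (f : ∀ i, Spec (S i) ⟶ X) [∀ i, IsOpenImmersion (f i)]
    (hf : IsOpenCover fun i ↦ (f i).opensRange) (h : ∀ i, IsQC (M.restrict (f i))) :
    IsQC M :=
  isQuasicoherent_of_presentation M _ f hf fun i ↦ by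
    have := h i
    exact nonempty_presentation (M.restrict (f i))

lemma isOpenCover_affineOpenCover (X : Scheme.{u}) :
    IsOpenCover fun i ↦ (X.affineOpenCover.f i).opensRange := by
  exact X.affineOpenCover.openCover.isOpenCover_opensRange

section Spec

variable {J : Type*} [Category J] (D : J ⥤ (Spec R).Modules)

lemma isIso_fromTildeΓ (M : (Spec R).Modules) (hM : IsQC M) : IsIso M.fromTildeΓ :=
  Scheme.Modules.isIso_fromTildeΓ_of_isQuasicoherent (R := R) M

/-- A quasi-coherent module on `Spec R` is `tilde` of its global sections. -/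
def fromTildeΓIso (M : (Spec R).Modules) (hM : IsQC M) :
    (moduleSpecΓFunctor (R := R) ⋙ tilde.functor R).obj M ≅ M :=
  @asIso _ _ _ _ (Scheme.Modules.fromTildeΓNatTrans.app M) (isIso_fromTildeΓ M hM)

/-- The diagram of a functor to quasi-coherent modules on `Spec R` is `tilde` of the diagram of
global sections. -/
def diagIso (hD : ∀ j, IsQC (D.obj j)) :
    (D ⋙ moduleSpecΓFunctor (R := R)) ⋙ tilde.functor R ≅ D :=
  NatIso.ofComponents (fun j ↦ fromTildeΓIso (D.obj j) (hD j))
    (fun f ↦ Scheme.Modules.fromTildeΓNatTrans.naturality (D.map f))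

/-- The colimit of quasi-coherent modules on `Spec R` is quasi-coherent. -/
theorem isQC_colimit_Spec {c : Cocone D} (hc : IsColimit c) (hD : ∀ j, IsQC (D.obj j))
    [HasColimitsOfShape J (ModuleCat.{u} R)] : IsQC c.pt := by
  let D' := D ⋙ moduleSpecΓFunctor (R := R)
  let e : (tilde.functor R).obj (colimit D') ≅ c.pt :=
    IsColimit.coconePointsIsoOfNatIso
      (isColimitOfPreserves (tilde.functor R) (colimit.isColimit D')) hc (diagIso D hD)
  have h : IsQC ((tilde.functor R).obj (colimit D')) := by
    exact inferInstanceAs (tilde (colimit D')).IsQuasicoherent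
  exact (SheafOfModules.isQuasicoherent (Spec R).ringCatSheaf).prop_of_iso e h

/-- Taking global sections preserves colimits of quasi-coherent modules on `Spec R`. -/
theorem isColimit_Γ {c : Cocone D} (hc : IsColimit c) (hD : ∀ j, IsQC (D.obj j))
    [HasColimitsOfShape J (ModuleCat.{u} R)] :
    Nonempty (IsColimit ((moduleSpecΓFunctor (R := R)).mapCocone c)) := by
  have hpt := isQC_colimit_Spec D hc hD
  refine ⟨isColimitOfReflects (tilde.functor R) ?_⟩
  refine (IsColimit.precomposeInvEquiv (diagIso D hD) _).1 (IsColimit.ofIsoColimit hc ?_)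
  refine Cocone.ext (fromTildeΓIso c.pt hpt).symm fun j ↦ ?_
  have h : ((moduleSpecΓFunctor (R := R) ⋙ tilde.functor R).map (c.ι.app j)) ≫
    (fromTildeΓIso c.pt hpt).hom = (fromTildeΓIso (D.obj j) (hD j)).hom ≫ c.ι.app j :=
    Scheme.Modules.fromTildeΓNatTrans.naturality (c.ι.app j)
  rw [Iso.symm_hom, Iso.comp_inv_eq]
  change _ = ((fromTildeΓIso (D.obj j) (hD j)).inv ≫
    ((moduleSpecΓFunctor (R := R) ⋙ tilde.functor R).map (c.ι.app j))) ≫ _
  erw [Category.assoc, h]
  simp

end Spec

section Scheme

instance : (QCohCat.isQCoh X).IsClosedUnderIsomorphisms :=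
  inferInstanceAs (SheafOfModules.isQuasicoherent X.ringCatSheaf).IsClosedUnderIsomorphisms

lemma isQC_of_iso {M N : X.Modules} (e : M ≅ N) (h : IsQC M) : IsQC N :=
  (QCohCat.isQCoh X).prop_of_iso e h

variable {J : Type u} [SmallCategory J]

/-- The colimit of quasi-coherent modules is quasi-coherent. -/
theorem isQC_colimit (D : J ⥤ X.Modules) {c : Cocone D} (hc : IsColimit c)
    (hD : ∀ j, IsQC (D.obj j)) : IsQC c.pt := by
  refine isQC_of_restrict c.pt _ _ (isOpenCover_affineOpenCover X) fun i ↦ ?_
  refine isQC_colimit_Spec (D ⋙ restrictFunctor (X.affineOpenCover.f i))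
    (isColimitOfPreserves (restrictFunctor (X.affineOpenCover.f i)) hc) fun j ↦ ?_
  exact isQC_restrict _ _ (hD j)

instance : (QCohCat.isQCoh X).IsClosedUnderColimitsOfShape J where
  colimitsOfShape_le := by
    rintro M ⟨h⟩
    exact isQC_colimit _ h.isColimit h.prop_diag_obj

instance : HasColimitsOfShape J X.Modules := by
  have : HasColimits X.Modules := inferInstance
  infer_instance

instance : HasColimitsOfShape J (QCohCat.QCoh X) := inferInstance

instance : PreservesColimitsOfShape J (QCohCat.isQCoh X).ι := inferInstance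

/-- Sections over an affine open (given by `f : Spec R ⟶ X`) as a functor on quasi-coherent
modules. -/
def ΓQ (f : Spec R ⟶ X) [IsOpenImmersion f] : QCohCat.QCoh X ⥤ ModuleCat.{u} R :=
  (QCohCat.isQCoh X).ι ⋙ restrictFunctor f ⋙ moduleSpecΓFunctor (R := R)

instance (f : Spec R ⟶ X) [IsOpenImmersion f] : PreservesColimitsOfShape J (ΓQ f) where
  preservesColimit {D} := ⟨fun {_} hc ↦
    isColimit_Γ (D ⋙ (QCohCat.isQCoh X).ι ⋙ restrictFunctor f)
      (isColimitOfPreserves ((QCohCat.isQCoh X).ι ⋙ restrictFunctor f) hc)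
      fun j ↦ isQC_restrict f _ (D.obj j).property⟩

end Scheme

end

end Groth.Agent.Models2.QCohColim
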