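import Mathlib.AlgebraicGeometry.Properties
import Mathlib.AlgebraicGeometry.Noetherian
import Mathlib.Topology.KrullDimension
import Mathlib.RingTheory.Ideal.KrullsHeightTheorem
import Mathlib.RingTheory.Spectrum.Prime.Noetherian

/-!
# The codimension function `x ↦ dim 𝒪_{X,x}` on a scheme

* `codim X x : ℕ` : the Krull dimension of the stalk, as a natural number.
* `ringKrullDim_stalk_le` : `dim 𝒪_{X,x} ≤ dim X`.
* `codim_le` : if `topologicalKrullDim X = d` then `codim X x ≤ d`.
* `coe_codim` : `ringKrullDim (X.presheaf.stalk x) = codim X x` if `X` is locally Noetherian (or finite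
  dimensional).
* `codim_lt` : if `x ⤳ y` and not `y ⤳ x` then `codim X x < codim X y`.
-/

set_option autoImplicit false
universe u

open AlgebraicGeometry TopologicalSpace

namespace Groth.Agent.Models2.CodimStalk

variable (X : Scheme.{u})

/-- The Krull dimension of the local ring at a point is at most the dimension of the scheme. -/
theorem ringKrullDim_stalk_le (x : X) :
    ringKrullDim (X.presheaf.stalk x) ≤ topologicalKrullDim X := by
  rw [← PrimeSpectrum.topologicalKrullDim_eq_ringKrullDim]
  exact (X.fromSpecStalk x).isEmbedding.isInducing.topologicalKrullDim_le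

/-- The codimension of a point: the Krull dimension of its local ring, as a natural number (`0` if
this dimension is infinite). -/
noncomputable def codim (x : X) : ℕ := (Order.coheight x).toNat

/-- `dim 𝒪_{X,x} = codim X x` as soon as the dimension is finite. -/
theorem coe_codim_of_ne_top (x : X) (h : ringKrullDim (X.presheaf.stalk x) ≠ ⊤) :
    ringKrullDim (X.presheaf.stalk x) = (codim X x : WithBot ℕ∞) := by
  rw [ringKrullDim_stalk_eq_coheight] at h ⊢
  have h' : Order.coheight x ≠ ⊤ := fun e => h (by rw [e]; rfl)
  rw [codim]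
  obtain ⟨n, hn⟩ := ENat.ne_top_iff_exists.1 h'
  rw [← hn]
  rfl

/-- On a locally Noetherian scheme all local rings have finite dimension. -/
theorem ringKrullDim_stalk_ne_top [IsLocallyNoetherian X] (x : X) :
    ringKrullDim (X.presheaf.stalk x) ≠ ⊤ := by
  have : IsNoetherianRing (X.presheaf.stalk x) := inferInstance
  exact ringKrullDim_ne_top

/-- On a locally Noetherian scheme, `dim 𝒪_{X,x} = codim X x`. -/
theorem coe_codim [IsLocallyNoetherian X] (x : X) :
    ringKrullDim (X.presheaf.stalk x) = (codim X x : WithBot ℕ∞) :=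
  coe_codim_of_ne_top X x (ringKrullDim_stalk_ne_top X x)

/-- If `X` has dimension `d` then all codimensions are at most `d`. -/
theorem codim_le {d : ℕ} (hd : topologicalKrullDim X = d) (x : X) : codim X x ≤ d := by
  have h := ringKrullDim_stalk_le X x
  rw [hd, ringKrullDim_stalk_eq_coheight] at h
  have h' : Order.coheight x ≤ (d : ℕ∞) := by exact_mod_cast h
  exact ENat.toNat_le_of_le_natCast h'

/-- Strict specializations strictly increase the codimension. -/
theorem codim_lt_of_ne_top {x y : X} (hxy : x ⤳ y) (hyx : ¬ y ⤳ x)
    (h : ringKrullDim (X.presheaf.stalk y) ≠ ⊤) : codim X x < codim X y := by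
  rw [ringKrullDim_stalk_eq_coheight] at h
  have h' : Order.coheight y ≠ ⊤ := fun e => h (by rw [e]; rfl)
  have hlt : y < x := by
    refine lt_of_le_not_ge ?_ ?_
    · exact hxy
    · exact hyx
  have hfin : Order.coheight x < ⊤ := (Order.coheight_anti hlt.le).trans_lt (lt_top_iff_ne_top.2 h')
  have hs := Order.coheight_strictAnti hlt hfin
  obtain ⟨n, hn⟩ := ENat.ne_top_iff_exists.1 h'
  obtain ⟨m, hm⟩ := ENat.ne_top_iff_exists.1 hfin.ne
  rw [codim, codim, ← hn, ← hm]
  rw [← hn, ← hm] at hs
  simpa using hs

/-- Strict specializations strictly increase the codimension (locally Noetherian case). -/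
theorem codim_lt [IsLocallyNoetherian X] {x y : X} (hxy : x ⤳ y) (hyx : ¬ y ⤳ x) :
    codim X x < codim X y :=
  codim_lt_of_ne_top X hxy hyx (ringKrullDim_stalk_ne_top X y)

end Groth.Agent.Models2.CodimStalk
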