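import Groth.Prelude.Def_QCohCat
import Mathlib.AlgebraicGeometry.Modules.Tilde
import Mathlib.AlgebraicGeometry.Morphisms.QuasiSeparated
import Mathlib.Algebra.Category.ModuleCat.Sheaf.PullbackFree
import Mathlib.Algebra.Category.ModuleCat.Sheaf.LocallyFree
import Mathlib.AlgebraicGeometry.Morphisms.Affine
import Mathlib.Algebra.Category.ModuleCat.Colimits

/-!
Natural endomorphisms of the identity of QCoh(X), evaluated on direct images of quasi-coherent
modules from affine opens.
-/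

set_option autoImplicit false

universe u

open CategoryTheory AlgebraicGeometry Limits

namespace Groth.Agent.Models2.AffGen

/-- A natural endomorphism of the identity of `ModuleCat B` is multiplication by a scalar. -/
theorem natEnd_apply {B : CommRingCat.{u}}
    (θ : 𝟭 (ModuleCat.{u} B) ⟶ 𝟭 (ModuleCat.{u} B)) (N : ModuleCat.{u} B) (n : N) :
    (θ.app N).hom n = ((θ.app (ModuleCat.of B B)).hom (1 : B) : B) • n := by
  let g : ModuleCat.of B B ⟶ N := ModuleCat.ofHom (LinearMap.toSpanSingleton B N n)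
  have h1 := θ.naturality g
  have h2 := congrArg (fun t : ModuleCat.of B B ⟶ N => t.hom (1 : B)) h1
  simp only [Functor.id_obj, Functor.id_map, ModuleCat.hom_comp, LinearMap.comp_apply] at h2
  have h3 : g.hom (1 : B) = n := by simp [g]
  rw [h3] at h2
  rw [h2]
  simp [g]

variable {X : Scheme.{u}} {B : CommRingCat.{u}} (j : Spec B ⟶ X)

/-- the direct image of `N^~` along `j : Spec B ⟶ X`. -/
noncomputable abbrev G : ModuleCat.{u} B ⥤ X.Modules :=
  tilde.functor B ⋙ Scheme.Modules.pushforward j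

/-- the structure sheaf as a module. -/
noncomputable abbrev OX (X : Scheme.{u}) : X.Modules := SheafOfModules.unit X.ringCatSheaf

/-- the canonical map `O_X → j_* (B^~)`. -/
noncomputable def unitMap : OX X ⟶ (G j).obj (ModuleCat.of B B) :=
  SheafOfModules.unitToPushforwardObjUnit j.toRingCatSheafHom

theorem unitMap_app (U : X.Opens) (f : Γ(X, U)) :
    (unitMap j).app U (show Γ(OX X, U) from f) =
      (show Γ((G j).obj (ModuleCat.of B B), U) from
        (show Γ(tilde (ModuleCat.of B B), j ⁻¹ᵁ U) from (j.app U f : Γ(Spec B, j ⁻¹ᵁ U)))) := rfl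


theorem isQCoh_OX (X : Scheme.{u}) : QCohCat.isQCoh X (OX X) := by
  have h : QCohCat.isQCoh X (SheafOfModules.free (R := X.ringCatSheaf) PUnit.{u+1}) := by
    have : SheafOfModules.IsLocallyFree.{u} (SheafOfModules.free (R := X.ringCatSheaf) PUnit.{u+1}) := inferInstance
    unfold QCohCat.isQCoh
    infer_instance
  exact (SheafOfModules.isQuasicoherent X.ringCatSheaf).prop_of_iso
    (coproductUniqueIso (fun _ : PUnit.{u+1} => SheafOfModules.unit X.ringCatSheaf)) h

theorem toOpen_eq (W : (Spec B).Opens) (b : B) :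
    (tilde.toOpen (ModuleCat.of B B) W).hom b =
      (show Γ(tilde (ModuleCat.of B B), W) from
        (algebraMap B Γ(Spec B, W) b)) := by
  rfl


section

variable [IsOpenImmersion j]

/-- `G j` is fully faithful for an open immersion `j`. -/
noncomputable def ffG : (G j).FullyFaithful :=
  (tilde.fullyFaithfulFunctor (R := B)).comp
    ((Scheme.Modules.restrictAdjunction j).fullyFaithfulROfIsIsoCounit)

variable (hG : ∀ N : ModuleCat.{u} B, QCohCat.isQCoh X ((G j).obj N))

/-- the natural endomorphism of the identity of `ModuleCat B` induced by one of `QCoh X`. -/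
noncomputable def theta (η : 𝟭 (QCohCat.QCoh X) ⟶ 𝟭 (QCohCat.QCoh X)) :
    𝟭 (ModuleCat.{u} B) ⟶ 𝟭 (ModuleCat.{u} B) where
  app N := (ffG j).preimage (η.app ⟨(G j).obj N, hG N⟩).hom
  naturality N N' g := by
    apply (ffG j).map_injective
    have h := η.naturality (X := ⟨(G j).obj N, hG N⟩) (Y := ⟨(G j).obj N', hG N'⟩)
      (ObjectProperty.homMk ((G j).map g))
    have h' := congrArg (fun t => t.hom) h
    simp only [Functor.id_obj, Functor.id_map] at h' ⊢
    rw [Functor.map_comp, Functor.map_comp, (ffG j).map_preimage, (ffG j).map_preimage]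
    exact h'

theorem G_map_theta (η : 𝟭 (QCohCat.QCoh X) ⟶ 𝟭 (QCohCat.QCoh X)) (N : ModuleCat.{u} B) :
    (G j).map ((theta j hG η).app N) = (η.app ⟨(G j).obj N, hG N⟩).hom :=
  (ffG j).map_preimage _

/-- the scalar by which a natural endomorphism acts. -/
noncomputable def scal (η : 𝟭 (QCohCat.QCoh X) ⟶ 𝟭 (QCohCat.QCoh X)) : B :=
  ((theta j hG η).app (ModuleCat.of B B)).hom (1 : B)


/-- the value at `1` of a natural endomorphism on the structure sheaf. -/
noncomputable def glob (η : 𝟭 (QCohCat.QCoh X) ⟶ 𝟭 (QCohCat.QCoh X)) : Γ(X, ⊤) :=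
  (Scheme.Modules.Hom.app (η.app ⟨OX X, isQCoh_OX X⟩).hom ⊤) (show Γ(OX X, ⊤) from (1 : Γ(X, ⊤)))

theorem scal_eq (η : 𝟭 (QCohCat.QCoh X) ⟶ 𝟭 (QCohCat.QCoh X)) :
    algebraMap B Γ(Spec B, j ⁻¹ᵁ ⊤) (scal j hG η) = j.app ⊤ (glob η) := by
  have h := η.naturality (X := ⟨OX X, isQCoh_OX X⟩) (Y := ⟨(G j).obj (ModuleCat.of B B), hG _⟩)
      (ObjectProperty.homMk (unitMap j))
  have h' := congrArg (fun t => t.hom) h
  simp only [Functor.id_obj, Functor.id_map] at h'
  have h2 : unitMap j ≫ (η.app ⟨(G j).obj (ModuleCat.of B B), hG _⟩).hom =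
    (η.app ⟨OX X, isQCoh_OX X⟩).hom ≫ unitMap j := h'
  rw [← G_map_theta j hG] at h2
  have h3 := congrArg (fun t => (Scheme.Modules.Hom.app t ⊤) (show Γ(OX X, ⊤) from (1 : Γ(X, ⊤)))) h2
  have h4 := congrArg (fun t => t.hom (1 : B)) (tilde.toOpen_map_app
    ((theta j hG η).app (ModuleCat.of B B)) (j ⁻¹ᵁ ⊤))
  have e1 : (Scheme.Modules.Hom.app (tilde.map ((theta j hG η).app (ModuleCat.of B B))) (j ⁻¹ᵁ ⊤))
      (show Γ(tilde (ModuleCat.of B B), j ⁻¹ᵁ ⊤) from (algebraMap B Γ(Spec B, j ⁻¹ᵁ ⊤) 1)) =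
      (show Γ(tilde (ModuleCat.of B B), j ⁻¹ᵁ ⊤) from
        (algebraMap B Γ(Spec B, j ⁻¹ᵁ ⊤) (scal j hG η))) := h4
  have e2 : (Scheme.Modules.Hom.app (tilde.map ((theta j hG η).app (ModuleCat.of B B))) (j ⁻¹ᵁ ⊤))
      (show Γ(tilde (ModuleCat.of B B), j ⁻¹ᵁ ⊤) from (j.app ⊤ (1 : Γ(X, ⊤)))) =
      (show Γ(tilde (ModuleCat.of B B), j ⁻¹ᵁ ⊤) from
        (j.app ⊤ (glob η))) := h3
  rw [map_one] at e1 e2
  exact e1.symm.trans e2


theorem theta_app (hG : ∀ N : ModuleCat.{u} B, QCohCat.isQCoh X ((G j).obj N))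
    (η : 𝟭 (QCohCat.QCoh X) ⟶ 𝟭 (QCohCat.QCoh X)) (N : ModuleCat.{u} B) :
    (theta j hG η).app N = ModuleCat.ofHom (scal j hG η • (LinearMap.id : N →ₗ[B] N)) := by
  ext n
  exact natEnd_apply _ N n

/-- sections over Spec B of the restriction -/
noncomputable abbrev Nj (F : X.Modules) : ModuleCat.{u} B :=
  moduleSpecΓFunctor.obj (F.restrict j)

/-- F|_j is the tilde of its sections. -/
noncomputable def isoNj (F : X.Modules) (hF : QCohCat.isQCoh X F) :
    (tilde.functor B).obj (Nj j F) ≅ F.restrict j :=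
  haveI : F.IsQuasicoherent := hF
  haveI : (F.restrict j).IsQuasicoherent := Scheme.Modules.isQuasicoherent_restrictFunctor j F
  @asIso _ _ _ _ (F.restrict j).fromTildeΓ
    (Scheme.Modules.isIso_fromTildeΓ_of_isQuasicoherent (R := B) (F.restrict j))

/-- F ⟶ j_* (j^* F) -/
noncomputable def cj (F : X.Modules) (hF : QCohCat.isQCoh X F) : F ⟶ (G j).obj (Nj j F) :=
  (Scheme.Modules.restrictAdjunction j).homEquiv F ((tilde.functor B).obj (Nj j F))
    (isoNj j F hF).inv

/-- the adjunction bijection -/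
noncomputable abbrev hE (F : X.Modules) (N : ModuleCat.{u} B) :
    (F.restrict j ⟶ (tilde.functor B).obj N) ≃ (F ⟶ (G j).obj N) :=
  (Scheme.Modules.restrictAdjunction j).homEquiv F ((tilde.functor B).obj N)

theorem hE_nat (F : X.Modules) (hF : QCohCat.isQCoh X F) (N : ModuleCat.{u} B)
    (h : Nj j F ⟶ N) :
    hE j F N ((isoNj j F hF).inv ≫ (tilde.functor B).map h) = cj j F hF ≫ (G j).map h :=
  (Scheme.Modules.restrictAdjunction j).homEquiv_naturality_right
    (isoNj j F hF).inv ((tilde.functor B).map h)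

theorem hE_zero (F : X.Modules) (N : ModuleCat.{u} B) : hE j F N 0 = 0 := by
  rw [Adjunction.homEquiv_unit, Functor.map_zero, comp_zero]

theorem exists_fac (F : X.Modules) (hF : QCohCat.isQCoh X F) (N : ModuleCat.{u} B)
    (ψ : F ⟶ (G j).obj N) : ∃ h : Nj j F ⟶ N, ψ = cj j F hF ≫ (G j).map h := by
  refine ⟨(tilde.functor B).preimage ((isoNj j F hF).hom ≫ (hE j F N).symm ψ), ?_⟩
  rw [← hE_nat, Functor.map_preimage, Iso.inv_hom_id_assoc]
  exact ((hE j F N).apply_symm_apply ψ).symm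

theorem eq_zero_of_fac (F : X.Modules) (hF : QCohCat.isQCoh X F) (N : ModuleCat.{u} B)
    (h : Nj j F ⟶ N) (h0 : cj j F hF ≫ (G j).map h = 0) : h = 0 := by
  rw [← hE_nat] at h0
  have h4 := (hE j F N).injective (h0.trans (hE_zero j F N).symm)
  have h5 : (tilde.functor B).map h = 0 := by
    rw [← (isoNj j F hF).hom_inv_id_assoc ((tilde.functor B).map h), h4, comp_zero]
  exact (tilde.functor B).map_injective (h5.trans (Functor.map_zero _ _ _).symm)


end

section
variable {X : Scheme.{u}} {B : CommRingCat.{u}} (j : Spec B ⟶ X)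

theorem localized_eq_zero (N : Type u) [AddCommGroup N] [Module B N] (J : Ideal B)
    (hJ : ∀ b ∈ J, ∀ n : N, b • n = 0)
    (z : PrimeSpectrum B) (hz : ¬ J ≤ z.asIdeal) (a : LocalizedModule z.asIdeal.primeCompl N) :
    a = 0 := by
  obtain ⟨b, hb, hbz⟩ := Set.not_subset.1 hz
  induction a using LocalizedModule.induction_on with
  | h m s =>
    rw [← LocalizedModule.zero_mk s, LocalizedModule.mk_eq]
    refine ⟨⟨b, hbz⟩, ?_⟩
    rw [smul_zero, smul_zero]
    exact hJ b hb _

theorem subsingleton_tilde (N : ModuleCat.{u} B) (J : Ideal B)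
    (hJ : ∀ b ∈ J, ∀ n : N, b • n = 0) (W : (Spec B).Opens)
    (hW : ∀ z : PrimeSpectrum B, z ∈ W → ¬ J ≤ z.asIdeal) :
    Subsingleton Γ(tilde N, W) := by
  refine ⟨fun s t => ?_⟩
  refine Subtype.ext (funext fun z => ?_)
  exact (localized_eq_zero N J hJ z.1 (hW z.1 z.2) _).trans
    (localized_eq_zero N J hJ z.1 (hW z.1 z.2) _).symm

theorem subsingleton_G (N : ModuleCat.{u} B) (J : Ideal B)
    (hJ : ∀ b ∈ J, ∀ n : N, b • n = 0) (W : X.Opens)
    (hW : ∀ z : PrimeSpectrum B, j z ∈ W → ¬ J ≤ z.asIdeal) :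
    Subsingleton Γ((G j).obj N, W) :=
  subsingleton_tilde N J hJ (j ⁻¹ᵁ W) hW

theorem app_injective_of_mono {C T : X.Modules} (m : C ⟶ T) [Mono m] (W : X.Opens) :
    Function.Injective (m.app W) := by
  have h1 : Mono ((Scheme.Modules.toPresheaf X).map m) := inferInstance
  have h2 : Mono (((Scheme.Modules.toPresheaf X).map m).app (.op W)) := inferInstance
  exact (AddCommGrpCat.mono_iff_injective _).1 h2

variable [IsOpenImmersion j]

theorem eq_zero_of_kernel {F T : X.Modules} (π : F ⟶ T) (N : ModuleCat.{u} B)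
    (ψ : F ⟶ (G j).obj N)
    (hT : ∀ W : X.Opens, W ≤ j.opensRange → Subsingleton Γ(T, W))
    (h0 : kernel.ι π ≫ ψ = 0) : ψ = 0 := by
  have e1 : ψ = cokernel.π (kernel.ι π) ≫ cokernel.desc (kernel.ι π) ψ h0 := by simp
  have hm : Mono (Abelian.factorThruCoimage π) := inferInstance
  have hC : ∀ W : X.Opens, W ≤ j.opensRange → Subsingleton Γ(Abelian.coimage π, W) := by
    intro W hW
    have := hT W hW
    exact (app_injective_of_mono (Abelian.factorThruCoimage π) W).subsingleton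
  have hz : ∀ h : Abelian.coimage π ⟶ (G j).obj N, h = 0 := by
    intro h
    have : (hE j _ N).symm h = 0 := by
      ext W s
      have h1 : Subsingleton Γ(Abelian.coimage π, j ''ᵁ W) := hC _ (Scheme.Hom.image_le_opensRange j W)
      have h2 : s = 0 := Subsingleton.elim (α := Γ(Abelian.coimage π, j ''ᵁ W)) _ _
      rw [h2, map_zero, map_zero]
    rw [← (hE j _ N).apply_symm_apply h, this, hE_zero]
  rw [e1, hz (cokernel.desc (kernel.ι π) ψ h0), comp_zero]
end

section
variable {X : Scheme.{u}} {B : CommRingCat.{u}} (j : Spec B ⟶ X) [IsOpenImmersion j]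

theorem mem_basicOpen_iff (hG : ∀ N : ModuleCat.{u} B, QCohCat.isQCoh X ((G j).obj N))
    (η : 𝟭 (QCohCat.QCoh X) ⟶ 𝟭 (QCohCat.QCoh X)) (z : PrimeSpectrum B) :
    j z ∈ X.basicOpen (glob η) ↔ scal j hG η ∉ z.asIdeal := by
  have h1 : j z ∈ X.basicOpen (glob η) ↔ z ∈ j ⁻¹ᵁ (X.basicOpen (glob η)) := Iff.rfl
  rw [h1, Scheme.preimage_basicOpen, ← scal_eq j hG]
  have h2 : (Spec B).basicOpen (algebraMap B Γ(Spec B, j ⁻¹ᵁ ⊤) (scal j hG η)) =
    PrimeSpectrum.basicOpen (scal j hG η) := basicOpen_eq_of_affine (scal j hG η)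
  rw [h2]
  rfl

/-- multiplication by `b` on `N`. -/
abbrev mulB {B : CommRingCat.{u}} (b : B) (N : ModuleCat.{u} B) : N ⟶ N :=
  ModuleCat.ofHom (b • (LinearMap.id : N →ₗ[B] N))

theorem hom_comp_eta (hG : ∀ N : ModuleCat.{u} B, QCohCat.isQCoh X ((G j).obj N))
    (η : 𝟭 (QCohCat.QCoh X) ⟶ 𝟭 (QCohCat.QCoh X)) (F : QCohCat.QCoh X) (N : ModuleCat.{u} B)
    (ψ : F.obj ⟶ (G j).obj N) :
    (η.app F).hom ≫ ψ = ψ ≫ (G j).map (mulB (scal j hG η) N) := by
  have h := η.naturality (X := F) (Y := ⟨(G j).obj N, hG _⟩) (ObjectProperty.homMk ψ)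
  have h' := congrArg (fun t => t.hom) h
  have e : (G j).map (mulB (scal j hG η) N) = (η.app ⟨(G j).obj N, hG N⟩).hom := by
    rw [← G_map_theta, theta_app]
  rw [e]
  exact h'.symm

/-- `M / J M`. -/
noncomputable def quot {B : CommRingCat.{u}} (M : ModuleCat.{u} B) (J : Ideal B) :
    ModuleCat.{u} B := ModuleCat.of B (M ⧸ (J • ⊤ : Submodule B M))

/-- `M ⟶ M / J M`. -/
noncomputable def quotMk {B : CommRingCat.{u}} (M : ModuleCat.{u} B) (J : Ideal B) :
    M ⟶ quot M J := ModuleCat.ofHom (Submodule.mkQ _)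

theorem quot_smul {B : CommRingCat.{u}} (M : ModuleCat.{u} B) (J : Ideal B) (b : B) (hb : b ∈ J)
    (n : quot M J) : b • n = 0 := by
  obtain ⟨m, rfl⟩ := Submodule.mkQ_surjective _ n
  exact (Submodule.Quotient.mk_eq_zero (J • ⊤ : Submodule B M) (x := b • m)).2
    (Submodule.smul_mem_smul hb trivial)

theorem quotMk_fac {B : CommRingCat.{u}} (M : ModuleCat.{u} B) (J p : Ideal B) (hJ : J ≤ p)
    (h : M ⟶ ModuleCat.of B (B ⧸ p)) : ∃ h' : quot M J ⟶ ModuleCat.of B (B ⧸ p),
      h = quotMk M J ≫ h' := by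
  have hk : (J • ⊤ : Submodule B M) ≤ LinearMap.ker h.hom := by
    rw [Submodule.smul_le]
    intro b hb m _
    rw [LinearMap.mem_ker, map_smul]
    obtain ⟨a, ha⟩ := Ideal.Quotient.mk_surjective (h.hom m)
    rw [← ha]
    change b • (Ideal.Quotient.mk p a) = 0
    rw [Algebra.smul_def, Ideal.Quotient.algebraMap_eq, Ideal.Quotient.eq_zero_iff_mem.2 (hJ hb),
      zero_mul]
  refine ⟨ModuleCat.ofHom (Submodule.liftQ _ h.hom hk), ?_⟩
  ext m
  rfl

theorem mulB_eq_zero {B : CommRingCat.{u}} (p : Ideal B) (b : B) (hb : b ∈ p) :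
    mulB b (ModuleCat.of B (B ⧸ p)) = 0 := by
  apply ModuleCat.hom_ext
  refine LinearMap.ext fun n => ?_
  obtain ⟨a, rfl⟩ := Ideal.Quotient.mk_surjective n
  change b • (Ideal.Quotient.mk p a) = 0
  rw [Algebra.smul_def, Ideal.Quotient.algebraMap_eq, Ideal.Quotient.eq_zero_iff_mem.2 hb,
    zero_mul]

theorem eq_zero_of_comp_mulB {B : CommRingCat.{u}} (M : ModuleCat.{u} B) (p : Ideal B)
    (hp : p.IsPrime) (b : B) (hb : b ∉ p)
    (h : M ⟶ ModuleCat.of B (B ⧸ p)) (h0 : h ≫ mulB b _ = 0) : h = 0 := by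
  apply ModuleCat.hom_ext
  refine LinearMap.ext fun m => ?_
  have e5 := congrArg (fun t => t.hom m) h0
  obtain ⟨a, ha⟩ := Ideal.Quotient.mk_surjective (h.hom m)
  have e6 : b • (Ideal.Quotient.mk p a) = 0 := by
    rw [ha]; exact e5
  rw [Algebra.smul_def, Ideal.Quotient.algebraMap_eq, ← map_mul,
    Ideal.Quotient.eq_zero_iff_mem] at e6
  have e7 := (hp.mem_or_mem e6).resolve_left hb
  rw [← ha, Ideal.Quotient.eq_zero_iff_mem.2 e7]
  rfl

instance : (G j).Additive := inferInstance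

theorem id_G_ne_zero (N : ModuleCat.{u} B) [Nontrivial N] : 𝟙 ((G j).obj N) ≠ 0 := by
  intro h
  have h1 : (G j).map (𝟙 N) = (G j).map 0 := by
    rw [CategoryTheory.Functor.map_id, h, Functor.map_zero]
  have h2 := (ffG j).map_injective h1
  obtain ⟨n, hn⟩ := exists_ne (0 : N)
  exact hn (congrArg (fun t : N ⟶ N => t.hom n) h2)
end

section key

variable {X : Scheme.{u}} {A B : CommRingCat.{u}} (i : Spec A ⟶ X) [IsOpenImmersion i]
  (j : Spec B ⟶ X) [IsOpenImmersion j]

theorem key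
    (hker : ∀ {F F' : X.Modules} (f : F ⟶ F'), QCohCat.isQCoh X F → QCohCat.isQCoh X F' →
      QCohCat.isQCoh X (kernel f))
    (hGi : ∀ N : ModuleCat.{u} A, QCohCat.isQCoh X ((G i).obj N))
    (hGj : ∀ N : ModuleCat.{u} B, QCohCat.isQCoh X ((G j).obj N))
    (P : QCohCat.QCoh X)
    (hsep : ∀ {F F' : QCohCat.QCoh X} (v : F.obj ⟶ F'.obj), v ≠ 0 →
      ∃ g : P.obj ⟶ F.obj, g ≫ v ≠ 0)
    {R : Type u} (η : R → (𝟭 (QCohCat.QCoh X) ⟶ 𝟭 (QCohCat.QCoh X)))
    (hend : ∀ φ : P.obj ⟶ P.obj, ∃ r : R, ((η r).app P).hom = φ)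
    (y : PrimeSpectrum A) :
    ∃ r : R, i y ∈ X.basicOpen (glob (η r)) ∧
      ∀ z : PrimeSpectrum B, j z ∈ X.basicOpen (glob (η r)) → j z ∈ i.opensRange := by
  -- a nonzero map `P ⟶ i_* (A/y)~`
  let Ny : ModuleCat.{u} A := ModuleCat.of A (A ⧸ y.asIdeal)
  obtain ⟨ψ, hψ⟩ := hsep (F := ⟨(G i).obj Ny, hGi _⟩) (F' := ⟨(G i).obj Ny, hGi _⟩)
    (𝟙 ((G i).obj Ny)) (id_G_ne_zero i Ny)
  rw [Category.comp_id] at hψ
  -- the closed complement of `i` inside `Spec B`
  let J : Ideal B := PrimeSpectrum.vanishingIdeal {z : PrimeSpectrum B | j z ∉ i.opensRange}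
  have hJclosed : IsClosed {z : PrimeSpectrum B | j z ∉ i.opensRange} :=
    ((j ⁻¹ᵁ i.opensRange).isOpen).isClosed_compl
  have hJmem : ∀ z : PrimeSpectrum B, J ≤ z.asIdeal → j z ∉ i.opensRange := by
    intro z hz
    have h1 : z ∈ PrimeSpectrum.zeroLocus (J : Set B) := hz
    rw [PrimeSpectrum.zeroLocus_vanishingIdeal_eq_closure, hJclosed.closure_eq] at h1
    exact h1
  let π : P.obj ⟶ (G j).obj (quot (Nj j P.obj) J) :=
    cj j P.obj P.property ≫ (G j).map (quotMk (Nj j P.obj) J)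
  have hT : ∀ W : X.Opens, W ≤ i.opensRange →
      Subsingleton Γ((G j).obj (quot (Nj j P.obj) J), W) := by
    intro W hW
    refine subsingleton_G j _ J (quot_smul _ J) W ?_
    intro z hz hJz
    exact hJmem z hJz (hW hz)
  have hne : kernel.ι π ≫ ψ ≠ 0 := fun h => hψ (eq_zero_of_kernel i π Ny ψ hT h)
  obtain ⟨g, hg⟩ := hsep (F := ⟨kernel π, hker π P.property (hGj _)⟩) (F' := ⟨(G i).obj Ny, hGi _⟩)
    (kernel.ι π ≫ ψ) hne
  obtain ⟨r, hr⟩ := hend (g ≫ kernel.ι π)
  refine ⟨r, ?_, ?_⟩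
  · rw [mem_basicOpen_iff i hGi]
    intro hmem
    apply hg
    rw [← Category.assoc, ← hr, hom_comp_eta i hGi (η r) P Ny ψ, mulB_eq_zero _ _ hmem,
      Functor.map_zero, comp_zero]
  · intro z hz
    by_contra hzU
    rw [mem_basicOpen_iff j hGj] at hz
    have hJz : J ≤ z.asIdeal := by
      intro b hb
      rw [PrimeSpectrum.mem_vanishingIdeal] at hb
      exact hb z hzU
    let Nz : ModuleCat.{u} B := ModuleCat.of B (B ⧸ z.asIdeal)
    obtain ⟨χ, hχ⟩ := hsep (F := ⟨(G j).obj Nz, hGj _⟩) (F' := ⟨(G j).obj Nz, hGj _⟩)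
      (𝟙 ((G j).obj Nz)) (id_G_ne_zero j Nz)
    rw [Category.comp_id] at hχ
    obtain ⟨h, hh⟩ := exists_fac j P.obj P.property Nz χ
    obtain ⟨h', hfac⟩ := quotMk_fac _ J z.asIdeal hJz h
    have e1 : χ = π ≫ (G j).map h' := by
      rw [hh, hfac, Functor.map_comp, Category.assoc]
    have e2 : ((η r).app P).hom ≫ χ = 0 := by
      rw [hr, e1, Category.assoc, kernel.condition_assoc, zero_comp, comp_zero]
    rw [hom_comp_eta j hGj (η r) P Nz χ, hh, Category.assoc, ← Functor.map_comp] at e2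
    have e3 := eq_zero_of_fac j P.obj P.property Nz _ e2
    have e4 : h = 0 := eq_zero_of_comp_mulB _ z.asIdeal z.isPrime _ hz h e3
    apply hχ
    rw [hh, e4, Functor.map_zero, comp_zero]

end key


section equiv

variable {X : Scheme.{u}} {R : Type u} [CommRing R] (e : QCohCat.QCoh X ≌ ModuleCat.{u} R)

/-- the natural endomorphism of the identity given by a scalar. -/
noncomputable def eta (r : R) : 𝟭 (QCohCat.QCoh X) ⟶ 𝟭 (QCohCat.QCoh X) where
  app F := e.fullyFaithfulFunctor.preimage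
    (ModuleCat.ofHom (r • (LinearMap.id : e.functor.obj F →ₗ[R] e.functor.obj F)))
  naturality F F' f := by
    apply e.fullyFaithfulFunctor.map_injective
    simp only [Functor.id_map, Functor.map_comp]
    rw [e.fullyFaithfulFunctor.map_preimage, e.fullyFaithfulFunctor.map_preimage]
    ext m
    simp

theorem map_eta (r : R) (F : QCohCat.QCoh X) : e.functor.map ((eta e r).app F) =
    ModuleCat.ofHom (r • (LinearMap.id : e.functor.obj F →ₗ[R] e.functor.obj F)) :=
  e.fullyFaithfulFunctor.map_preimage _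

theorem eta_one : eta e 1 = 𝟙 _ := by
  refine NatTrans.ext (funext fun F => e.fullyFaithfulFunctor.map_injective ?_)
  rw [map_eta]
  ext m
  simp

theorem eta_mul (r s : R) (F : QCohCat.QCoh X) :
    (eta e (r * s)).app F = (eta e r).app F ≫ (eta e s).app F := by
  apply e.fullyFaithfulFunctor.map_injective
  rw [Functor.map_comp, map_eta, map_eta, map_eta]
  ext m
  simp [mul_smul, smul_comm r s]

theorem additive_functor : e.functor.Additive := by
  have h1 : e.inverse.Additive := by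
    have := preservesBinaryBiproducts_of_preservesBinaryProducts e.inverse
    exact Functor.additive_of_preservesBinaryBiproducts _
  have : e.symm.functor.Additive := h1
  exact (inferInstance : e.symm.inverse.Additive)

theorem eta_add (r s : R) (F : QCohCat.QCoh X) :
    (eta e (r + s)).app F = (eta e r).app F + (eta e s).app F := by
  have := additive_functor e
  apply e.fullyFaithfulFunctor.map_injective
  rw [Functor.map_add, map_eta, map_eta, map_eta]
  ext m
  simp [add_smul]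

theorem app_eq_mul (φ : OX X ⟶ OX X) (f : Γ(X, ⊤)) :
    (φ.app ⊤ (show Γ(OX X, ⊤) from f)) =
      (show Γ(OX X, ⊤) from (f * (show Γ(X, ⊤) from
        (φ.app ⊤ (show Γ(OX X, ⊤) from (1 : Γ(X, ⊤))))) : Γ(X, ⊤))) := by
  have h := φ.app_smul f (show Γ(OX X, ⊤) from (1 : Γ(X, ⊤)))
  have h2 : f • (show Γ(OX X, ⊤) from (1 : Γ(X, ⊤))) = (show Γ(OX X, ⊤) from f) :=
    mul_one (M := Γ(X, ⊤)) f
  rw [h2] at h
  exact h

/-- the ring homomorphism from `R` to global functions. -/
noncomputable def globHom : R →+* Γ(X, ⊤) where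
  toFun r := glob (eta e r)
  map_one' := by
    rw [eta_one]
    rfl
  map_mul' r s := by
    have h1 := app_eq_mul ((eta e s).app ⟨OX X, isQCoh_OX X⟩).hom (glob (eta e r))
    have h2 : glob (eta e (r * s)) =
      (show Γ(X, ⊤) from (((eta e s).app ⟨OX X, isQCoh_OX X⟩).hom.app ⊤
        (show Γ(OX X, ⊤) from glob (eta e r)))) := by
      unfold glob
      rw [eta_mul]
      rfl
    exact h2.trans h1
  map_add' r s := by
    unfold glob
    rw [eta_add]
    rfl
  map_zero' := by
    have h : (eta e 0).app ⟨OX X, isQCoh_OX X⟩ = 0 := by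
      have := additive_functor e
      apply e.fullyFaithfulFunctor.map_injective
      rw [Functor.map_zero, map_eta]
      ext m
      simp
    unfold glob
    rw [h]
    rfl

end equiv


section final

variable {X : Scheme.{u}} {R : Type u} [CommRing R] (e : QCohCat.QCoh X ≌ ModuleCat.{u} R)

/-- the generator. -/
noncomputable abbrev gen : QCohCat.QCoh X := e.inverse.obj (ModuleCat.of R R)

theorem gen_sep {F F' : QCohCat.QCoh X} (v : F.obj ⟶ F'.obj) (hv : v ≠ 0) :
    ∃ g : (gen e).obj ⟶ F.obj, g ≫ v ≠ 0 := by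
  have := additive_functor e
  let v' : F ⟶ F' := ObjectProperty.homMk v
  have hv' : e.functor.map v' ≠ 0 := by
    intro h
    apply hv
    have h1 : v' = 0 := e.functor.map_injective (h.trans (Functor.map_zero _ _ _).symm)
    exact congrArg (fun t => t.hom) h1
  obtain ⟨m, hm⟩ : ∃ m, (e.functor.map v').hom m ≠ 0 := by
    by_contra hcon
    push Not at hcon
    exact hv' (ModuleCat.hom_ext (LinearMap.ext hcon))
  let h : ModuleCat.of R R ⟶ e.functor.obj F :=
    ModuleCat.ofHom (LinearMap.toSpanSingleton R _ m)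
  let g' : gen e ⟶ F := (e.symm.toAdjunction.homEquiv (ModuleCat.of R R) F).symm h
  refine ⟨g'.hom, fun h0 => hm ?_⟩
  have h1 : g' ≫ v' = 0 := ObjectProperty.hom_ext _ h0
  have h2 : h ≫ e.functor.map v' = 0 := by
    have h3 := e.symm.toAdjunction.homEquiv_naturality_right g' v'
    have h4 : (e.symm.toAdjunction.homEquiv (ModuleCat.of R R) F) g' = h :=
      Equiv.apply_symm_apply _ _
    have h3' : (e.symm.toAdjunction.homEquiv (ModuleCat.of R R) F') (g' ≫ v') =
        (e.symm.toAdjunction.homEquiv (ModuleCat.of R R) F) g' ≫ e.functor.map v' := h3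
    rw [h4] at h3'
    rw [← h3', h1, Adjunction.homEquiv_unit]
    have : e.symm.inverse.map (0 : gen e ⟶ F') = 0 := e.functor.map_zero _ _
    rw [this, comp_zero]
  have h5 := congrArg (fun t => t.hom (1 : R)) h2
  simpa [h] using h5

theorem gen_end (φ : (gen e).obj ⟶ (gen e).obj) : ∃ r : R, ((eta e r).app (gen e)).hom = φ := by
  let φ' : gen e ⟶ gen e := ObjectProperty.homMk φ
  let c : e.functor.obj (gen e) ≅ ModuleCat.of R R := e.counitIso.app (ModuleCat.of R R)
  let ψ : ModuleCat.of R R ⟶ ModuleCat.of R R := c.inv ≫ e.functor.map φ' ≫ c.hom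
  refine ⟨ψ.hom (1 : R), ?_⟩
  have h1 : (eta e (ψ.hom (1 : R))).app (gen e) = φ' := by
    apply e.fullyFaithfulFunctor.map_injective
    rw [map_eta]
    have h2 : e.functor.map φ' = c.hom ≫ ψ ≫ c.inv := by simp [ψ]
    rw [h2]
    have h3 : ψ = ModuleCat.ofHom ((ψ.hom (1 : R)) • (LinearMap.id : R →ₗ[R] R)) := by
      apply ModuleCat.hom_ext
      refine LinearMap.ext_ring ?_
      simp
    generalize ψ.hom (1 : R) = r at h3
    rw [h3]
    apply (cancel_mono c.hom).1
    simp only [Category.assoc, Iso.inv_hom_id, Category.comp_id]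
    ext m
    simp
  rw [h1]
  rfl

end final


section main

variable {X : Scheme.{u}} {R : Type u} [CommRing R] (e : QCohCat.QCoh X ≌ ModuleCat.{u} R)

theorem mem_basicOpen_prod {ι : Type*} (ρ : ι → R) (t : Finset ι) (w : X) :
    w ∈ X.basicOpen (globHom e (∏ V ∈ t, ρ V)) ↔
      ∀ V ∈ t, w ∈ X.basicOpen (globHom e (ρ V)) := by
  classical
  induction t using Finset.induction_on with
  | empty =>
    simp only [Finset.prod_empty, map_one]
    rw [Scheme.basicOpen_of_isUnit _ isUnit_one]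
    simp
  | insert a t ha ih =>
    rw [Finset.prod_insert ha, map_mul, Scheme.basicOpen_mul, Finset.forall_mem_insert]
    exact and_congr Iff.rfl ih

theorem stepA [CompactSpace X]
    (hker : ∀ {F F' : X.Modules} (f : F ⟶ F'), QCohCat.isQCoh X F → QCohCat.isQCoh X F' →
      QCohCat.isQCoh X (kernel f))
    (hG : ∀ {B : CommRingCat.{u}} (j : Spec B ⟶ X) [IsOpenImmersion j] (N : ModuleCat.{u} B),
      QCohCat.isQCoh X ((G j).obj N)) (x : X) :
    ∃ r : R, x ∈ X.basicOpen (globHom e r) ∧ IsAffineOpen (X.basicOpen (globHom e r)) := by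
  obtain ⟨U, hU, hxU, -⟩ :=
    exists_isAffineOpen_mem_and_subset (U := (⊤ : X.Opens)) (x := x) trivial
  obtain ⟨s, hs, hcov⟩ := (isCompact_iff_finite_and_eq_biUnion_affineOpens
    (U := (⊤ : X.Opens))).1 CompactSpace.isCompact_univ
  obtain ⟨y, hy⟩ : ∃ y, hU.fromSpec y = x := by
    have : x ∈ Set.range hU.fromSpec := by
      rw [hU.range_fromSpec]
      exact hxU
    exact this
  have hkey : ∀ V : X.affineOpens, ∃ r : R, x ∈ X.basicOpen (globHom e r) ∧
      ∀ w ∈ V.1, w ∈ X.basicOpen (globHom e r) → w ∈ U := by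
    rintro ⟨V, hV⟩
    have hV' : IsAffineOpen V := hV
    obtain ⟨r, h1, h2⟩ := key hU.fromSpec hV'.fromSpec hker (hG _) (hG _) (gen e)
      (gen_sep e) (eta e) (gen_end e) y
    refine ⟨r, ?_, ?_⟩
    · rw [← hy]
      exact h1
    · intro w hwV hw
      obtain ⟨z, rfl⟩ : ∃ z, hV'.fromSpec z = w := by
        have : w ∈ Set.range hV'.fromSpec := by
          rw [hV'.range_fromSpec]
          exact hwV
        exact this
      have h3 := h2 z hw
      rwa [hU.opensRange_fromSpec] at h3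
  choose ρ hρ1 hρ2 using hkey
  refine ⟨∏ V ∈ hs.toFinset, ρ V, ?_, ?_⟩
  · rw [mem_basicOpen_prod]
    exact fun V _ => hρ1 V
  · have hle : X.basicOpen (globHom e (∏ V ∈ hs.toFinset, ρ V)) ≤ U := by
      intro w hw
      have hw' := (mem_basicOpen_prod e ρ hs.toFinset w).1 hw
      have hwt : w ∈ (⊤ : X.Opens) := trivial
      rw [hcov] at hwt
      simp only [TopologicalSpace.Opens.mem_iSup] at hwt
      obtain ⟨V, hV, hwV⟩ := hwt
      exact hρ2 V w hwV (hw' V (hs.mem_toFinset.2 hV))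
    have h1 := hU.basicOpen (X.presheaf.map (homOfLE (le_top : U ≤ ⊤)).op
      (globHom e (∏ V ∈ hs.toFinset, ρ V)))
    rw [Scheme.basicOpen_res] at h1
    rwa [inf_eq_right.2 hle] at h1

theorem exists_nontrivial (F : X.Modules) (hF : 𝟙 F ≠ 0) :
    ∃ (B : CommRingCat.{u}) (j : Spec B ⟶ X) (_ : IsOpenImmersion j), Nontrivial (Nj j F) := by
  by_contra hcon
  push Not at hcon
  apply hF
  have hV : ∀ V : X.Opens, IsAffineOpen V → Subsingleton Γ(F, V) := by
    intro V hV
    have h1 := hcon _ hV.fromSpec inferInstance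
    have h2 : Subsingleton Γ(F, hV.fromSpec ''ᵁ ⊤) := h1
    have h3 : hV.fromSpec ''ᵁ ⊤ = V := by
      rw [Scheme.Hom.image_top_eq_opensRange, hV.opensRange_fromSpec]
    rwa [h3] at h2
  ext U s
  rw [Scheme.Modules.Hom.id_app]
  change s = 0
  apply TopCat.Presheaf.IsSheaf.section_ext F.isSheaf
  intro x hxU
  obtain ⟨V, hVaff, hxV, hVU⟩ := exists_isAffineOpen_mem_and_subset hxU
  refine ⟨V, hVU, hxV, ?_⟩
  have := hV V hVaff
  exact Subsingleton.elim _ _

include e in
theorem isAffine_main [CompactSpace X]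
    (hker : ∀ {F F' : X.Modules} (f : F ⟶ F'), QCohCat.isQCoh X F → QCohCat.isQCoh X F' →
      QCohCat.isQCoh X (kernel f))
    (hG : ∀ {B : CommRingCat.{u}} (j : Spec B ⟶ X) [IsOpenImmersion j] (N : ModuleCat.{u} B),
      QCohCat.isQCoh X ((G j).obj N)) : IsAffine X := by
  let S : Set R := {r | IsAffineOpen (X.basicOpen (globHom e r))}
  have hS : Ideal.span S = ⊤ := by
    by_contra hne
    let F : QCohCat.QCoh X := e.inverse.obj (ModuleCat.of R (R ⧸ Ideal.span S))
    have : Nontrivial (R ⧸ Ideal.span S) := Ideal.Quotient.nontrivial_iff.2 hne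
    let c : e.functor.obj F ≅ ModuleCat.of R (R ⧸ Ideal.span S) := e.counitIso.app _
    have hF : 𝟙 F.obj ≠ 0 := by
      have := additive_functor e
      intro h
      have h1 : 𝟙 F = 0 := ObjectProperty.hom_ext _ h
      have h2 : 𝟙 (e.functor.obj F) = 0 := by
        rw [← e.functor.map_id, h1, Functor.map_zero]
      have h3 : 𝟙 (ModuleCat.of R (R ⧸ Ideal.span S)) = 0 := by
        rw [← c.inv_hom_id, ← Category.id_comp c.hom, h2, zero_comp, comp_zero]
      obtain ⟨n, hn⟩ := exists_ne (0 : R ⧸ Ideal.span S)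
      exact hn (congrArg (fun t => t.hom n) h3)
    obtain ⟨B, j, hj, hnt⟩ := exists_nontrivial F.obj hF
    have hann : ∀ r ∈ Ideal.span S, mulB (scal j (hG j) (eta e r)) (Nj j F.obj) = 0 := by
      intro r hr
      have h0 : (eta e r).app F = 0 := by
        have := additive_functor e
        apply e.fullyFaithfulFunctor.map_injective
        rw [map_eta, Functor.map_zero]
        apply (cancel_mono c.hom).1
        rw [zero_comp]
        apply ModuleCat.hom_ext
        refine LinearMap.ext fun m => ?_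
        change c.hom.hom (r • m) = 0
        rw [map_smul]
        obtain ⟨a, ha⟩ := Ideal.Quotient.mk_surjective (c.hom.hom m)
        rw [← ha]
        change r • (Ideal.Quotient.mk (Ideal.span S) a) = 0
        rw [Algebra.smul_def, Ideal.Quotient.algebraMap_eq, Ideal.Quotient.eq_zero_iff_mem.2 hr,
          zero_mul]
      apply eq_zero_of_fac j F.obj F.property
      rw [← hom_comp_eta j (hG j) (eta e r) F, h0]
      exact zero_comp
    have hAnn : Module.annihilator B (Nj j F.obj) ≠ ⊤ := by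
      intro h
      rw [Module.annihilator_eq_top_iff] at h
      exact not_nontrivial _ hnt
    obtain ⟨m, hm, hle⟩ := Ideal.exists_le_maximal _ hAnn
    let z : PrimeSpectrum B := ⟨m, hm.isPrime⟩
    obtain ⟨r, hr1, hr2⟩ := stepA e hker hG (j z)
    have h1 := (mem_basicOpen_iff j (hG j) (eta e r) z).1 hr1
    apply h1
    apply hle
    rw [Module.mem_annihilator]
    intro n
    exact congrArg (fun t => t.hom n) (hann r (Ideal.subset_span hr2))
  refine isAffine_of_isAffineOpen_basicOpen (globHom e '' S) ?_ ?_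
  · rw [← Ideal.map_span, hS, Ideal.map_top]
  · rintro _ ⟨r, hr, rfl⟩
    exact hr

end main

end Groth.Agent.Models2.AffGen
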