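import Mathlib.AlgebraicGeometry.AffineTransitionLimit
import Groth.Agent.CohqB.AmpRefine
import Groth.Agent.CohqB.AmpBridge

/-!
# Ampleness and limits of schemes (Stacks 09MT)

Let `X = lim X_j` be a cofiltered limit of qcqs schemes with affine transition maps and let `L` be an
invertible module on a stage `X_i`, whose pullback to `X` is ample.  Then the pullback of `L` to some
`X_j`, `j ⟶ i`, is ample.
-/

set_option autoImplicit false

universe u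

open CategoryTheory Limits AlgebraicGeometry TopologicalSpace
open Groth.Agent.CohqB.AmpCocycle

namespace Groth.Agent.Models2.AmpleLim

section

variable {I : Type u} [Category.{u} I] (D : I ⥤ Scheme.{u}) (c : Cone D)

theorem π_preimage {i j : I} (a : j ⟶ i) (U : (D.obj i).Opens) :
    c.π.app j ⁻¹ᵁ (D.map a ⁻¹ᵁ U) = c.π.app i ⁻¹ᵁ U :=
  congr($(c.w a) ⁻¹ᵁ U)

theorem map_preimage {i j k : I} (a : j ⟶ i) (b : k ⟶ j) (U : (D.obj i).Opens) :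
    D.map b ⁻¹ᵁ (D.map a ⁻¹ᵁ U) = D.map (b ≫ a) ⁻¹ᵁ U := by
  rw [D.map_comp]; rfl

variable [IsCofiltered I] (hc : IsLimit c) [∀ {i j} (f : i ⟶ j), IsAffineHom (D.map f)]

set_option backward.defeqAttrib.useBackward true in
set_option backward.isDefEq.respectTransparency false in
open Scheme.Opens in
include hc in
/-- Functions on the preimage of an affine open of a stage come from a further stage. -/
theorem exists_pl_eq {i : I} (U : (D.obj i).Opens) (hU : IsAffineOpen U)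
    (s : Γ(c.pt, c.π.app i ⁻¹ᵁ U)) :
    ∃ (j : I) (a : j ⟶ i) (t : Γ(D.obj j, D.map a ⁻¹ᵁ U)),
      pl (c.π.app j) (D.map a ⁻¹ᵁ U) (c.π.app i ⁻¹ᵁ U) (π_preimage D c a U).ge t = s := by
  have (j : _) : IsAffine ((opensDiagram D i U).op.obj j).unop := hU.preimage _
  have (j : _) : IsAffine ((opensDiagram D i U).obj j) := hU.preimage _
  obtain ⟨⟨j⟩, t, ht⟩ := (Types.jointly_surjective_of_isColimit (isColimitOfPreserves
    (Scheme.Γ ⋙ forget _) (isLimitOpensCone D c hc i U).op) ((c.π.app i ⁻¹ᵁ U).topIso.inv s))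
  obtain ⟨t, rfl⟩ := (D.map j.hom ⁻¹ᵁ U).topIso.symm.commRingCatIsoToRingEquiv.surjective t
  have h : c.π.app j.left ⁻¹ᵁ D.map j.hom ⁻¹ᵁ U = c.π.app i ⁻¹ᵁ U := congr($(c.w j.hom) ⁻¹ᵁ U)
  have : s = (c.π.app j.left).appLE (D.map j.hom ⁻¹ᵁ U) (c.π.app i ⁻¹ᵁ U) h.ge t := by
    convert!
      show s = ((topIso _).inv ≫ ((opensCone D c i U).π.app j).appTop ≫ (topIso _).hom) t from
        (c.π.app i ⁻¹ᵁ U).topIso.commRingCatIsoToRingEquiv.symm_apply_eq.mp ht.symm using 3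
    simp [Scheme.Hom.app_eq_appLE, Scheme.Hom.resLE_appLE]
  exact ⟨j.left, j.hom, t, this.symm⟩

include hc in
/-- Two functions on a compact open of a stage which agree on the limit agree on a further stage. -/
theorem exists_pl_eq_pl {i : I} (U : (D.obj i).Opens) (hU : IsCompact (U : Set (D.obj i)))
    (s t : Γ(D.obj i, U))
    (h : pl (c.π.app i) U (c.π.app i ⁻¹ᵁ U) le_rfl s = pl (c.π.app i) U (c.π.app i ⁻¹ᵁ U) le_rfl t) :
    ∃ (j : I) (a : j ⟶ i), pl (D.map a) U (D.map a ⁻¹ᵁ U) le_rfl s =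
      pl (D.map a) U (D.map a ⁻¹ᵁ U) le_rfl t := by
  obtain ⟨j, a, ha⟩ := exists_app_map_eq_map_of_isLimit D c hc hU s t (by
    unfold pl at h
    simpa only [Scheme.Hom.app_eq_appLE] using h)
  refine ⟨j, a, ?_⟩
  unfold pl
  simpa only [Scheme.Hom.app_eq_appLE] using ha

end

theorem exists_common {I : Type u} [Category.{u} I] [IsCofiltered I] {i : I} {κ : Type*} [Finite κ]
    (j : κ → I) (a : ∀ x, j x ⟶ i) : ∃ (k : I) (p : k ⟶ i) (b : ∀ x, k ⟶ j x), ∀ x, b x ≫ a x = p := by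
  classical
  cases nonempty_fintype κ
  obtain ⟨S, hS⟩ := IsCofiltered.inf_objs_exists (Finset.univ.image (fun x => Over.mk (a x)))
  have H : ∀ x, Nonempty (S ⟶ Over.mk (a x)) := fun x =>
    hS (Finset.mem_image_of_mem _ (Finset.mem_univ x))
  exact ⟨S.left, S.hom, fun x => (H x).some.left, fun x => Over.w (H x).some⟩

theorem pull_comp {X X' X'' : Scheme.{u}} {ι : Type*} (C : Coc X ι) (g : X' ⟶ X) (g' : X'' ⟶ X') :
    C.pull (g' ≫ g) = (C.pull g).pull g' := by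
  have h : ∀ i j, pl (g' ≫ g) (C.W i ⊓ C.W j) ((g' ≫ g) ⁻¹ᵁ C.W i ⊓ (g' ≫ g) ⁻¹ᵁ C.W j) le_rfl (C.u i j) =
      pl g' (g ⁻¹ᵁ C.W i ⊓ g ⁻¹ᵁ C.W j) (g' ⁻¹ᵁ g ⁻¹ᵁ C.W i ⊓ g' ⁻¹ᵁ g ⁻¹ᵁ C.W j) le_rfl
        (pl g (C.W i ⊓ C.W j) (g ⁻¹ᵁ C.W i ⊓ g ⁻¹ᵁ C.W j) le_rfl (C.u i j)) := by
    intro i j
    exact (pl_pl g g' (U := C.W i ⊓ C.W j) (V := g ⁻¹ᵁ C.W i ⊓ g ⁻¹ᵁ C.W j) le_rfl le_rfl (C.u i j)).symm
  unfold Coc.pull
  congr 1
  funext i j
  exact h i j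

section

variable {I : Type u} [Category.{u} I] (D : I ⥤ Scheme.{u}) (c : Cone D) {ι : Type*}

/-- `t` at the stage `j` represents the family `f` on the limit. -/
def Repr {i j : I} (a : j ⟶ i) (C : Coc (D.obj i) ι) (f : ∀ k, Γ(c.pt, c.π.app i ⁻¹ᵁ C.W k))
    (t : ∀ k, Γ(D.obj j, D.map a ⁻¹ᵁ C.W k)) : Prop :=
  ∀ k, pl (c.π.app j) (D.map a ⁻¹ᵁ C.W k) (c.π.app i ⁻¹ᵁ C.W k) (π_preimage D c a _).ge (t k) = f k

variable {D c}

theorem Repr.locus {i j : I} {a : j ⟶ i} {C : Coc (D.obj i) ι}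
    {f : ∀ k, Γ(c.pt, c.π.app i ⁻¹ᵁ C.W k)} {t : ∀ k, Γ(D.obj j, D.map a ⁻¹ᵁ C.W k)}
    (h : Repr D c a C f t) :
    c.π.app j ⁻¹ᵁ ((C.pull (D.map a)).locus t) = (C.pull (c.π.app i)).locus f := by
  unfold Coc.locus
  rw [Scheme.Hom.preimage_iSup]
  congr 1
  funext k
  rw [← h k]
  refine ((basicOpen_pl (c.π.app j) (U := D.map a ⁻¹ᵁ C.W k) (π_preimage D c a _).ge (t k)).trans
    (inf_eq_right.mpr ?_)).symm
  exact ((c.π.app j).preimage_mono ((D.obj j).basicOpen_le (t k))).trans (π_preimage D c a _).le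

/-- refinement of a family to a further stage -/
noncomputable def refine {i j k : I} (a : j ⟶ i) (b : k ⟶ j) {C : Coc (D.obj i) ι}
    (t : ∀ m, Γ(D.obj j, D.map a ⁻¹ᵁ C.W m)) : ∀ m, Γ(D.obj k, D.map (b ≫ a) ⁻¹ᵁ C.W m) :=
  fun m => pl (D.map b) (D.map a ⁻¹ᵁ C.W m) (D.map (b ≫ a) ⁻¹ᵁ C.W m) (map_preimage D a b _).ge (t m)

theorem Repr.refine {i j k : I} {a : j ⟶ i} {C : Coc (D.obj i) ι}
    {f : ∀ k, Γ(c.pt, c.π.app i ⁻¹ᵁ C.W k)} {t : ∀ k, Γ(D.obj j, D.map a ⁻¹ᵁ C.W k)}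
    (h : Repr D c a C f t) (b : k ⟶ j) : Repr D c (b ≫ a) C f (AmpleLim.refine a b t) := by
  intro m
  rw [← h m]
  have h1 := pl_pl (D.map b) (c.π.app k) (U := D.map a ⁻¹ᵁ C.W m) (V := D.map (b ≫ a) ⁻¹ᵁ C.W m)
    (W := c.π.app i ⁻¹ᵁ C.W m) (map_preimage D a b _).ge (π_preimage D c (b ≫ a) _).ge (t m)
  refine h1.trans ?_
  congr 1
  have := c.w b
  simp only [this]

/-- Sections of the powers of a pulled back cocycle. -/
theorem isSec_pull_iff {X X' : Scheme.{u}} (g : X' ⟶ X) (C : Coc X ι) (n : ℕ)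
    (t : ∀ k, Γ(X', g ⁻¹ᵁ C.W k)) :
    (C.pull g).IsSec n t ↔ ∀ l m, res (inf_le_left : g ⁻¹ᵁ C.W l ⊓ g ⁻¹ᵁ C.W m ≤ _) (t l) =
      pl g (C.W l ⊓ C.W m) (g ⁻¹ᵁ C.W l ⊓ g ⁻¹ᵁ C.W m) le_rfl (C.u l m) ^ n *
        res (inf_le_right : g ⁻¹ᵁ C.W l ⊓ g ⁻¹ᵁ C.W m ≤ _) (t m) := by
  constructor
  · intro h l m
    have := h l m (g ⁻¹ᵁ C.W l ⊓ g ⁻¹ᵁ C.W m) inf_le_left inf_le_right
    rw [Coc.pull_t] at this
    exact this
  · intro h
    refine Coc.IsSec.mk' fun l m => ?_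
    rw [Coc.pull_t]
    exact h l m

/-- Sections of the powers of a pulled back cocycle, on smaller opens. -/
theorem isSec_pull_iff' {X X' : Scheme.{u}} (g : X' ⟶ X) (C : Coc X ι) (n : ℕ)
    (t : ∀ k, Γ(X', g ⁻¹ᵁ C.W k)) :
    (C.pull g).IsSec n t ↔ ∀ l m (V : X'.Opens) (hl : V ≤ g ⁻¹ᵁ C.W l) (hm : V ≤ g ⁻¹ᵁ C.W m),
      res hl (t l) = pl g (C.W l ⊓ C.W m) V (le_inf hl hm) (C.u l m) ^ n * res hm (t m) := by
  constructor
  · intro h l m V hl hm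
    have := h l m V hl hm
    rw [Coc.pull_t] at this
    exact this
  · intro h l m V hl hm
    rw [Coc.pull_t]
    exact h l m V hl hm

theorem IsSec.refine {i j k : I} {a : j ⟶ i} {C : Coc (D.obj i) ι} {n : ℕ}
    {t : ∀ k, Γ(D.obj j, D.map a ⁻¹ᵁ C.W k)} (h : (C.pull (D.map a)).IsSec n t) (b : k ⟶ j) :
    (C.pull (D.map (b ≫ a))).IsSec n (AmpleLim.refine a b t) := by
  rw [isSec_pull_iff'] at h ⊢
  intro l m V hl hm
  have hl' : V ≤ D.map b ⁻¹ᵁ (D.map a ⁻¹ᵁ C.W l) := by rw [map_preimage]; exact hl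
  have hm' : V ≤ D.map b ⁻¹ᵁ (D.map a ⁻¹ᵁ C.W m) := by rw [map_preimage]; exact hm
  have hV : V ≤ D.map b ⁻¹ᵁ (D.map a ⁻¹ᵁ C.W l ⊓ D.map a ⁻¹ᵁ C.W m) := fun x hx => ⟨hl' hx, hm' hx⟩
  have key := congrArg (pl (D.map b) (D.map a ⁻¹ᵁ C.W l ⊓ D.map a ⁻¹ᵁ C.W m) V hV)
    (h l m (D.map a ⁻¹ᵁ C.W l ⊓ D.map a ⁻¹ᵁ C.W m) inf_le_left inf_le_right)
  rw [map_mul, map_pow, pl_res, pl_res, pl_pl] at key
  unfold AmpleLim.refine
  rw [res_pl, res_pl]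
  refine key.trans ?_
  congr 2
  congr 1
  simp only [D.map_comp]

theorem locus_refine {i j k : I} {a : j ⟶ i} {C : Coc (D.obj i) ι}
    (t : ∀ k, Γ(D.obj j, D.map a ⁻¹ᵁ C.W k)) (b : k ⟶ j) :
    (C.pull (D.map (b ≫ a))).locus (AmpleLim.refine a b t) =
      D.map b ⁻¹ᵁ ((C.pull (D.map a)).locus t) := by
  unfold Coc.locus
  rw [Scheme.Hom.preimage_iSup]
  congr 1
  funext m
  refine (basicOpen_pl (D.map b) (U := D.map a ⁻¹ᵁ C.W m) (map_preimage D a b _).ge (t m)).trans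
    (inf_eq_right.mpr ?_)
  exact ((D.map b).preimage_mono ((D.obj j).basicOpen_le (t m))).trans (map_preimage D a b _).le

variable [IsCofiltered I] (hc : IsLimit c) [∀ {i j} (f : i ⟶ j), IsAffineHom (D.map f)]

include hc in
theorem exists_repr [Finite ι] {i : I} (C : Coc (D.obj i) ι) (hC : ∀ k, IsAffineOpen (C.W k))
    (f : ∀ k, Γ(c.pt, c.π.app i ⁻¹ᵁ C.W k)) :
    ∃ (j : I) (a : j ⟶ i) (t : ∀ k, Γ(D.obj j, D.map a ⁻¹ᵁ C.W k)), Repr D c a C f t := by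
  choose j a t ht using fun k => exists_pl_eq D c hc (C.W k) (hC k) (f k)
  obtain ⟨k, p, b, hb⟩ := exists_common j a
  have hle : ∀ m, D.map p ⁻¹ᵁ C.W m ≤ D.map (b m) ⁻¹ᵁ (D.map (a m) ⁻¹ᵁ C.W m) := by
    intro m
    rw [map_preimage, hb m]
  refine ⟨k, p, fun m => pl (D.map (b m)) (D.map (a m) ⁻¹ᵁ C.W m) (D.map p ⁻¹ᵁ C.W m) (hle m) (t m),
    fun m => ?_⟩
  rw [← ht m]
  have h1 := pl_pl (D.map (b m)) (c.π.app k) (U := D.map (a m) ⁻¹ᵁ C.W m) (V := D.map p ⁻¹ᵁ C.W m)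
    (W := c.π.app i ⁻¹ᵁ C.W m) (hle m) (π_preimage D c p _).ge (t m)
  refine h1.trans ?_
  congr 1
  simp only [c.w]

include hc in
theorem exists_isSec {i : I} (C : Coc (D.obj i) ι) (hC : C.Fin) {n : ℕ}
    (f : ∀ k, Γ(c.pt, c.π.app i ⁻¹ᵁ C.W k)) (hf : (C.pull (c.π.app i)).IsSec n f) :
    ∃ (j : I) (a : j ⟶ i) (t : ∀ k, Γ(D.obj j, D.map a ⁻¹ᵁ C.W k)), Repr D c a C f t ∧
      (C.pull (D.map a)).IsSec n t := by
  have := hC.finite
  obtain ⟨j, a, t, ht⟩ := exists_repr hc C hC.affine f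
  rw [isSec_pull_iff'] at hf
  have H : ∀ p : ι × ι, ∃ (k : I) (b : k ⟶ j),
      pl (D.map b) (D.map a ⁻¹ᵁ C.W p.1 ⊓ D.map a ⁻¹ᵁ C.W p.2)
        (D.map b ⁻¹ᵁ (D.map a ⁻¹ᵁ C.W p.1 ⊓ D.map a ⁻¹ᵁ C.W p.2)) le_rfl
        (res inf_le_left (t p.1)) =
      pl (D.map b) (D.map a ⁻¹ᵁ C.W p.1 ⊓ D.map a ⁻¹ᵁ C.W p.2)
        (D.map b ⁻¹ᵁ (D.map a ⁻¹ᵁ C.W p.1 ⊓ D.map a ⁻¹ᵁ C.W p.2)) le_rfl
        (pl (D.map a) (C.W p.1 ⊓ C.W p.2) (D.map a ⁻¹ᵁ C.W p.1 ⊓ D.map a ⁻¹ᵁ C.W p.2) le_rfl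
          (C.u p.1 p.2) ^ n * res inf_le_right (t p.2)) := by
    intro p
    refine exists_pl_eq_pl D c hc (D.map a ⁻¹ᵁ C.W p.1 ⊓ D.map a ⁻¹ᵁ C.W p.2) ?_ _ _ ?_
    · exact QuasiCompact.isCompact_preimage (f := D.map a) _ (C.W p.1 ⊓ C.W p.2).2 (hC.compact p.1 p.2)
    · have h1 : c.π.app j ⁻¹ᵁ (D.map a ⁻¹ᵁ C.W p.1 ⊓ D.map a ⁻¹ᵁ C.W p.2) ≤ c.π.app i ⁻¹ᵁ C.W p.1 :=
        ((c.π.app j).preimage_mono inf_le_left).trans (π_preimage D c a _).le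
      have h2 : c.π.app j ⁻¹ᵁ (D.map a ⁻¹ᵁ C.W p.1 ⊓ D.map a ⁻¹ᵁ C.W p.2) ≤ c.π.app i ⁻¹ᵁ C.W p.2 :=
        ((c.π.app j).preimage_mono inf_le_right).trans (π_preimage D c a _).le
      have key := hf p.1 p.2 (c.π.app j ⁻¹ᵁ (D.map a ⁻¹ᵁ C.W p.1 ⊓ D.map a ⁻¹ᵁ C.W p.2)) h1 h2
      rw [← ht p.1, ← ht p.2, res_pl, res_pl] at key
      rw [pl_res, map_mul, map_pow, pl_res, pl_pl]
      refine key.trans ?_
      congr 2
      congr 1
      simp only [c.w]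
  choose k b hb using H
  obtain ⟨l, p, q, hq⟩ := exists_common k b
  refine ⟨l, p ≫ a, AmpleLim.refine a p t, ht.refine p, ?_⟩
  rw [isSec_pull_iff']
  intro m m' V hm hm'
  have hle : V ≤ D.map (q (m, m')) ⁻¹ᵁ (D.map (b (m, m')) ⁻¹ᵁ (D.map a ⁻¹ᵁ C.W m ⊓ D.map a ⁻¹ᵁ C.W m')) := by
    rw [map_preimage, hq]
    have h1 : V ≤ D.map p ⁻¹ᵁ (D.map a ⁻¹ᵁ C.W m) := by rw [map_preimage]; exact hm
    have h2 : V ≤ D.map p ⁻¹ᵁ (D.map a ⁻¹ᵁ C.W m') := by rw [map_preimage]; exact hm'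
    exact fun x hx => ⟨h1 hx, h2 hx⟩
  have key := congrArg (pl (D.map (q (m, m')))
    (D.map (b (m, m')) ⁻¹ᵁ (D.map a ⁻¹ᵁ C.W m ⊓ D.map a ⁻¹ᵁ C.W m')) V hle) (hb (m, m'))
  dsimp only at key
  rw [pl_pl, pl_pl, pl_res, map_mul, map_pow, pl_res, pl_pl] at key
  unfold AmpleLim.refine
  rw [res_pl, res_pl]
  simp only [← D.map_comp, hq] at key
  refine key.trans ?_
  congr 2

theorem fin_pull {X X' : Scheme.{u}} {C : Coc X ι} (hC : C.Fin) (g : X' ⟶ X) [IsAffineHom g] :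
    (C.pull g).Fin where
  finite := hC.finite
  affine i := (hC.affine i).preimage g
  compact i j := QuasiCompact.isCompact_preimage (f := g) _ (C.W i ⊓ C.W j).2 (hC.compact i j)

include hc in
/-- Stacks 09MT for cocycles. -/
theorem exists_ample [∀ j, CompactSpace (D.obj j)] {i : I} (C : Coc (D.obj i) ι) (hC : C.Fin)
    (hA : (C.pull (c.π.app i)).Ample) : ∃ (j : I) (a : j ⟶ i), (C.pull (D.map a)).Ample := by
  have haff : IsAffineHom (c.π.app i) := isAffineHom_π_app D c hc i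
  obtain ⟨n, s, hs, hsec, hle, hcov⟩ := hA.exists_finite_cover (fin_pull hC _)
  have : Finite s := hs
  have hfin := hC.finite
  -- each member of `s` comes from a stage, with small locus
  have H : ∀ f : s, ∃ (j : I) (a : j ⟶ i) (t : ∀ k, Γ(D.obj j, D.map a ⁻¹ᵁ C.W k)),
      Repr D c a C f.1 t ∧ (C.pull (D.map a)).IsSec (n + 1) t ∧
        ∃ m, (C.pull (D.map a)).locus t ≤ (C.pull (D.map a)).W m := by
    intro f
    obtain ⟨j, a, t, ht, hts⟩ := exists_isSec hc C hC f.1 (hsec f.1 f.2)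
    obtain ⟨m, hm⟩ := hle f.1 f.2
    have hcpt : IsCompact (((C.pull (D.map a)).locus t : (D.obj j).Opens) : Set (D.obj j)) := by
      unfold Coc.locus
      rw [Opens.coe_iSup]
      exact isCompact_iUnion fun k =>
        (((hC.affine k).preimage (D.map a)).basicOpen (t k)).isCompact
    obtain ⟨k, b, hb⟩ := exists_map_preimage_le_map_preimage D c hc
      (U := (C.pull (D.map a)).locus t) (V := D.map a ⁻¹ᵁ C.W m) hcpt (by
        rw [ht.locus, π_preimage]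
        exact hm)
    refine ⟨k, b ≫ a, AmpleLim.refine a b t, ht.refine b, IsSec.refine hts b, m, ?_⟩
    rw [locus_refine]
    exact hb.trans (map_preimage D a b _).le
  choose j a t ht hts hm using H
  obtain ⟨k, p, b, hb⟩ := exists_common j a
  -- the loci cover the limit, hence some stage
  obtain ⟨l, q, hq⟩ := exists_map_eq_top D c hc (i := k)
    (⨆ f : s, D.map (b f) ⁻¹ᵁ ((C.pull (D.map (a f))).locus (t f))) (by
      rw [eq_top_iff]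
      intro x _
      obtain ⟨f, hf, hx⟩ := hcov x
      rw [Scheme.Hom.preimage_iSup]
      refine Opens.mem_iSup.mpr ⟨⟨f, hf⟩, ?_⟩
      rw [← (ht ⟨f, hf⟩).locus, ← π_preimage D c (b ⟨f, hf⟩)] at hx
      exact hx)
  refine ⟨l, q ≫ p, Coc.ample_of_cover (fun m => (hC.affine m).preimage _) fun x => ?_⟩
  have hx : x ∈ D.map q ⁻¹ᵁ (⨆ f : s, D.map (b f) ⁻¹ᵁ ((C.pull (D.map (a f))).locus (t f))) := by
    rw [hq]; trivial
  rw [Scheme.Hom.preimage_iSup] at hx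
  obtain ⟨f, hf⟩ := Opens.mem_iSup.mp hx
  have e : q ≫ p = (q ≫ b f) ≫ a f := by rw [Category.assoc, hb f]
  rw [e]
  obtain ⟨m, hm'⟩ := hm f
  refine ⟨n, AmpleLim.refine (a f) (q ≫ b f) (t f), IsSec.refine (hts f) _, ?_, m, ?_⟩
  · rw [locus_refine, ← map_preimage]
    exact hf
  · rw [locus_refine]
    exact ((D.map (q ≫ b f)).preimage_mono hm').trans (map_preimage D (a f) (q ≫ b f) _).le

omit [IsCofiltered I] [∀ {i j : I} (f : i ⟶ j), IsAffineHom (D.map f)] in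
theorem fin_of_affine {X : Scheme.{u}} [Finite ι] [QuasiSeparatedSpace X] (C : Coc X ι)
    (h : ∀ i, IsAffineOpen (C.W i)) : C.Fin where
  finite := inferInstance
  affine := h
  compact i j := QuasiSeparatedSpace.inter_isCompact _ _ (C.W i).2 (h i).isCompact (C.W j).2
    (h j).isCompact

include hc in
/-- Stacks 09MT: let `L` be an invertible module on a stage of a cofiltered diagram of qcqs schemes
with affine transition morphisms.  If the pullback of `L` to the limit is ample, then its pullback to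
some further stage is ample. -/
theorem exists_isAmple [∀ j, CompactSpace (D.obj j)] {i : I} [QuasiSeparatedSpace (D.obj i)]
    (L : (D.obj i).Modules) (hL : PicF.IsInvertible L)
    (h : CohB1.IsAmple ((Scheme.Modules.pullback (c.π.app i)).obj L)) :
    ∃ (j : I) (a : j ⟶ i), CohB1.IsAmple ((Scheme.Modules.pullback (D.map a)).obj L) := by
  obtain ⟨n, C, hW, -, ⟨T⟩⟩ := exists_triv_affine L hL (fun _ : Unit => (⊤ : (D.obj i).Opens))
    (fun x => ⟨(), trivial⟩)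
  rw [(T.pullback _).isAmple_iff] at h
  obtain ⟨j, a, ha⟩ := exists_ample hc C (fin_of_affine C hW) h
  exact ⟨j, a, (T.pullback _).isAmple_iff.mpr ha⟩

end

end Groth.Agent.Models2.AmpleLim
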