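import Mathlib.AlgebraicGeometry.AffineTransitionLimit
import Mathlib.AlgebraicGeometry.Fiber

/-!
# The base change of a limit of morphisms

Let `f = lim (f_i : X_i ⟶ S_i)` be a cofiltered limit of morphisms of schemes and `t : K ⟶ S = lim S_i`.
Then `X ×_S K` is the limit of the `X_i ×_{S_i} K`.
-/

set_option autoImplicit false

universe u

open CategoryTheory Limits AlgebraicGeometry TopologicalSpace

namespace Groth.Agent.Models2.FibLim

variable {I : Type u} [Category.{u} I] {DX DS : I ⥤ Scheme.{u}} (φ : DX ⟶ DS) (cX : Cone DX)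
  (cS : Cone DS) (f : cX.pt ⟶ cS.pt) (hf : ∀ i, cX.π.app i ≫ φ.app i = f ≫ cS.π.app i)
  {K : Scheme.{u}} (t : K ⟶ cS.pt)

/-- The transition morphism of the diagram `X_i ×_{S_i} K`. -/
noncomputable def tr {i j : I} (a : i ⟶ j) :
    pullback (φ.app i) (t ≫ cS.π.app i) ⟶ pullback (φ.app j) (t ≫ cS.π.app j) :=
  pullback.lift (pullback.fst _ _ ≫ DX.map a) (pullback.snd _ _) (by
    rw [Category.assoc, φ.naturality a, pullback.condition_assoc]
    simp only [Category.assoc, cS.w])

@[reassoc (attr := simp)] theorem tr_fst {i j : I} (a : i ⟶ j) :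
    tr φ cS t a ≫ pullback.fst (φ.app j) (t ≫ cS.π.app j) =
      pullback.fst (φ.app i) (t ≫ cS.π.app i) ≫ DX.map a :=
  pullback.lift_fst _ _ _

@[reassoc (attr := simp)] theorem tr_snd {i j : I} (a : i ⟶ j) :
    tr φ cS t a ≫ pullback.snd (φ.app j) (t ≫ cS.π.app j) =
      pullback.snd (φ.app i) (t ≫ cS.π.app i) :=
  pullback.lift_snd _ _ _

theorem tr_id (i : I) : tr φ cS t (𝟙 i) = 𝟙 _ := by
  apply pullback.hom_ext <;> simp

theorem tr_comp {i j k : I} (a : i ⟶ j) (b : j ⟶ k) : tr φ cS t (a ≫ b) = tr φ cS t a ≫ tr φ cS t b := by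
  apply pullback.hom_ext <;> simp

/-- The diagram `X_i ×_{S_i} K`. -/
noncomputable def fibDiagram : I ⥤ Scheme.{u} where
  obj i := pullback (φ.app i) (t ≫ cS.π.app i)
  map a := tr φ cS t a
  map_id _ := tr_id φ cS t _
  map_comp a b := tr_comp φ cS t a b

/-- The first projection. -/
noncomputable def p1 (i : I) : (fibDiagram φ cS t).obj i ⟶ DX.obj i :=
  pullback.fst (φ.app i) (t ≫ cS.π.app i)

/-- The second projection. -/
noncomputable def p2 (i : I) : (fibDiagram φ cS t).obj i ⟶ K :=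
  pullback.snd (φ.app i) (t ≫ cS.π.app i)

theorem p_condition (i : I) : p1 φ cS t i ≫ φ.app i = p2 φ cS t i ≫ t ≫ cS.π.app i :=
  pullback.condition

@[reassoc] theorem map_p1 {i j : I} (a : i ⟶ j) :
    (fibDiagram φ cS t).map a ≫ p1 φ cS t j = p1 φ cS t i ≫ DX.map a :=
  tr_fst φ cS t a

@[reassoc] theorem map_p2 {i j : I} (a : i ⟶ j) :
    (fibDiagram φ cS t).map a ≫ p2 φ cS t j = p2 φ cS t i :=
  tr_snd φ cS t a

theorem fib_hom_ext {W : Scheme.{u}} {i : I} {a b : W ⟶ (fibDiagram φ cS t).obj i}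
    (h1 : a ≫ p1 φ cS t i = b ≫ p1 φ cS t i) (h2 : a ≫ p2 φ cS t i = b ≫ p2 φ cS t i) : a = b :=
  pullback.hom_ext h1 h2

/-- The comparison `X ×_S K ⟶ X_i ×_{S_i} K`. -/
noncomputable def q (i : I) : pullback f t ⟶ (fibDiagram φ cS t).obj i :=
  pullback.lift (pullback.fst f t ≫ cX.π.app i) (pullback.snd f t) (by
    rw [Category.assoc, hf i, pullback.condition_assoc])

@[reassoc] theorem q_p1 (i : I) : q φ cX cS f hf t i ≫ p1 φ cS t i = pullback.fst f t ≫ cX.π.app i :=
  pullback.lift_fst _ _ _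

@[reassoc] theorem q_p2 (i : I) : q φ cX cS f hf t i ≫ p2 φ cS t i = pullback.snd f t :=
  pullback.lift_snd _ _ _

theorem q_map {i j : I} (a : i ⟶ j) :
    q φ cX cS f hf t i ≫ (fibDiagram φ cS t).map a = q φ cX cS f hf t j := by
  apply fib_hom_ext
  · rw [Category.assoc, map_p1, q_p1_assoc, q_p1, cX.w]
  · rw [Category.assoc, map_p2, q_p2, q_p2]

/-- The cone over `X_i ×_{S_i} K` with vertex `X ×_S K`. -/
noncomputable def fibCone : Cone (fibDiagram φ cS t) where
  pt := pullback f t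
  π :=
    { app := fun i => q φ cX cS f hf t i
      naturality := fun i j a => by
        rw [q_map]
        exact Category.id_comp _ }

theorem fibCone_π (i : I) : (fibCone φ cX cS f hf t).π.app i = q φ cX cS f hf t i := rfl

variable {cX cS}

/-- The components of a cone, with source `s.pt`. -/
def sp {E : I ⥤ Scheme.{u}} (s : Cone E) (i : I) : s.pt ⟶ E.obj i := s.π.app i

@[reassoc] theorem sp_w {E : I ⥤ Scheme.{u}} (s : Cone E) {i j : I} (a : i ⟶ j) :
    sp s i ≫ E.map a = sp s j := s.w a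

theorem sp_fibCone (i : I) : sp (fibCone φ cX cS f hf t) i = q φ cX cS f hf t i := rfl

/-- The induced cone over `X_i`. -/
noncomputable def cone1 (s : Cone (fibDiagram φ cS t)) : Cone DX where
  pt := s.pt
  π :=
    { app := fun i => sp s i ≫ p1 φ cS t i
      naturality := fun i j a => by
        rw [Category.assoc, ← map_p1, sp_w_assoc]
        exact Category.id_comp _ }

/-- The induced morphism to `X`. -/
noncomputable def lift1 (hX : IsLimit cX) (s : Cone (fibDiagram φ cS t)) : s.pt ⟶ cX.pt :=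
  hX.lift (cone1 φ t s)

@[reassoc] theorem lift1_π (hX : IsLimit cX) (s : Cone (fibDiagram φ cS t)) (i : I) :
    lift1 φ t hX s ≫ cX.π.app i = sp s i ≫ p1 φ cS t i :=
  hX.fac (cone1 φ t s) i

variable [IsCofiltered I] (hX : IsLimit cX) (hS : IsLimit cS)

omit hX hS in
theorem cone_p2_eq (s : Cone (fibDiagram φ cS t)) (i j : I) :
    sp s i ≫ p2 φ cS t i = sp s j ≫ p2 φ cS t j := by
  obtain ⟨k, a, b, -⟩ := IsCofilteredOrEmpty.cone_objs i j
  rw [← sp_w s a, ← sp_w s b, Category.assoc, Category.assoc, map_p2, map_p2]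

include hf hS in
theorem lift1_comm (s : Cone (fibDiagram φ cS t)) (i₀ : I) : lift1 φ t hX s ≫ f =
      (sp s i₀ ≫ p2 φ cS t i₀) ≫ t := by
  refine hS.hom_ext fun i => ?_
  rw [Category.assoc, ← hf i, lift1_π_assoc, p_condition, cone_p2_eq φ t s i₀ i]
  simp only [Category.assoc]

/-- `X ×_S K` is the limit of the `X_i ×_{S_i} K`. -/
noncomputable def isLimitFibCone : IsLimit (fibCone φ cX cS f hf t) := by
  have i₀ : I := Classical.choice IsCofiltered.nonempty
  have key (s : Cone (fibDiagram φ cS t)) (i : I) :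
      pullback.lift (lift1 φ t hX s) _ (lift1_comm φ f hf t hX hS s i₀) ≫ q φ cX cS f hf t i =
        sp s i := by
    apply fib_hom_ext
    · rw [Category.assoc, q_p1, pullback.lift_fst_assoc, lift1_π]
    · rw [Category.assoc, q_p2, pullback.lift_snd, cone_p2_eq φ t s i₀ i]
  have key2 (s : Cone (fibDiagram φ cS t)) (m : s.pt ⟶ pullback f t)
      (hm : ∀ i, m ≫ q φ cX cS f hf t i = sp s i) :
      m = pullback.lift (lift1 φ t hX s) _ (lift1_comm φ f hf t hX hS s i₀) := by
    apply pullback.hom_ext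
    · rw [pullback.lift_fst]
      refine hX.hom_ext fun i => ?_
      rw [lift1_π, ← hm i, Category.assoc, Category.assoc, q_p1]
    · rw [pullback.lift_snd, ← hm i₀, Category.assoc, q_p2]
  exact
    { lift := fun s => pullback.lift (lift1 φ t hX s) _ (lift1_comm φ f hf t hX hS s i₀)
      fac := fun s i => key s i
      uniq := fun s m hm => key2 s m hm }

end Groth.Agent.Models2.FibLim
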