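import Mathlib.Algebra.Category.ModuleCat.InjectiveDimension
import Mathlib.RingTheory.Artinian.Ring
import Mathlib.RingTheory.LocalProperties.Injective
import Mathlib.Algebra.Module.Torsion.Basic
import Mathlib.LinearAlgebra.Basis.VectorSpace
import Mathlib.RingTheory.LocalRing.ResidueField.Basic

/-!
# Artinian local rings of finite self-injective dimension are self-injective
-/

universe u

open CategoryTheory CategoryTheory.Abelian

namespace Groth.Agent.Models2.ArtinInj

variable {L : Type u} [CommRing L]

/-- A short exact sequence in `ModuleCat` from an injective linear map. -/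
theorem shortExact_mkQ {M N : Type u} [AddCommGroup M] [Module L M] [AddCommGroup N] [Module L N]
    (f : M →ₗ[L] N) (hf : Function.Injective f) :
    (ShortComplex.mk (ModuleCat.ofHom f) (ModuleCat.ofHom (LinearMap.range f).mkQ)
      (by ext x; simp)).ShortExact :=
  ModuleCat.shortComplex_shortExact _ (LinearMap.exact_map_mkQ_range f) hf
    (Submodule.mkQ_surjective _)

/-- If `Ext^{n+2}(-, X) = 0` and `V` embeds in a free module, then `Ext^{n+1}(V, X) = 0`. -/
theorem subsingleton_ext_of_embeds (X : ModuleCat.{u} L) (n : ℕ)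
    (h : HasInjectiveDimensionLT X (n + 2)) {V F : Type u} [AddCommGroup V] [Module L V]
    [AddCommGroup F] [Module L F] [Module.Projective L F] (f : V →ₗ[L] F)
    (hf : Function.Injective f) : Subsingleton (Ext (ModuleCat.of L V) X (n + 1)) := by
  have hS := shortExact_mkQ f hf
  have hP : Projective (ModuleCat.of L F) := inferInstance
  refine subsingleton_of_forall_eq 0 fun x => ?_
  obtain ⟨x₂, hx₂⟩ := Ext.contravariant_sequence_exact₁ hS X (n₀ := n + 1) x
    (n₁ := n + 2) (by ring)
    (Ext.eq_zero_of_hasInjectiveDimensionLT _ (n + 2) le_rfl)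
  rw [← hx₂]
  have : x₂ = 0 := Ext.eq_zero_of_projective x₂
  rw [this]
  simp

theorem subsingleton_ext_of_submodule (X : ModuleCat.{u} L) (n : ℕ) {Y : Type u} [AddCommGroup Y]
    [Module L Y] (Y' : Submodule L Y) (h' : Subsingleton (Ext (ModuleCat.of L Y') X n))
    (h'' : Subsingleton (Ext (ModuleCat.of L (Y ⧸ Y')) X n)) :
    Subsingleton (Ext (ModuleCat.of L Y) X n) := by
  have hS : (ShortComplex.mk (ModuleCat.ofHom Y'.subtype) (ModuleCat.ofHom Y'.mkQ)
      (by ext x; simp)).ShortExact :=
    ModuleCat.shortComplex_shortExact _ (LinearMap.exact_subtype_mkQ Y') Y'.injective_subtype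
      (Submodule.mkQ_surjective _)
  refine subsingleton_of_forall_eq 0 fun x => ?_
  obtain ⟨x₁, hx₁⟩ := Ext.contravariant_sequence_exact₂ hS X (n := n) x
    (Subsingleton.elim _ _)
  rw [← hx₁, show x₁ = 0 from Subsingleton.elim (h := h'') _ _]
  simp

section Local

variable [IsLocalRing L] [IsArtinianRing L]

open IsLocalRing

/-- a nonzero element killed by the maximal ideal -/
theorem exists_socle : ∃ x : L, x ≠ 0 ∧ ∀ m ∈ maximalIdeal L, m * x = 0 := by
  classical
  have hnil : IsNilpotent (maximalIdeal L) := by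
    rw [← IsLocalRing.jacobson_eq_maximalIdeal ⊥ bot_ne_top]
    exact IsArtinianRing.isNilpotent_jacobson_bot
  obtain ⟨n, hn⟩ := hnil
  have hex : ∃ n, (maximalIdeal L) ^ n = ⊥ := ⟨n, hn⟩
  have hpos : Nat.find hex ≠ 0 := by
    intro h0
    have := Nat.find_spec hex
    rw [h0, pow_zero, Ideal.one_eq_top] at this
    exact one_ne_zero (α := L) ((Submodule.mem_bot L).1 (this ▸ Submodule.mem_top))
  obtain ⟨m, hm⟩ := Nat.exists_eq_succ_of_ne_zero hpos
  have hm' : (maximalIdeal L) ^ m ≠ ⊥ := Nat.find_min hex (by omega)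
  obtain ⟨x, hx, hx0⟩ := Submodule.exists_mem_ne_zero_of_ne_bot hm'
  refine ⟨x, hx0, fun y hy => ?_⟩
  have : y * x ∈ (maximalIdeal L) ^ (m + 1) := by
    rw [pow_succ']
    exact Ideal.mul_mem_mul hy hx
  have h2 := Nat.find_spec hex
  rw [hm] at h2
  rw [h2] at this
  exact (Submodule.mem_bot L).1 this

theorem exists_embedding : ∃ f : (L ⧸ maximalIdeal L) →ₗ[L] L, Function.Injective f := by
  obtain ⟨x, hx0, hx⟩ := exists_socle (L := L)
  refine ⟨Submodule.liftQ _ (LinearMap.toSpanSingleton L L x) ?_, ?_⟩
  · intro m hm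
    simpa using hx m hm
  · rw [← LinearMap.ker_eq_bot, Submodule.ker_liftQ_eq_bot]
    intro m hm
    rw [LinearMap.mem_ker, LinearMap.toSpanSingleton_apply, smul_eq_mul] at hm
    by_contra hcon
    have : IsUnit m := by
      by_contra h
      exact hcon ((mem_maximalIdeal m).2 h)
    exact hx0 (this.mul_right_eq_zero.1 hm)

theorem embeds_of_quot (Y : Type u) [AddCommGroup Y] [Module L Y] :
    ∃ (ι : Type u) (f : (Y ⧸ (maximalIdeal L) • (⊤ : Submodule L Y)) →ₗ[L] (ι →₀ L)),
      Function.Injective f := by
  let V := Y ⧸ (maximalIdeal L) • (⊤ : Submodule L Y)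
  let _ : Field (L ⧸ maximalIdeal L) := Ideal.Quotient.field _
  let b := Module.Basis.ofVectorSpace (L ⧸ maximalIdeal L) V
  obtain ⟨g, hg⟩ := exists_embedding (L := L)
  let e : V →ₗ[L] ((Module.Basis.ofVectorSpaceIndex (L ⧸ maximalIdeal L) V) →₀ (L ⧸ maximalIdeal L)) :=
    (b.repr.toLinearMap).restrictScalars L
  refine ⟨_, (Finsupp.mapRange.linearMap g).comp e, ?_⟩
  intro x y hxy
  apply b.repr.injective
  have h2 : Function.Injective (Finsupp.mapRange.linearMap (α :=
    (Module.Basis.ofVectorSpaceIndex (L ⧸ maximalIdeal L) V)) g) := by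
    intro x y hxy
    exact Finsupp.mapRange_injective g (map_zero g) hg hxy
  exact h2 hxy

theorem subsingleton_ext_of_pow (n : ℕ)
    (h : HasInjectiveDimensionLT (ModuleCat.of L L) (n + 2)) (j : ℕ) :
    ∀ (Y : Type u) [AddCommGroup Y] [Module L Y]
      (_ : (maximalIdeal L) ^ j • (⊤ : Submodule L Y) = ⊥),
      Subsingleton (Ext (ModuleCat.of L Y) (ModuleCat.of L L) (n + 1)) := by
  induction j with
  | zero =>
    intro Y _ _ hY
    have hsub : Subsingleton Y := by
      rw [pow_zero, Ideal.one_eq_top, Submodule.top_smul] at hY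
      exact (Submodule.subsingleton_iff L).1 (subsingleton_of_bot_eq_top hY.symm)
    refine subsingleton_ext_of_embeds (F := L) _ n h (0 : Y →ₗ[L] L) ?_
    intro a b _
    exact Subsingleton.elim _ _
  | succ j ih =>
    intro Y _ _ hY
    refine subsingleton_ext_of_submodule _ _ ((maximalIdeal L) • (⊤ : Submodule L Y)) ?_ ?_
    · apply ih
      rw [eq_bot_iff, ← Submodule.map_le_map_iff_of_injective (Submodule.injective_subtype _),
        Submodule.map_smul'', Submodule.map_bot, Submodule.map_top, Submodule.range_subtype,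
        ← Submodule.mul_smul, ← pow_succ, hY]
    · obtain ⟨ι, f, hf⟩ := embeds_of_quot (L := L) Y
      exact subsingleton_ext_of_embeds _ n h f hf

theorem isNilpotent_maximalIdeal : ∃ j, (maximalIdeal L) ^ j = ⊥ := by
  have hnil : IsNilpotent (maximalIdeal L) := by
    rw [← IsLocalRing.jacobson_eq_maximalIdeal ⊥ bot_ne_top]
    exact IsArtinianRing.isNilpotent_jacobson_bot
  obtain ⟨n, hn⟩ := hnil
  exact ⟨n, hn⟩

/-- An Artinian local ring of finite injective dimension over itself is self-injective. -/
theorem hasInjectiveDimensionLT_one (n : ℕ)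
    (h : HasInjectiveDimensionLT (ModuleCat.of L L) n) :
    HasInjectiveDimensionLT (ModuleCat.of L L) 1 := by
  induction n with
  | zero => exact hasInjectiveDimensionLT_of_ge _ 0 1 (by omega)
  | succ n ih =>
    rcases n with _ | n
    · exact h
    · apply ih
      apply hasInjectiveDimensionLT_of_enoughProjectives
      intro Y
      obtain ⟨j, hj⟩ := isNilpotent_maximalIdeal (L := L)
      exact subsingleton_ext_of_pow n h j Y (by rw [hj, Submodule.bot_smul])

theorem injective_of_hasInjectiveDimensionLT (n : ℕ)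
    (h : HasInjectiveDimensionLT (ModuleCat.of L L) n) : Module.Injective L L := by
  have := hasInjectiveDimensionLT_one n h
  have h1 : CategoryTheory.Injective (ModuleCat.of L L) :=
    injective_iff_hasInjectiveDimensionLT_one.2 this
  exact Module.injective_module_of_injective_object L L

end Local

end Groth.Agent.Models2.ArtinInj
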