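import Groth.Agent.Dcoh.DerSch
import Groth.Agent.Dcoh.LocalD
import Groth.Agent.PerfC.Supp

/-!
# Objects of `D(O_X)` supported inside an open subscheme

* `isZero_of_cover`: vanishing in `D(O_X)` is local.
* `isIso_of_cover`: isomorphisms in `D(O_X)` are local.
* `restrictRpushIso`: `(Rj_* K)|_U ≅ K` for an open immersion `j : U ⟶ X`.
* `isIso_unit_of_supp`: if the cohomology sheaves of `L` are supported in a closed subset contained in
  `U` then `L ⟶ Rj_*(L|_U)` is an isomorphism.
-/

set_option autoImplicit false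
universe u
open CategoryTheory CategoryTheory.Limits AlgebraicGeometry Pretriangulated
attribute [local instance] HasDerivedCategory.standard

namespace Groth.Agent.Models2.SuppPush

open Groth.Agent.PerfC

variable {X U : Scheme.{u}}

theorem isZero_iff_supp (K : DCoh.D X) : IsZero K ↔ ∀ i, Supp.supp K i = ∅ := by
  rw [PerfA.ExactD.isZero_iff]
  exact forall_congr' fun i => (Supp.supp_eq_empty_iff K i).symm

/-- Vanishing is local. -/
theorem isZero_of_cover (K : DCoh.D X)
    (h : ∀ x : X, ∃ (V : Scheme.{u}) (f : V ⟶ X) (_ : IsOpenImmersion f), x ∈ Set.range f ∧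
      IsZero ((DCoh.restrictD f).obj K)) : IsZero K := by
  rw [isZero_iff_supp]
  intro i
  rw [Set.eq_empty_iff_forall_notMem]
  intro x hx
  obtain ⟨V, f, _, ⟨y, rfl⟩, hV⟩ := h x
  have h1 := (isZero_iff_supp _).1 hV i
  have h2 : Supp.supp ((DCoh.restrictD f).obj K) i = f ⁻¹' Supp.supp K i := Supp.supp_restrictD f K i
  rw [h1] at h2
  have : y ∈ (∅ : Set V) := by rw [h2]; exact hx
  exact this

/-- Being an isomorphism is local. -/
theorem isIso_of_cover {K L : DCoh.D X} (φ : K ⟶ L)
    (h : ∀ x : X, ∃ (V : Scheme.{u}) (f : V ⟶ X) (_ : IsOpenImmersion f), x ∈ Set.range f ∧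
      IsIso ((DCoh.restrictD f).map φ)) : IsIso φ := by
  obtain ⟨C, g, w, hT⟩ := Pretriangulated.distinguished_cocone_triangle φ
  have hC : IsZero C := by
    refine isZero_of_cover C fun x => ?_
    obtain ⟨V, f, hf, hx, hV⟩ := h x
    refine ⟨V, f, hf, hx, ?_⟩
    have hT' := (DCoh.restrictD f).map_distinguished _ hT
    exact (Triangle.isZero₃_iff_isIso₁ _ hT').2 hV
  exact (Triangle.isZero₃_iff_isIso₁ _ hT).1 hC

theorem isZero_restrict_restrict {A B C : Scheme.{u}} (a : A ⟶ B) (b : B ⟶ X) (c : A ⟶ C)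
    (d : C ⟶ X) [IsOpenImmersion a] [IsOpenImmersion b] [IsOpenImmersion c] [IsOpenImmersion d]
    (w : a ≫ b = c ≫ d) (L : DCoh.D X) (h : IsZero ((DCoh.restrictD d).obj L)) :
    IsZero ((DCoh.restrictD a).obj ((DCoh.restrictD b).obj L)) := by
  let i : DCoh.restrictD b ⋙ DCoh.restrictD a ≅ DCoh.restrictD d ⋙ DCoh.restrictD c :=
    Dcoh.LocalD.restrictComp a b ≪≫ Dcoh.LocalD.restrictCongr w ≪≫
      (Dcoh.LocalD.restrictComp c d).symm
  have h2 : IsZero ((DCoh.restrictD c).obj ((DCoh.restrictD d).obj L)) := Functor.map_isZero _ h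
  exact IsZero.of_iso h2 (i.app L)

section

variable (j : U ⟶ X) [IsOpenImmersion j]

open Groth.Agent.Dcoh.DerSch

theorem isZero_rpush {Y : Scheme.{u}} (f : X ⟶ Y) [DCoh.HasRpush f] {K : DCoh.D X} (hK : IsZero K) :
    IsZero ((DCoh.Rpush f).obj K) := by
  let _ := rpushCommShift f
  have := rpush_isTriangulated f
  exact Functor.map_isZero _ hK

/-- `Rf_*` along the identity. -/
theorem exists_rpushId [DCoh.HasRpush (𝟙 X)] : Nonempty (DCoh.Rpush (𝟙 X) ≅ 𝟭 (DCoh.D X)) :=
  ⟨Adjunction.rightAdjointUniq ((restrictAdj (𝟙 X)).ofNatIsoLeft (Dcoh.LocalD.restrictIdIso X))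
    Adjunction.id⟩

/-- `(Rj_* K)|_U ≅ K`. -/
theorem exists_restrictRpushIso [DCoh.HasRpush j] :
    Nonempty (DCoh.Rpush j ⋙ DCoh.restrictD j ≅ 𝟭 (DCoh.D U)) := by
  have := hasRpush (𝟙 U)
  obtain ⟨e⟩ := exists_rpushRestrictIso j (𝟙 U) (𝟙 U) j (IsKernelPair.id_of_mono j)
  obtain ⟨e'⟩ := exists_rpushId (X := U)
  exact ⟨e ≪≫ Functor.isoWhiskerRight (Dcoh.LocalD.restrictIdIso U) _ ≪≫
    Functor.leftUnitor _ ≪≫ e'⟩

theorem isIso_counit [DCoh.HasRpush j] : IsIso (restrictAdj j).counit := by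
  obtain ⟨e⟩ := exists_restrictRpushIso j
  exact (restrictAdj j).isIso_counit_of_iso e

/-- If `H^i(L)` is supported in a closed subset of `X` contained in `U` for all `i`, then
`L ⟶ Rj_*(L|_U)` is an isomorphism. -/
theorem isIso_unit_of_supp [DCoh.HasRpush j] (L : DCoh.D X) (Z : Set X) (hZ : IsClosed Z)
    (hZU : Z ⊆ Set.range j) (hL : ∀ i, CohB1.support (DCoh.HD L i) ⊆ Z) :
    IsIso ((restrictAdj j).unit.app L) := by
  have := isIso_counit j
  refine isIso_of_cover _ fun x => ?_
  by_cases hx : x ∈ Set.range j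
  · refine ⟨U, j, inferInstance, hx, ?_⟩
    have h := (restrictAdj j).left_triangle_components L
    have h' : IsIso ((DCoh.restrictD j).map ((restrictAdj j).unit.app L) ≫
        (restrictAdj j).counit.app ((DCoh.restrictD j).obj L)) := by
      rw [h]; exact IsIso.id _
    exact IsIso.of_isIso_comp_right _ ((restrictAdj j).counit.app ((DCoh.restrictD j).obj L))
  · let W : X.Opens := ⟨Zᶜ, hZ.isOpen_compl⟩
    refine ⟨W, W.ι, inferInstance, ?_, ?_⟩
    · rw [Scheme.Opens.range_ι]
      exact fun h => hx (hZU h)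
    · have h1 : IsZero ((DCoh.restrictD W.ι).obj L) := by
        rw [isZero_iff_supp]
        intro i
        have h2 : Supp.supp ((DCoh.restrictD W.ι).obj L) i = W.ι ⁻¹' Supp.supp L i :=
          Supp.supp_restrictD W.ι L i
        rw [h2, Set.eq_empty_iff_forall_notMem]
        intro y hy
        exact y.2 (hL i hy)
      have h2 : IsZero ((DCoh.restrictD W.ι).obj ((DCoh.Rpush j).obj ((DCoh.restrictD j).obj L))) := by
        have := hasRpush (pullback.snd j W.ι)
        obtain ⟨e⟩ := exists_rpushRestrictIso j (pullback.snd j W.ι) (pullback.fst j W.ι) W.ι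
          (IsPullback.of_hasPullback j W.ι)
        refine IsZero.of_iso ?_ (e.app _)
        exact isZero_rpush (pullback.snd j W.ι)
          (isZero_restrict_restrict _ _ _ _ pullback.condition L h1)
      exact isIso_of_source_target_iso_zero _ h1.isoZero h2.isoZero

end

end Groth.Agent.Models2.SuppPush
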