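import Groth.Prelude.Def_DDual2

/-!
# `- ⊗^L G` depends only on the isomorphism class of `G`
-/

set_option autoImplicit false
universe u
open CategoryTheory CategoryTheory.Limits AlgebraicGeometry MonoidalCategory
attribute [local instance] HasDerivedCategory.standard

namespace Groth.Agent.Models2.TensCongr

variable {X : Scheme.{u}}

/-- `- ⊗ G` is functorial in `G`. -/
noncomputable def tensorRightModIso {G G' : X.Modules} (e : G ≅ G') :
    DCoh.tensorRightMod G ≅ DCoh.tensorRightMod G' :=
  Functor.isoWhiskerLeft DCoh.toP
    (Functor.isoWhiskerRight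
      ((curriedTensor (CohB1.PMod X)).flip.mapIso ((DCoh.toP (X := X)).mapIso e)) DCoh.shP)

/-- An isomorphism of additive functors induces one on homotopy categories. -/
noncomputable def mapHomotopyCategoryIso {V W : Type*} [Category* V] [Category* W] [Preadditive V]
    [Preadditive W] {F G : V ⥤ W} [F.Additive] [G.Additive] (e : F ≅ G) {ι : Type*}
    (c : ComplexShape ι) : F.mapHomotopyCategory c ≅ G.mapHomotopyCategory c where
  hom := NatTrans.mapHomotopyCategory e.hom c
  inv := NatTrans.mapHomotopyCategory e.inv c
  hom_inv_id := by rw [← NatTrans.mapHomotopyCategory_comp]; simp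
  inv_hom_id := by rw [← NatTrans.mapHomotopyCategory_comp]; simp

/-- `- ⊗^L G` depends only on the isomorphism class of `G`. -/
noncomputable def LTensorModCongr {G G' : X.Modules} (e : G ≅ G') [DCoh.HasLTensorMod G]
    [DCoh.HasLTensorMod G'] : DCoh.LTensorMod G ≅ DCoh.LTensorMod G' :=
  Functor.leftDerivedNatIso _ _
    ((DCoh.tensorModKh G).totalLeftDerivedCounit DerivedCategory.Qh
      (HomotopyCategory.quasiIso X.Modules (ComplexShape.up ℤ)))
    ((DCoh.tensorModKh G').totalLeftDerivedCounit DerivedCategory.Qh
      (HomotopyCategory.quasiIso X.Modules (ComplexShape.up ℤ)))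
    (HomotopyCategory.quasiIso X.Modules (ComplexShape.up ℤ))
    (Functor.isoWhiskerRight (mapHomotopyCategoryIso (tensorRightModIso e) _) _)

lemma hasLTensorMod_congr {G G' : X.Modules} (e : G ≅ G') [DCoh.HasLTensorMod G] :
    DCoh.HasLTensorMod G' :=
  (Functor.hasLeftDerivedFunctor_iff_of_iso
    (Functor.isoWhiskerRight (mapHomotopyCategoryIso (tensorRightModIso e) _) _)
    (HomotopyCategory.quasiIso X.Modules (ComplexShape.up ℤ))).1 inferInstance

end Groth.Agent.Models2.TensCongr
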