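import Mathlib.Topology.NoetherianSpace
import Mathlib.Topology.Sets.Opens
import Mathlib.Topology.Inseparable
import Mathlib.Algebra.Group.Hom.Defs
import Mathlib.Data.ENat.Basic
import Mathlib.Topology.Constructible
import Mathlib.Topology.Sober

/-!
# The Brown-Gersten argument for cohomological functors on a Noetherian space

`E n U` (`n : ℕ`, `U` an open) is a contravariant functor of `U` satisfying a weak Mayer-Vietoris
property.  If the germs of `E n` at `x` vanish for `n > codim x`, then every class `a ∈ E n U`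
vanishes outside a closed set all of whose points have codimension at least `n`.
-/

set_option autoImplicit false

open TopologicalSpace

namespace Groth.Agent.Models2.BrownGersten

universe u v

/-- In a Noetherian quasi-sober space, a point of the closure of `O \ V` (`O`, `V` open) is a
specialization of a point of `O \ V`. -/
theorem exists_specializes {X : Type*} [TopologicalSpace X] [NoetherianSpace X] [QuasiSober X]
    (O V : Opens X) (z : X) (hz : z ∈ closure ((O : Set X) \ (V : Set X))) :
    ∃ y ∈ (O : Set X) \ (V : Set X), y ⤳ z := by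
  set S : Set X := (O : Set X) \ (V : Set X) with hS
  obtain ⟨T, hTf, hTc, hTi, hTu⟩ :=
    NoetherianSpace.exists_finite_set_isClosed_irreducible (isClosed_closure (s := S))
  have hcov : S = ⋃ t ∈ T, (S ∩ t) := by
    rw [← Set.inter_iUnion₂, ← Set.sUnion_eq_biUnion, ← hTu,
      Set.inter_eq_left.mpr subset_closure]
  rw [hcov, hTf.closure_biUnion] at hz
  simp only [Set.mem_iUnion, exists_prop] at hz
  obtain ⟨t, ht, hzt⟩ := hz
  have hne : (S ∩ t).Nonempty := by
    rw [← closure_nonempty_iff]
    exact ⟨z, hzt⟩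
  have hirr := hTi t ht
  have htcl : IsClosed t := hTc t ht
  obtain ⟨η, hη⟩ := QuasiSober.sober hirr htcl
  have hηO : η ∈ O := by
    obtain ⟨y, hyS, hyt⟩ := hne
    exact (hη.specializes hyt).mem_open O.isOpen hyS.1
  have hηV : η ∉ V := by
    have h1 : t ⊆ closure S := by
      rw [hTu]
      exact Set.subset_sUnion_of_mem ht
    have h2 : closure S ⊆ ((V : Set X))ᶜ :=
      closure_minimal (fun y hy => hy.2) V.isOpen.isClosed_compl
    exact h2 (h1 hη.mem)
  refine ⟨η, ⟨hηO, hηV⟩, hη.specializes ?_⟩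
  exact (htcl.closure_subset_iff.mpr Set.inter_subset_right) hzt

/-- A graded contravariant functor on the opens of a space with (weak) Mayer-Vietoris. -/
structure MVData (X : Type u) [TopologicalSpace X] where
  /-- the groups -/
  E : ℕ → Opens X → Type v
  [grp : ∀ n U, AddCommGroup (E n U)]
  /-- the restriction maps -/
  res : ∀ (n : ℕ) {U V : Opens X}, V ≤ U → (E n U →+ E n V)
  res_res : ∀ (n : ℕ) {U V W : Opens X} (h : V ≤ U) (h' : W ≤ V) (a : E n U),
    res n h' (res n h a) = res n (h'.trans h) a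
  bot : ∀ (n : ℕ) (a : E n ⊥), a = 0
  mv : ∀ (n : ℕ) (U V : Opens X) (a : E (n + 1) (U ⊔ V)),
    res (n + 1) le_sup_left a = 0 → res (n + 1) le_sup_right a = 0 →
    ∃ b : E n (U ⊓ V), ∀ (V' : Opens X) (h : V' ≤ V), res n (inf_le_inf_left U h) b = 0 →
      res (n + 1) (sup_le_sup_left h U) a = 0

attribute [instance] MVData.grp

namespace MVData

variable {X : Type u} [TopologicalSpace X] (M : MVData.{u, v} X)

/-- Brown-Gersten. -/
theorem exists_open [NoetherianSpace X] [QuasiSober X] (codim : X → ℕ)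
    (hcodim : ∀ x y : X, x ⤳ y → ¬ y ⤳ x → codim x < codim y)
    (hstalk : ∀ (n : ℕ) (x : X) (U : Opens X) (_ : x ∈ U) (a : M.E n U), codim x < n →
      ∃ (W : Opens X) (h : W ≤ U), x ∈ W ∧ M.res n h a = 0)
    (n : ℕ) (U : Opens X) (a : M.E n U) :
    ∃ (V : Opens X) (h : V ≤ U), M.res n h a = 0 ∧ ∀ x ∈ U, x ∉ V → n ≤ codim x := by
  induction n generalizing U with
  | zero => exact ⟨⊥, bot_le, M.bot _ _, fun x _ _ => Nat.zero_le _⟩
  | succ n ih =>
    -- the set of opens on which `a` vanishes has a maximal element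
    let S : Set (Opens X) := {V | ∃ h : V ≤ U, M.res (n + 1) h a = 0}
    have hS : S.Nonempty := ⟨⊥, bot_le, M.bot _ _⟩
    have hwf : WellFoundedGT (Opens X) := inferInstance
    obtain ⟨V, ⟨hVU, hVa⟩, hmax⟩ := hwf.wf.has_min S hS
    refine ⟨V, hVU, hVa, ?_⟩
    intro z hzU hzV
    by_contra hlt
    rw [not_le] at hlt
    obtain ⟨W, hWU, hzW, hWa⟩ := hstalk (n + 1) z U hzU a hlt
    -- Mayer-Vietoris on `V` and `W`
    have hVWU : V ⊔ W ≤ U := sup_le hVU hWU
    obtain ⟨b, hb⟩ := M.mv n V W (M.res (n + 1) hVWU a)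
      (by rw [M.res_res]; exact hVa) (by rw [M.res_res]; exact hWa)
    obtain ⟨V', hV', hbV', hcod⟩ := ih (V ⊓ W) b
    -- the closure of the bad locus does not contain `z`
    have hz : z ∉ closure (((V ⊓ W : Opens X) : Set X) \ (V' : Set X)) := by
      intro hz
      obtain ⟨y, ⟨hyVW, hyV'⟩, hyz⟩ := exists_specializes _ _ _ hz
      have h1 := hcod y hyVW hyV'
      have h2 : ¬ z ⤳ y := by
        intro h
        exact hzV (h.mem_open V.isOpen hyVW.1)
      have h3 := hcodim y z hyz h2
      omega
    let W' : Opens X := W ⊓ ⟨(closure (((V ⊓ W : Opens X) : Set X) \ (V' : Set X)))ᶜ,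
      isClosed_closure.isOpen_compl⟩
    have hW'W : W' ≤ W := inf_le_left
    have hle : V ⊓ W' ≤ V' := by
      intro y hy
      by_contra hyV'
      exact hy.2.2 (subset_closure ⟨⟨hy.1, hy.2.1⟩, hyV'⟩)
    have key := hb W' hW'W (by
      rw [← M.res_res n hV' hle b, hbV', map_zero])
    rw [M.res_res] at key
    have hgt : V ⊔ W' > V := by
      refine lt_of_le_of_ne le_sup_left ?_
      intro h
      apply hzV
      rw [h]
      exact Or.inr ⟨hzW, hz⟩
    exact hmax (V ⊔ W') ⟨_, key⟩ hgt

end MVData

end Groth.Agent.Models2.BrownGersten
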