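import Groth.Agent.Models2.FlatReg
import Groth.Agent.Models.CMSeq
import Groth.Agent.CalgB.CMPoly
import Groth.Agent.CalgC.DimFT
import Mathlib.RingTheory.QuasiFinite.Basic
import Mathlib.RingTheory.LocalRing.ResidueField.Fiber
import Mathlib.RingTheory.TensorProduct.MvPolynomial
import Mathlib.RingTheory.Spectrum.Prime.Chevalley

/-!
# Quasi-finite relative complete intersections are flat

`A` a ring, `f_1, ..., f_n ∈ P = A[x_1, ..., x_n]`, `q'` a prime of `B = P/(f_1, ..., f_n)` over the
prime `q` of `P`, `B` quasi-finite over `A` at `q'`.  Then `f_1, ..., f_n` is a regular sequence in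
`P_q` and `P_q/(f_1, ..., f_i)` is flat over `A`.
-/

set_option autoImplicit false
universe u

open TensorProduct RingTheory.Sequence Pointwise

namespace Groth.Agent.Models2.CIFlat

theorem isCohenMacaulayRing_field (k : Type u) [Field k] : LocCoh.IsCohenMacaulayRing k where
  isCohenMacaulayLocalRing_localization p _ := by
    refine Groth.Agent.CalgB.CMPoly.isCohenMacaulayLocalRing_of_seq [] (by simp)
      (IsWeaklyRegular.nil _ _) ?_
    have h := IsLocalization.AtPrime.ringKrullDim_eq_height p (Localization.AtPrime p)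
    have hp : p = ⊥ := (Ideal.eq_bot_or_top p).resolve_right (Ideal.IsPrime.ne_top inferInstance)
    rw [h]
    subst hp
    simp

section Fibre

variable {A : Type u} [CommRing A] {n : ℕ} (p : Ideal A) [p.IsPrime]

theorem fibre_dim (Q : Ideal (p.Fiber (MvPolynomial (Fin n) A))) [Q.IsMaximal] :
    ringKrullDim (Localization.AtPrime Q) = n := by
  let e := (MvPolynomial.algebraTensorAlgEquiv (σ := Fin n) A p.ResidueField).toRingEquiv
  rw [IsLocalization.AtPrime.ringKrullDim_eq_height Q (Localization.AtPrime Q)]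
  have h1 : (Q.comap e.symm).height = Q.height := RingEquiv.height_comap e.symm Q
  have h2 : (Q.comap e.symm).IsMaximal := Ideal.comap_isMaximal_of_surjective _ e.symm.surjective
  rw [← h1, Groth.Agent.CalgC.DimFT.height_mvPolynomial_isMaximal]
  rfl

theorem fibre_cm (Q : Ideal (p.Fiber (MvPolynomial (Fin n) A))) [Q.IsPrime] :
    LocCoh.IsCohenMacaulayLocalRing (Localization.AtPrime Q) := by
  let e := (MvPolynomial.algebraTensorAlgEquiv (σ := Fin n) A p.ResidueField).toRingEquiv
  have := isCohenMacaulayRing_field p.ResidueField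
  have := Groth.Agent.CalgB.CMPoly.isCohenMacaulayRing_mvPolynomial p.ResidueField n
  have := Groth.Agent.CalgB.CMPoly.isCohenMacaulayRing_of_ringEquiv e.symm
  exact LocCoh.IsCohenMacaulayRing.isCohenMacaulayLocalRing_localization Q

end Fibre


section Local

variable {A : Type u} [CommRing A] {n : ℕ} (p : Ideal A) [p.IsPrime]

/-- The closed fibre `P_q / p P_q`, for `q` a prime of `P = A[x_1..x_n]` which is maximal in its
fibre, is a Cohen-Macaulay local ring of dimension `n`. -/
theorem closedFibre (q : Ideal (MvPolynomial (Fin n) A)) [q.IsPrime] [q.LiesOver p]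
    (Q : Ideal (p.Fiber (MvPolynomial (Fin n) A))) [Q.IsMaximal]
    (hQ : q = Q.comap (Algebra.TensorProduct.includeRight :
      MvPolynomial (Fin n) A →ₐ[A] p.Fiber (MvPolynomial (Fin n) A)))
    [Algebra (Localization.AtPrime p) (Localization.AtPrime q)]
    [Localization.AtPrime.IsLiesOverAlgebra p q] :
    LocCoh.IsCohenMacaulayLocalRing
      (Localization.AtPrime q ⧸ p.map (algebraMap A (Localization.AtPrime q))) ∧
    ringKrullDim (Localization.AtPrime q ⧸ p.map (algebraMap A (Localization.AtPrime q))) = n := by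
  subst hQ
  have e := Ideal.Fiber.localizationAlgEquivQuotient p Q
  have := fibre_cm p Q
  refine ⟨Groth.Agent.CalgB.CMPoly.isCohenMacaulayLocalRing_of_ringEquiv
    (R := Localization.AtPrime Q) e.toRingEquiv, ?_⟩
  rw [← ringKrullDim_eq_of_ringEquiv e.toRingEquiv, fibre_dim p Q]

end Local

section Abstract

/-- `T` Cohen-Macaulay local of dimension `≥ length rs`, every prime containing `rs` is maximal: then
`rs` is weakly regular. -/
theorem isWeaklyRegular_of_forall_prime {T : Type u} [CommRing T]
    (hcm : LocCoh.IsCohenMacaulayLocalRing T) (rs : List T)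
    (hmem : ∀ r ∈ rs, ¬ IsUnit r) (hdim : (rs.length : WithBot ℕ∞) ≤ ringKrullDim T)
    (H : ∀ r : Ideal T, r.IsPrime → (∀ x ∈ rs, x ∈ r) → r.IsMaximal) :
    IsWeaklyRegular T rs := by
  have hle : ringKrullDim (T ⧸ Ideal.ofList rs) ≤ 0 := by
    have : Ring.KrullDimLE 0 (T ⧸ Ideal.ofList rs) := by
      rw [Ring.krullDimLE_zero_iff]
      intro I hI
      have h1 : (I.comap (Ideal.Quotient.mk (Ideal.ofList rs))).IsMaximal := by
        refine H _ inferInstance fun x hx => ?_
        rw [Ideal.mem_comap, Ideal.Quotient.eq_zero_iff_mem.2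
          (Ideal.subset_span (s := {r | r ∈ rs}) hx)]
        exact I.zero_mem
      rw [← Ideal.map_comap_of_surjective _ Ideal.Quotient.mk_surjective I]
      refine Ideal.IsMaximal.map_of_surjective_of_ker_le Ideal.Quotient.mk_surjective ?_
      exact Ideal.comap_mono bot_le
    exact Ring.krullDimLE_iff.1 this
  refine Groth.Agent.Models.CMSeq.isWeaklyRegular_of_supportDim_le
    hcm.supportDim_eq_depth rs (fun r hr => (IsLocalRing.mem_maximalIdeal _).2 (hmem r hr)) ?_
  have eq : Ideal.ofList rs • (⊤ : Ideal T) = Ideal.ofList rs := by simp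
  rw [eq, Module.supportDim_quotient_eq_ringKrullDim, Module.supportDim_self_eq_ringKrullDim]
  refine le_trans ?_ hdim
  calc _ ≤ (0 : WithBot ℕ∞) + rs.length := by gcongr
    _ = (rs.length : WithBot ℕ∞) := by simp

/-- version modulo an ideal -/
theorem isWeaklyRegular_mod {S : Type u} [CommRing S] [IsLocalRing S] (J : Ideal S)
    (hcm : LocCoh.IsCohenMacaulayLocalRing (S ⧸ J)) (rs : List S)
    (hmem : ∀ r ∈ rs, r ∈ IsLocalRing.maximalIdeal S)
    (hdim : (rs.length : WithBot ℕ∞) ≤ ringKrullDim (S ⧸ J))
    (H : ∀ r : Ideal S, r.IsPrime → J ≤ r → (∀ x ∈ rs, x ∈ r) → r.IsMaximal) :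
    IsWeaklyRegular (S ⧸ J) (rs.map (Ideal.Quotient.mk J)) := by
  refine isWeaklyRegular_of_forall_prime hcm _ ?_ (by simpa using hdim) ?_
  · intro r hr hu
    obtain ⟨s, hs, rfl⟩ := List.mem_map.1 hr
    obtain ⟨b, hb⟩ := hu.exists_right_inv
    obtain ⟨b, rfl⟩ := Ideal.Quotient.mk_surjective b
    rw [← map_mul, ← map_one (Ideal.Quotient.mk J), Ideal.Quotient.eq] at hb
    have hJ : J ≤ IsLocalRing.maximalIdeal S := by
      refine IsLocalRing.le_maximalIdeal fun h => ?_
      have := hcm.toIsLocalRing.toNontrivial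
      exact Ideal.Quotient.nontrivial_iff.1 this h
    have h1 := hJ hb
    have h2 : (1 : S) ∈ IsLocalRing.maximalIdeal S := by
      have := (IsLocalRing.maximalIdeal S).sub_mem
        ((IsLocalRing.maximalIdeal S).mul_mem_right b (hmem s hs)) h1
      simp at this
    exact (Ideal.ne_top_iff_one _).1 (IsLocalRing.maximalIdeal.isMaximal S).ne_top h2
  · intro r hr hx
    have h1 : (r.comap (Ideal.Quotient.mk J)).IsMaximal := by
      refine H _ inferInstance ?_ fun x hx' => ?_
      · intro y hy
        rw [Ideal.mem_comap, Ideal.Quotient.eq_zero_iff_mem.2 hy]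
        exact r.zero_mem
      · exact hx _ (List.mem_map_of_mem hx')
    rw [← Ideal.map_comap_of_surjective _ Ideal.Quotient.mk_surjective r]
    exact Ideal.IsMaximal.map_of_surjective_of_ker_le Ideal.Quotient.mk_surjective
      (Ideal.comap_mono bot_le)

end Abstract

section Main

/-- quasi-finite at `q`: the corresponding prime of the fibre ring is maximal -/
theorem exists_maximal_fibre {R S : Type u} [CommRing R] [CommRing S] [Algebra R S]
    [Algebra.FiniteType R S] (p : Ideal R) [p.IsPrime] (q : Ideal S) [q.IsPrime] [q.LiesOver p]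
    [Algebra.QuasiFiniteAt R q] :
    ∃ Q : Ideal (p.Fiber S), Q.IsMaximal ∧
      q = Q.comap Algebra.TensorProduct.includeRight.toRingHom := by
  let q' : Ideal (p.Fiber S) := (PrimeSpectrum.primesOverOrderIsoFiber R S p ⟨q, ‹_›, ‹_›⟩).asIdeal
  have hq' : q = q'.comap Algebra.TensorProduct.includeRight.toRingHom :=
    congr($((PrimeSpectrum.primesOverOrderIsoFiber R S p).symm_apply_apply ⟨q, ‹_›, ‹_›⟩).1).symm
  have : Algebra.QuasiFiniteAt p.ResidueField q' := .baseChange q _ hq'
  have : q'.IsMaximal := (PrimeSpectrum.isClosed_singleton_iff_isMaximal _).mp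
    (Algebra.QuasiFiniteAt.isClopen_singleton (R := p.ResidueField) _).isClosed
  exact ⟨q', this, hq'⟩

variable {A : Type u} [CommRing A] {n : ℕ} (f : Fin n → MvPolynomial (Fin n) A)
  (q' : Ideal (MvPolynomial (Fin n) A ⧸ Ideal.span (Set.range f))) [q'.IsPrime]

/-- The prime of the fibre ring of `P` corresponding to `q'` is maximal. -/
theorem exists_maximal (p : Ideal A) [p.IsPrime] [q'.LiesOver p] [Algebra.QuasiFiniteAt A q'] :
    ∃ Q : Ideal (p.Fiber (MvPolynomial (Fin n) A)), Q.IsMaximal ∧
      q'.comap (Ideal.Quotient.mk _) = Q.comap (Algebra.TensorProduct.includeRight :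
      MvPolynomial (Fin n) A →ₐ[A] p.Fiber (MvPolynomial (Fin n) A)) := by
  obtain ⟨Q', hmax, hq'⟩ := exists_maximal_fibre p q'
  let φ : p.Fiber (MvPolynomial (Fin n) A) →ₐ[A]
      p.Fiber (MvPolynomial (Fin n) A ⧸ Ideal.span (Set.range f)) :=
    Algebra.TensorProduct.map (AlgHom.id _ _) (Ideal.Quotient.mkₐ A _)
  have hφ : Function.Surjective φ := by
    exact TensorProduct.map_surjective Function.surjective_id Ideal.Quotient.mk_surjective
  refine ⟨Q'.comap φ, Ideal.comap_isMaximal_of_surjective _ hφ, ?_⟩
  conv_lhs => rw [hq']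
  ext x
  simp only [Ideal.mem_comap]
  rfl

/-- The prime ideals of `P_q` containing `p` and the `f_i` are maximal. -/
theorem eq_maximalIdeal [Algebra.QuasiFiniteAt A q']
    (q : Ideal (MvPolynomial (Fin n) A)) [q.IsPrime] (hq : q = q'.comap (Ideal.Quotient.mk _))
    (r : Ideal (Localization.AtPrime q)) [r.IsPrime]
    (hr : (q.under A).map (algebraMap A (Localization.AtPrime q)) ≤ r)
    (hf : ∀ i, algebraMap _ (Localization.AtPrime q) (f i) ∈ r) :
    r = IsLocalRing.maximalIdeal (Localization.AtPrime q) := by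
  have hmap := IsLocalization.map_under (M := q.primeCompl) (S := Localization.AtPrime q) r
  set r₀ := r.under (MvPolynomial (Fin n) A) with hr₀
  have hr₀q : r₀ ≤ q := by
    have h1 : r ≤ IsLocalRing.maximalIdeal (Localization.AtPrime q) :=
      IsLocalRing.le_maximalIdeal (Ideal.IsPrime.ne_top inferInstance)
    have h2 := Ideal.comap_mono (f := algebraMap (MvPolynomial (Fin n) A) (Localization.AtPrime q)) h1
    rwa [show (IsLocalRing.maximalIdeal (Localization.AtPrime q)).comap
      (algebraMap (MvPolynomial (Fin n) A) (Localization.AtPrime q)) = q from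
      Localization.AtPrime.under_maximalIdeal] at h2
  have hker : RingHom.ker (Ideal.Quotient.mk (Ideal.span (Set.range f))) ≤ r₀ := by
    rw [Ideal.mk_ker, Ideal.span_le]
    rintro _ ⟨i, rfl⟩
    exact hf i
  have hprime : (r₀.map (Ideal.Quotient.mk (Ideal.span (Set.range f)))).IsPrime :=
    Ideal.map_isPrime_of_surjective Ideal.Quotient.mk_surjective hker
  have hcomap : (r₀.map (Ideal.Quotient.mk (Ideal.span (Set.range f)))).comap
      (Ideal.Quotient.mk (Ideal.span (Set.range f))) = r₀ := by
    rw [Ideal.comap_map_of_surjective _ Ideal.Quotient.mk_surjective, sup_eq_left]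
    exact hker
  have hle : r₀.map (Ideal.Quotient.mk (Ideal.span (Set.range f))) ≤ q' := by
    rw [Ideal.map_le_iff_le_comap, ← hq]
    exact hr₀q
  have hunder : (r₀.map (Ideal.Quotient.mk (Ideal.span (Set.range f)))).under A = q'.under A := by
    have h1 : (r₀.map (Ideal.Quotient.mk (Ideal.span (Set.range f)))).under A = r₀.under A := by
      conv_rhs => rw [← hcomap]
      rfl
    have h2 : q'.under A = q.under A := by
      rw [hq]; rfl
    rw [h1, h2]
    refine le_antisymm (Ideal.comap_mono hr₀q) ?_
    rw [← Ideal.map_le_iff_le_comap]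
    rw [IsScalarTower.algebraMap_eq A (MvPolynomial (Fin n) A) (Localization.AtPrime q), ← Ideal.map_map] at hr
    exact (Ideal.le_comap_map).trans (Ideal.comap_mono hr)
  have key := Algebra.QuasiFiniteAt.eq_of_le_of_under_eq (R := A) hle hunder
  have h3 : r₀ = q := by rw [← hcomap, key, hq]
  rw [← hmap, h3, Localization.AtPrime.map_eq_maximalIdeal]

variable [IsNoetherianRing A]

/-- Noetherian case. -/
theorem flatSeq_noetherian [Algebra.QuasiFiniteAt A q']
    (q : Ideal (MvPolynomial (Fin n) A)) [q.IsPrime] (hq : q = q'.comap (Ideal.Quotient.mk _)) :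
    FlatReg.FlatSeq A (List.ofFn fun i => algebraMap _ (Localization.AtPrime q) (f i))
      (Localization.AtPrime q) := by
  let p := q.under A
  have hlo : q'.LiesOver p := ⟨by rw [show p = q.under A from rfl, hq]; rfl⟩
  let _ := Localization.AtPrime.algebraOfLiesOver p q
  obtain ⟨Q, hQm, hQ⟩ := exists_maximal f q' p
  obtain ⟨hcm, hdim⟩ := closedFibre p q Q (hq.trans hQ)
  have hloc : IsLocalHom (algebraMap (Localization.AtPrime p) (Localization.AtPrime q)) := by
    rw [Localization.AtPrime.IsLiesOverAlgebra.algebraMap_eq (p := p) (P := q)]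
    infer_instance
  have hnoe : IsNoetherianRing (Localization.AtPrime q) :=
    IsLocalization.isNoetherianRing q.primeCompl _ inferInstance
  have hflat : Module.Flat A (Localization.AtPrime q) :=
    Module.Flat.trans A (MvPolynomial (Fin n) A) _
  have hflat' : Module.Flat (Localization.AtPrime p) (Localization.AtPrime q) :=
    (Module.flat_iff_of_isLocalization (Localization.AtPrime p) p.primeCompl _).2 hflat
  have hJ : (IsLocalRing.maximalIdeal (Localization.AtPrime p)).map
      (algebraMap (Localization.AtPrime p) (Localization.AtPrime q)) =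
      p.map (algebraMap A (Localization.AtPrime q)) := by
    rw [← Localization.AtPrime.map_eq_maximalIdeal, Ideal.map_map, ← IsScalarTower.algebraMap_eq]
  refine FlatReg.FlatSeq.restrictScalars (Localization.AtPrime p) ?_
  apply FlatReg.flatReg_self_of_fibre
  rw [hJ]
  refine isWeaklyRegular_mod _ hcm _ ?_ ?_ ?_
  · intro r hr
    obtain ⟨i, rfl⟩ := (List.mem_ofFn' _ _).1 hr
    rw [← Localization.AtPrime.map_eq_maximalIdeal]
    refine Ideal.mem_map_of_mem _ ?_
    rw [hq, Ideal.mem_comap, Ideal.Quotient.eq_zero_iff_mem.2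
      (Ideal.subset_span (Set.mem_range_self i))]
    exact q'.zero_mem
  · rw [hdim, List.length_ofFn]
  · intro r hr hJr hx
    rw [eq_maximalIdeal f q' q hq r hJr fun i => hx _ ((List.mem_ofFn' _ _).2 ⟨i, rfl⟩)]
    infer_instance

end Main

end Groth.Agent.Models2.CIFlat
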