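import Mathlib.RingTheory.ZariskisMainTheorem
import Mathlib.RingTheory.Spectrum.Prime.Chevalley

/-!
# Quasi-finiteness at a point descends along arbitrary base change

`S` an `R`-algebra of finite type, `A` an `R`-algebra, `Q` a prime of `A ⊗[R] S` at which
`A ⊗[R] S` is quasi-finite over `A`.  Then `S` is quasi-finite over `R` at the image of `Q`.
-/

set_option autoImplicit false

open TensorProduct

namespace Groth.Agent.Models2.QFDescent

/-- over a field -/
theorem isOpen_singleton_comap {k K F : Type*} [Field k] [Field K] [CommRing F]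
    [Algebra k K] [Algebra k F] (Q : PrimeSpectrum (K ⊗[k] F)) (hQ : IsOpen {Q}) :
    IsOpen {PrimeSpectrum.comap (Algebra.TensorProduct.includeRight : F →ₐ[k] K ⊗[k] F).toRingHom Q} := by
  let c : (F ⊗[k] K) ≃ₐ[k] (K ⊗[k] F) := Algebra.TensorProduct.comm k F K
  have h1 : IsOpen {PrimeSpectrum.comap c.toRingEquiv.toRingHom Q} := by
    have := (PrimeSpectrum.homeomorphOfRingEquiv c.toRingEquiv).symm.isOpenMap _ hQ
    rw [Set.image_singleton] at this
    exact this
  have h2 := PrimeSpectrum.isOpenMap_comap_algebraMap_tensorProduct_of_field (K := k) (A := F)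
    (B := K) _ h1
  rw [Set.image_singleton, ← PrimeSpectrum.comap_comp_apply] at h2
  convert h2 using 3
  ext x
  simp [c, Algebra.TensorProduct.algebraMap_apply]

theorem exists_quasiFiniteAt {k K F G : Type*} [Field k] [Field K] [CommRing F] [CommRing G]
    [Algebra k K] [Algebra k F] [Algebra K G] [Algebra.FiniteType k F] (e : G ≃ₐ[K] K ⊗[k] F)
    (Q₁ : Ideal G) [Q₁.IsPrime] [Algebra.QuasiFiniteAt K Q₁] :
    ∃ (Q₃ : Ideal F) (_ : Q₃.IsPrime), Algebra.QuasiFiniteAt k Q₃ ∧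
      ∀ x : F, x ∈ Q₃ ↔ e.symm (1 ⊗ₜ x) ∈ Q₁ := by
  let Q₂ : PrimeSpectrum (K ⊗[k] F) := ⟨Q₁.comap e.symm.toRingEquiv.toRingHom, inferInstance⟩
  have hQ₂ : Algebra.QuasiFiniteAt K Q₂.asIdeal := by
    refine Algebra.QuasiFiniteAt.of_surjectiveOnStalks Q₁ e.toAlgHom
      (RingHom.surjectiveOnStalks_of_surjective e.surjective) _ ?_
    ext x
    simp [Q₂]
  have hft : Algebra.FiniteType K (K ⊗[k] F) := inferInstance
  have hop : IsOpen {Q₂} := (Algebra.QuasiFiniteAt.isClopen_singleton (R := K) Q₂).isOpen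
  have hop2 := isOpen_singleton_comap _ hop
  exact ⟨_, inferInstance, Algebra.QuasiFiniteAt.of_isOpen_singleton (R := k) _ hop2,
    fun x => Iff.rfl⟩

theorem quasiFiniteAt_comap {R A S : Type*} [CommRing R] [CommRing A] [CommRing S] [Algebra R A]
    [Algebra R S] [Algebra.FiniteType R S] (Q : Ideal (A ⊗[R] S)) [hQp : Q.IsPrime]
    [Algebra.QuasiFiniteAt A Q] :
    Algebra.QuasiFiniteAt R
      (Q.comap (Algebra.TensorProduct.includeRight : S →ₐ[R] A ⊗[R] S).toRingHom) := by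
  let P := Q.under A
  let p := P.under R
  let := Localization.AtPrime.algebraOfLiesOver p P
  let e : P.Fiber (A ⊗[R] S) ≃ₐ[P.ResidueField] P.ResidueField ⊗[p.ResidueField] (p.Fiber S) :=
    (Algebra.TensorProduct.cancelBaseChange _ _ _ _ _).trans
      (Algebra.TensorProduct.cancelBaseChange _ _ _ _ _).symm
  let Q₁ : Ideal (P.Fiber (A ⊗[R] S)) :=
    (PrimeSpectrum.primesOverOrderIsoFiber A (A ⊗[R] S) P ⟨Q, ‹_›, inferInstance⟩).asIdeal
  have hQ₁ : Q = Q₁.comap Algebra.TensorProduct.includeRight.toRingHom :=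
    congr($((PrimeSpectrum.primesOverOrderIsoFiber A (A ⊗[R] S) P).symm_apply_apply
      ⟨Q, ‹_›, inferInstance⟩).1).symm
  have : Algebra.QuasiFiniteAt P.ResidueField Q₁ := .baseChange Q _ hQ₁
  obtain ⟨Q₃, hQ₃p, hQ₃, hmem⟩ := exists_quasiFiniteAt e Q₁
  have hlo : (Q.comap (Algebra.TensorProduct.includeRight :
      S →ₐ[R] A ⊗[R] S).toRingHom).LiesOver p := by
    constructor
    ext x
    change algebraMap A (A ⊗[R] S) (algebraMap R A x) ∈ Q ↔ 1 ⊗ₜ[R] algebraMap R S x ∈ Q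
    have h : algebraMap A (A ⊗[R] S) (algebraMap R A x) = 1 ⊗ₜ[R] algebraMap R S x := by
      rw [Algebra.TensorProduct.algebraMap_apply, Algebra.algebraMap_self_apply,
        Algebra.algebraMap_eq_smul_one, Algebra.algebraMap_eq_smul_one, TensorProduct.smul_tmul]
    rw [h]
  refine Algebra.QuasiFiniteAt.of_quasiFiniteAt_residueField p _ Q₃ ?_
  conv_rhs => rw [hQ₁]
  ext x
  simp only [Ideal.mem_comap]
  refine (hmem _).trans ?_
  have h : e.symm (1 ⊗ₜ (1 ⊗ₜ[R] x)) = 1 ⊗ₜ[A] (1 ⊗ₜ[R] x) := by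
    simp [e]
  exact iff_of_eq (congrArg (· ∈ Q₁) h)

/-- Version for an algebra isomorphic to the base change. -/
theorem quasiFiniteAt_of_equiv {R A S C : Type*} [CommRing R] [CommRing A] [CommRing S]
    [Algebra R A] [Algebra R S] [Algebra.FiniteType R S] [CommRing C] [Algebra A C]
    (e : A ⊗[R] S ≃ₐ[A] C) (q' : Ideal C) [q'.IsPrime] [Algebra.QuasiFiniteAt A q']
    (q₀ : Ideal S) [q₀.IsPrime] (h : ∀ x, x ∈ q₀ ↔ e (1 ⊗ₜ x) ∈ q') :
    Algebra.QuasiFiniteAt R q₀ := by
  let Q : PrimeSpectrum (A ⊗[R] S) := ⟨q'.comap e.toRingEquiv.toRingHom, inferInstance⟩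
  have hQ : Algebra.QuasiFiniteAt A Q.asIdeal := by
    refine Algebra.QuasiFiniteAt.of_surjectiveOnStalks q' e.symm.toAlgHom
      (RingHom.surjectiveOnStalks_of_surjective e.symm.surjective) _ ?_
    ext x
    simp [Q]
  have h1 := quasiFiniteAt_comap Q.asIdeal
  have h2 : q₀ = Q.asIdeal.comap (Algebra.TensorProduct.includeRight :
      S →ₐ[R] A ⊗[R] S).toRingHom := by
    ext x
    exact h x
  subst h2
  exact h1

end Groth.Agent.Models2.QFDescent
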