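import Mathlib.RingTheory.Localization.BaseChange
import Mathlib.RingTheory.Localization.LocalizationLocalization
import Mathlib.RingTheory.Flat.Localization
import Mathlib.RingTheory.RingHom.Flat
import Mathlib.RingTheory.Regular.Flat

/-!
# Local rings of a base change

`Q` a prime of `S ⊗[R] A` over the prime `Q₀` of `A`: the canonical map
`S ⊗[R] A_{Q₀} → (S ⊗[R] A)_Q` is flat (a localization).
-/

set_option autoImplicit false

open TensorProduct RingTheory.Sequence

namespace Groth.Agent.Models2.TensorLocal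

variable {R S A : Type*} [CommRing R] [CommRing S] [CommRing A] [Algebra R S] [Algebra R A]

theorem exists_flat_lift (Q : Ideal (S ⊗[R] A)) [Q.IsPrime] (Q₀ : Ideal A) [Q₀.IsPrime]
    (h : Q₀ = Q.comap (Algebra.TensorProduct.includeRight : A →ₐ[R] S ⊗[R] A).toRingHom) :
    ∃ φ : S ⊗[R] Localization.AtPrime Q₀ →ₐ[S] Localization.AtPrime Q, φ.toRingHom.Flat ∧
      ∀ a : A, φ (1 ⊗ₜ[R] algebraMap A (Localization.AtPrime Q₀) a) =
        algebraMap (S ⊗[R] A) (Localization.AtPrime Q) (1 ⊗ₜ[R] a) := by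
  let f : S ⊗[R] Localization.AtPrime Q₀ →ₐ[S] Localization.AtPrime Q :=
    Algebra.TensorProduct.lift (Algebra.ofId _ _) ⟨Localization.localRingHom _ _ _ h, by
      simp [IsScalarTower.algebraMap_apply R A (Localization.AtPrime Q₀),
        IsScalarTower.algebraMap_apply R (S ⊗[R] A) (Localization.AtPrime Q)]⟩ fun _ _ ↦ .all _ _
  have hf : ∀ a : A, f (1 ⊗ₜ[R] algebraMap A (Localization.AtPrime Q₀) a) =
      algebraMap (S ⊗[R] A) (Localization.AtPrime Q) (1 ⊗ₜ[R] a) := by
    intro a
    simp [f]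
  refine ⟨f, ?_, hf⟩
  let g : S ⊗[R] A →ₐ[S] S ⊗[R] Localization.AtPrime Q₀ :=
    Algebra.TensorProduct.map (.id _ _) (IsScalarTower.toAlgHom _ _ _)
  letI : Algebra (S ⊗[R] A) (S ⊗[R] Localization.AtPrime Q₀) := g.toRingHom.toAlgebra
  haveI : IsScalarTower S (S ⊗[R] A) (S ⊗[R] Localization.AtPrime Q₀) :=
    .of_algebraMap_eq' g.comp_algebraMap.symm
  have hloc : IsLocalization (Q₀.primeCompl.map
      (Algebra.TensorProduct.includeRight (R := R) (A := S))) (S ⊗[R] Localization.AtPrime Q₀) := by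
    refine IsLocalization.tensorProduct_tensorProduct_right R S Q₀.primeCompl _ ?_
    ext a
    simp [RingHom.algebraMap_toAlgebra, g]
  letI : Algebra (S ⊗[R] Localization.AtPrime Q₀) (Localization.AtPrime Q) := f.toRingHom.toAlgebra
  haveI : IsScalarTower (S ⊗[R] A) (S ⊗[R] Localization.AtPrime Q₀) (Localization.AtPrime Q) := by
    refine .of_algebraMap_eq' ?_
    have h1 : (IsScalarTower.toAlgHom S (S ⊗[R] A) (Localization.AtPrime Q)) = f.comp g := by
      ext a
      simp [g, hf]
    exact congrArg AlgHom.toRingHom h1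
  have hle : Q₀.primeCompl.map (Algebra.TensorProduct.includeRight (R := R) (A := S)) ≤
      Q.primeCompl := by
    rintro _ ⟨a, ha, rfl⟩
    intro hQ
    apply ha
    rw [h]
    exact hQ
  have := IsLocalization.isLocalization_of_submonoid_le (S ⊗[R] Localization.AtPrime Q₀)
    (Localization.AtPrime Q) _ Q.primeCompl hle
  have hfl := IsLocalization.flat (R := S ⊗[R] Localization.AtPrime Q₀) (Localization.AtPrime Q)
    (Q.primeCompl.map (algebraMap (S ⊗[R] A) (S ⊗[R] Localization.AtPrime Q₀)))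
  exact hfl

theorem flat_atPrime (Q : Ideal (S ⊗[R] A)) [Q.IsPrime] (Q₀ : Ideal A) [Q₀.IsPrime]
    (h : Q₀ = Q.comap (Algebra.TensorProduct.includeRight : A →ₐ[R] S ⊗[R] A).toRingHom)
    [Module.Flat R (Localization.AtPrime Q₀)] : Module.Flat S (Localization.AtPrime Q) := by
  obtain ⟨φ, hφ, -⟩ := exists_flat_lift Q Q₀ h
  have h1 : (algebraMap S (S ⊗[R] Localization.AtPrime Q₀)).Flat := by
    rw [RingHom.flat_algebraMap_iff]
    infer_instance
  have h2 := RingHom.Flat.comp h1 hφ
  rw [← RingHom.flat_algebraMap_iff]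
  convert h2
  exact φ.comp_algebraMap.symm

/-- Version for an algebra isomorphic to the base change. -/
theorem flat_atPrime_of_equiv {C : Type*} [CommRing C] [Algebra S C]
    (e : S ⊗[R] A ≃ₐ[S] C) (q' : Ideal C) [q'.IsPrime]
    (q₀ : Ideal A) [q₀.IsPrime] (h : ∀ x, x ∈ q₀ ↔ e (1 ⊗ₜ x) ∈ q')
    [Module.Flat R (Localization.AtPrime q₀)] : Module.Flat S (Localization.AtPrime q') := by
  let Q : PrimeSpectrum (S ⊗[R] A) := ⟨q'.comap e, inferInstance⟩
  have h2 : q₀ = Q.asIdeal.comap (Algebra.TensorProduct.includeRight :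
      A →ₐ[R] S ⊗[R] A).toRingHom := by
    ext x
    exact h x
  have h3 := flat_atPrime Q.asIdeal q₀ h2
  let e' := Localization.localAlgEquiv Q.asIdeal q' e rfl
  exact Module.Flat.of_linearEquiv e'.symm.toLinearEquiv

/-- A sequence which is weakly regular on `S ⊗[R] A_{q₀}` is weakly regular on `C_{q'}`, where
`C = S ⊗[R] A`. -/
theorem isWeaklyRegular_of_equiv {C : Type*} [CommRing C] [Algebra S C]
    (e : S ⊗[R] A ≃ₐ[S] C) (q' : Ideal C) [q'.IsPrime]
    (q₀ : Ideal A) [q₀.IsPrime] (h : ∀ x, x ∈ q₀ ↔ e (1 ⊗ₜ x) ∈ q') (rs : List A)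
    (hrs : IsWeaklyRegular (Localization.AtPrime q₀ ⊗[R] S)
      (rs.map (algebraMap A (Localization.AtPrime q₀)))) :
    IsWeaklyRegular (Localization.AtPrime q')
      (rs.map fun x => algebraMap C (Localization.AtPrime q') (e (1 ⊗ₜ x))) := by
  let Q : PrimeSpectrum (S ⊗[R] A) := ⟨q'.comap e, inferInstance⟩
  have h2 : q₀ = Q.asIdeal.comap (Algebra.TensorProduct.includeRight :
      A →ₐ[R] S ⊗[R] A).toRingHom := by
    ext x
    exact h x
  obtain ⟨φ, hφ, hφ'⟩ := exists_flat_lift Q.asIdeal q₀ h2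
  have h3 : IsWeaklyRegular (S ⊗[R] Localization.AtPrime q₀)
      (rs.map fun x => (1 : S) ⊗ₜ[R] algebraMap A (Localization.AtPrime q₀) x) := by
    refine (AddEquiv.isWeaklyRegular_congr
      (e := (TensorProduct.comm R (Localization.AtPrime q₀) S).toAddEquiv) ?_).1 hrs
    rw [List.forall₂_map_left_iff, List.forall₂_map_right_iff, List.forall₂_same]
    intro x _ z
    induction z with
    | zero => simp
    | add a b ha hb => rw [smul_add, map_add, map_add, ha, hb, smul_add]
    | tmul a b =>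
      simp [TensorProduct.smul_tmul', Algebra.smul_def]
  let ψ : S ⊗[R] Localization.AtPrime q₀ →+* Localization.AtPrime q' :=
    (Localization.localAlgEquiv Q.asIdeal q' e rfl).toRingEquiv.toRingHom.comp φ.toRingHom
  have hψ : ψ.Flat := hφ.comp (RingHom.Flat.of_bijective
    (Localization.localAlgEquiv Q.asIdeal q' e rfl).toRingEquiv.bijective)
  algebraize [ψ]
  have h4 := IsWeaklyRegular.of_flat (S := Localization.AtPrime q') h3
  rw [List.map_map] at h4
  have h5 : (fun x => algebraMap C (Localization.AtPrime q') (e (1 ⊗ₜ x))) =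
      (algebraMap (S ⊗[R] Localization.AtPrime q₀) (Localization.AtPrime q')) ∘
        fun x => (1 : S) ⊗ₜ[R] algebraMap A (Localization.AtPrime q₀) x := by
    funext x
    change _ = ψ (1 ⊗ₜ[R] algebraMap A (Localization.AtPrime q₀) x)
    simp [ψ, hφ']
  rw [h5]
  exact h4

end Groth.Agent.Models2.TensorLocal
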