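import Groth.Agent.Models2.CIFlat
import Groth.Agent.Models2.QFDescent
import Groth.Agent.Models2.TensorLocal
import Mathlib.RingTheory.TensorProduct.Quotient

/-!
# Quasi-finite relative complete intersections are flat: arbitrary base rings
-/

set_option autoImplicit false
universe u

open TensorProduct RingTheory.Sequence

namespace Groth.Agent.Models2.CIFlat2

section Model

variable {A₀ A : Type u} [CommRing A₀] [CommRing A] [Algebra A₀ A] {n : ℕ}
  (f₀ : Fin n → MvPolynomial (Fin n) A₀) (f : Fin n → MvPolynomial (Fin n) A)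
  (hf : ∀ i, MvPolynomial.map (algebraMap A₀ A) (f₀ i) = f i)

include hf in
theorem span_eq : Ideal.span (Set.range f) =
    ((Ideal.span (Set.range f₀)).map (Algebra.TensorProduct.includeRight :
      MvPolynomial (Fin n) A₀ →ₐ[A₀] A ⊗[A₀] MvPolynomial (Fin n) A₀)).map
      (MvPolynomial.algebraTensorAlgEquiv (σ := Fin n) A₀ A) := by
  rw [← Ideal.map_coe (Algebra.TensorProduct.includeRight :
      MvPolynomial (Fin n) A₀ →ₐ[A₀] A ⊗[A₀] MvPolynomial (Fin n) A₀),
    ← Ideal.map_coe (MvPolynomial.algebraTensorAlgEquiv (σ := Fin n) A₀ A), Ideal.map_map,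
    Ideal.map_span, ← Set.range_comp]
  congr 2
  funext i
  simp [← hf i]

/-- `A ⊗ A₀[x]/(f₀) = A[x]/(f)` -/
noncomputable def quotEquiv : A ⊗[A₀] (MvPolynomial (Fin n) A₀ ⧸ Ideal.span (Set.range f₀)) ≃ₐ[A]
    MvPolynomial (Fin n) A ⧸ Ideal.span (Set.range f) :=
  (Algebra.TensorProduct.tensorQuotientEquiv A _ A _).trans
    (Ideal.quotientEquivAlg _ _ (MvPolynomial.algebraTensorAlgEquiv A₀ A) (span_eq f₀ f hf))

theorem quotEquiv_tmul (x : MvPolynomial (Fin n) A₀) :
    quotEquiv f₀ f hf (1 ⊗ₜ Ideal.Quotient.mk _ x) =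
      Ideal.Quotient.mk _ (MvPolynomial.map (algebraMap A₀ A) x) := by
  rw [quotEquiv, AlgEquiv.trans_apply]
  change (Ideal.quotientEquivAlg _ _ (MvPolynomial.algebraTensorAlgEquiv A₀ A) _)
    (Ideal.Quotient.mk _ (1 ⊗ₜ x)) = _
  simp

/-- `P_q / I P_q = (P/I)_{q'}` is flat if the former is. -/
theorem flat_atPrime_quotient {R P : Type u} [CommRing R] [CommRing P] [Algebra R P] (I : Ideal P)
    (q' : Ideal (P ⧸ I)) [q'.IsPrime] (q : Ideal P) [q.IsPrime]
    (hq : q = q'.comap (Ideal.Quotient.mk I))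
    [Module.Flat R (Localization.AtPrime q ⧸ I.map (algebraMap P (Localization.AtPrime q)))] :
    Module.Flat R (Localization.AtPrime q') := by
  have hlo : q'.LiesOver q := ⟨hq⟩
  have h1 : Algebra.algebraMapSubmonoid (P ⧸ I) q.primeCompl = q'.primeCompl :=
    Ideal.algebraMapSubmonoid_primeCompl_of_liesOver_surjective q' q Ideal.Quotient.mk_surjective
  have h2 : IsLocalization (Algebra.algebraMapSubmonoid (P ⧸ I) q.primeCompl)
    (Localization.AtPrime q') := by
    rw [h1]; infer_instance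
  have := IsScalarTower.to₁₃₄ R P (P ⧸ I) (Localization.AtPrime q')
  have := IsScalarTower.to₁₃₄ R P (P ⧸ I)
    (Localization.AtPrime q ⧸ I.map (algebraMap P (Localization.AtPrime q)))
  let e := (IsLocalization.algEquiv (Algebra.algebraMapSubmonoid (P ⧸ I) q.primeCompl)
      (Localization.AtPrime q')
      (Localization.AtPrime q ⧸ I.map (algebraMap P (Localization.AtPrime q)))).restrictScalars R
  exact Module.Flat.of_linearEquiv e.toLinearEquiv

include hf in
theorem main_of_model [IsNoetherianRing A₀]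
    (q' : Ideal (MvPolynomial (Fin n) A ⧸ Ideal.span (Set.range f))) [q'.IsPrime]
    [Algebra.QuasiFiniteAt A q']
    (q : Ideal (MvPolynomial (Fin n) A)) [q.IsPrime] (hq : q = q'.comap (Ideal.Quotient.mk _)) :
    IsWeaklyRegular (Localization.AtPrime q)
      (List.ofFn fun i => algebraMap _ (Localization.AtPrime q) (f i)) ∧
    Module.Flat A (Localization.AtPrime q') := by
  let ψ : MvPolynomial (Fin n) A₀ →+* MvPolynomial (Fin n) A :=
    MvPolynomial.map (algebraMap A₀ A)
  let q₀ : Ideal (MvPolynomial (Fin n) A₀) := q.comap ψ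
  have hq₀p : q₀.IsPrime := Ideal.comap_isPrime _ _
  have hle : Ideal.span (Set.range f₀) ≤ (Ideal.span (Set.range f)).comap ψ := by
    rw [Ideal.span_le]
    rintro _ ⟨i, rfl⟩
    exact Ideal.subset_span ⟨i, (hf i).symm⟩
  let ψ' := Ideal.quotientMap (Ideal.span (Set.range f)) ψ hle
  let q₀' : Ideal (MvPolynomial (Fin n) A₀ ⧸ Ideal.span (Set.range f₀)) := q'.comap ψ'
  have hq₀'p : q₀'.IsPrime := Ideal.comap_isPrime _ _
  have hq₀q₀' : q₀ = q₀'.comap (Ideal.Quotient.mk _) := by
    ext x
    change ψ x ∈ q ↔ ψ' (Ideal.Quotient.mk _ x) ∈ q'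
    rw [hq, Ideal.mem_comap, Ideal.quotientMap_mk]
  have hmem' : ∀ x, x ∈ q₀' ↔ quotEquiv f₀ f hf (1 ⊗ₜ x) ∈ q' := by
    intro x
    obtain ⟨x, rfl⟩ := Ideal.Quotient.mk_surjective x
    rw [quotEquiv_tmul]
    rfl
  have hmem : ∀ x, x ∈ q₀ ↔
      MvPolynomial.algebraTensorAlgEquiv (σ := Fin n) A₀ A (1 ⊗ₜ x) ∈ q := by
    intro x
    rw [MvPolynomial.algebraTensorAlgEquiv_tmul, one_smul]
    rfl
  have hqf : Algebra.QuasiFiniteAt A₀ q₀' :=
    QFDescent.quasiFiniteAt_of_equiv (quotEquiv f₀ f hf) q' q₀' hmem'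
  have key := CIFlat.flatSeq_noetherian f₀ q₀' q₀ hq₀q₀'
  constructor
  · have h1 := key.isWeaklyRegular_tensor (K := A)
    have h2 := TensorLocal.isWeaklyRegular_of_equiv
      (MvPolynomial.algebraTensorAlgEquiv (σ := Fin n) A₀ A) q q₀ hmem (List.ofFn f₀)
      (by rw [List.map_ofFn]; exact h1)
    rw [List.map_ofFn] at h2
    convert h2 using 2
    funext i
    simp [← hf i]
  · have h1 : Module.Flat A₀ (Localization.AtPrime q₀ ⧸ (Ideal.span (Set.range f₀)).map
        (algebraMap (MvPolynomial (Fin n) A₀) (Localization.AtPrime q₀))) := by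
      have h2 := key.flat_quotient_self
      have h3 : (Ideal.span (Set.range f₀)).map
          (algebraMap (MvPolynomial (Fin n) A₀) (Localization.AtPrime q₀)) =
          Ideal.ofList (List.ofFn fun i => algebraMap _ (Localization.AtPrime q₀) (f₀ i)) := by
        rw [Ideal.map_span, ← Set.range_comp, Ideal.ofList]
        congr 1
        ext x
        simp [List.mem_ofFn', Set.mem_range]
      rw [h3]
      exact h2
    have h2 : Module.Flat A₀ (Localization.AtPrime q₀') := flat_atPrime_quotient _ q₀' q₀ hq₀q₀'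
    exact TensorLocal.flat_atPrime_of_equiv (quotEquiv f₀ f hf) q' q₀' hmem'

end Model

/-- **Main theorem** (Stacks 00SW, pointwise).  `A` any ring, `f_1..f_n ∈ P = A[x_1..x_n]`, `q'` a
prime of `B = P/(f)` at which `B` is quasi-finite over `A`, `q` its preimage in `P`: then
`f_1, ..., f_n` is a regular sequence in `P_q` and `B_{q'}` is flat over `A`. -/
theorem main {A : Type u} [CommRing A] {n : ℕ} (f : Fin n → MvPolynomial (Fin n) A)
    (q' : Ideal (MvPolynomial (Fin n) A ⧸ Ideal.span (Set.range f))) [q'.IsPrime]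
    [Algebra.QuasiFiniteAt A q']
    (q : Ideal (MvPolynomial (Fin n) A)) [q.IsPrime] (hq : q = q'.comap (Ideal.Quotient.mk _)) :
    IsWeaklyRegular (Localization.AtPrime q)
      (List.ofFn fun i => algebraMap _ (Localization.AtPrime q) (f i)) ∧
    Module.Flat A (Localization.AtPrime q') := by
  classical
  let s : Finset A := Finset.univ.biUnion fun i => (f i).coeffs
  let A₀ : Subalgebra ℤ A := Algebra.adjoin ℤ (s : Set A)
  have hft : Algebra.FiniteType ℤ A₀ := by
    rw [← Subalgebra.fg_iff_finiteType]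
    exact Subalgebra.fg_adjoin_finset s
  have hnoe : IsNoetherianRing A₀ := Algebra.FiniteType.isNoetherianRing ℤ A₀
  have h : ∀ i, ∃ g : MvPolynomial (Fin n) A₀, MvPolynomial.map (algebraMap A₀ A) g = f i := by
    intro i
    have : f i ∈ Set.range (MvPolynomial.map (σ := Fin n) (algebraMap A₀ A)) := by
      rw [MvPolynomial.mem_range_map_iff_coeffs_subset]
      intro x hx
      have hx' : x ∈ A₀ := by
        refine Algebra.subset_adjoin ?_
        rw [Finset.mem_coe, Finset.mem_biUnion]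
        exact ⟨i, Finset.mem_univ i, hx⟩
      exact ⟨⟨x, hx'⟩, rfl⟩
    exact this
  choose f₀ hf₀ using h
  exact main_of_model f₀ f hf₀ q' q hq

/-- Relative complete intersections of relative dimension zero are flat (S2210 (1)). -/
theorem flat_of_quasiFinite {A : Type u} [CommRing A] {n : ℕ} (f : Fin n → MvPolynomial (Fin n) A)
    [Algebra.QuasiFinite A (MvPolynomial (Fin n) A ⧸ Ideal.span (Set.range f))] :
    Module.Flat A (MvPolynomial (Fin n) A ⧸ Ideal.span (Set.range f)) := by
  refine Module.flat_of_isLocalized_maximal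
    (MvPolynomial (Fin n) A ⧸ Ideal.span (Set.range f)) _
    (fun q' _ => Localization.AtPrime q') (fun q' _ => Algebra.linearMap _ _) ?_
  intro q' _
  have hq : Ideal.IsPrime (q'.comap (Ideal.Quotient.mk (Ideal.span (Set.range f)))) :=
    Ideal.comap_isPrime _ _
  exact (main f q' _ rfl).2

end Groth.Agent.Models2.CIFlat2
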