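import Groth.Prelude.Def_Disc
import Mathlib.Algebra.MvPolynomial.PDeriv
import Mathlib.RingTheory.MvPolynomial.Basic
import Mathlib.RingTheory.TensorProduct.Maps
import Mathlib.RingTheory.Ideal.Quotient.Operations
import Mathlib.LinearAlgebra.Matrix.Adjugate
import Mathlib.LinearAlgebra.TensorProduct.RightExactness

/-!
# The diagonal ideal of a quotient of a polynomial ring and the Jacobian matrix
-/

universe u

open TensorProduct

namespace Groth.Agent.Models2.CIJac

section Taylor

open MvPolynomial

variable {A R S : Type*} [CommRing A] [CommRing R] [CommRing S] [Algebra A R] [Algebra A S]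
  {σ : Type*} [Fintype σ] [DecidableEq σ]

/-- Taylor expansion along the diagonal. -/
theorem exists_coeff (a b : σ → R) (ψ : R →ₐ[A] S) (h : ∀ j, ψ (a j) = ψ (b j))
    (p : MvPolynomial σ A) : ∃ c : σ → R,
    aeval a p - aeval b p = ∑ j, c j * (a j - b j) ∧
      ∀ j, ψ (c j) = aeval (fun i => ψ (a i)) (pderiv j p) := by
  induction p using MvPolynomial.induction_on with
  | C r => exact ⟨0, by simp, fun j => by simp⟩
  | add p q hp hq =>
    obtain ⟨c, hc, hc'⟩ := hp
    obtain ⟨d, hd, hd'⟩ := hq
    refine ⟨c + d, ?_, fun j => ?_⟩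
    · simp only [Pi.add_apply, add_mul, Finset.sum_add_distrib, ← hc, ← hd, map_add]
      ring
    · simp [hc', hd']
  | mul_X p k hp =>
    obtain ⟨c, hc, hc'⟩ := hp
    refine ⟨fun j => (if j = k then aeval a p else 0) + b k * c j, ?_, fun j => ?_⟩
    · simp only [add_mul, Finset.sum_add_distrib, ite_mul, zero_mul, Finset.sum_ite_eq',
        Finset.mem_univ, if_true, mul_assoc, ← Finset.mul_sum, ← hc, map_mul, aeval_X]
      ring
    · have h1 : ψ (aeval a p) = aeval (fun i => ψ (a i)) p := by
        rw [← AlgHom.comp_apply, MvPolynomial.comp_aeval]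
      rw [map_add, map_mul, hc', Derivation.leibniz, pderiv_X, map_add]
      by_cases hjk : j = k
      · subst hjk
        simp [h1, h]
      · simp [hjk, h]

end Taylor

section Ann

variable {A P B : Type u} [CommRing A] [CommRing P] [CommRing B] [Algebra A P] [Algebra A B]
  (φ : P →ₐ[A] B)

/-- The map `P ⊗ B → B`. -/
noncomputable def mu : P ⊗[A] B →ₐ[A] B :=
  Algebra.TensorProduct.productMap φ (AlgHom.id A B)

/-- The Noether different from a solution of Tate's problem. -/
theorem noetherDifferent_eq (hφ : Function.Surjective φ) {n : ℕ} (f : Fin n → P)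
    (hf : RingHom.ker φ = Ideal.span (Set.range f)) (g : Fin n → P ⊗[A] B)
    (hg : Ideal.span (Set.range g) = RingHom.ker (mu φ))
    (c : Matrix (Fin n) (Fin n) (P ⊗[A] B)) (hc : ∀ i, f i ⊗ₜ[A] (1 : B) = ∑ j, c i j * g j)
    (htate : ∀ y, (∀ j, y * g j ∈ Ideal.span (Set.range fun i => f i ⊗ₜ[A] (1 : B))) →
      y ∈ Ideal.span (Set.range fun i => f i ⊗ₜ[A] (1 : B)) ⊔ Ideal.span {c.det}) :
    Disc.noetherDifferent A B = Ideal.span {(c.map (mu φ)).det} := by
  let π := Algebra.TensorProduct.map φ (AlgHom.id A B)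
  have hπsurj : Function.Surjective π :=
    TensorProduct.map_surjective hφ Function.surjective_id
  have hker : RingHom.ker π = Ideal.span (Set.range fun i => f i ⊗ₜ[A] (1 : B)) := by
    have h1 := Algebra.TensorProduct.rTensor_ker (R := A) (S := A) (C := B) φ hφ
    rw [hf, Ideal.map_span, ← Set.range_comp] at h1
    exact h1
  have hcomp : ∀ z, Algebra.TensorProduct.lmul' (S := B) A (π z) = mu φ z := by
    intro z
    have : (Algebra.TensorProduct.lmul' (S := B) A).comp π = mu φ := by
      ext <;> simp [π, mu]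
    exact congr($this z)
  have hkg : ∀ j, π (g j) ∈ RingHom.ker (Algebra.TensorProduct.lmul' (S := B) A) := by
    intro j
    rw [RingHom.mem_ker, hcomp]
    have : g j ∈ Ideal.span (Set.range g) := Ideal.subset_span ⟨j, rfl⟩
    rw [hg] at this
    exact this
  have hann : Submodule.annihilator (RingHom.ker (Algebra.TensorProduct.lmul' (S := B) A)) =
      Ideal.span {π c.det} := by
    apply le_antisymm
    · intro x hx
      obtain ⟨y, rfl⟩ := hπsurj x
      have hy : ∀ j, y * g j ∈ Ideal.span (Set.range fun i => f i ⊗ₜ[A] (1 : B)) := by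
        intro j
        rw [← hker, RingHom.mem_ker, map_mul]
        exact Submodule.mem_annihilator.1 hx _ (hkg j)
      obtain ⟨a, ha, b, hb, rfl⟩ := Submodule.mem_sup.1 (htate y hy)
      obtain ⟨t, rfl⟩ := Ideal.mem_span_singleton'.1 hb
      rw [← hker, RingHom.mem_ker] at ha
      rw [map_add, ha, zero_add, map_mul]
      exact Ideal.mul_mem_left _ _ (Ideal.subset_span rfl)
    · rw [Ideal.span_singleton_le_iff_mem, Submodule.mem_annihilator]
      intro z hz
      obtain ⟨w, rfl⟩ := hπsurj z
      rw [RingHom.mem_ker, hcomp, ← RingHom.mem_ker, ← hg] at hz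
      change π (c.det) * π w = 0
      rw [← map_mul, ← RingHom.mem_ker, hker]
      have h2 : ∀ j, c.det * g j ∈ Ideal.span (Set.range fun i => f i ⊗ₜ[A] (1 : B)) := by
        intro j
        have h3 : (c.adjugate.mulVec (c.mulVec g)) j = c.det * g j := by
          rw [Matrix.mulVec_mulVec, Matrix.adjugate_mul, Matrix.smul_mulVec, Matrix.one_mulVec]
          rfl
        rw [← h3, Matrix.mulVec, dotProduct]
        refine sum_mem fun i _ => Ideal.mul_mem_left _ _ ?_
        have h4 : c.mulVec g i = f i ⊗ₜ[A] (1 : B) := by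
          rw [hc]; rfl
        rw [h4]
        exact Ideal.subset_span ⟨i, rfl⟩
      induction hz using Submodule.span_induction with
      | mem x hx => obtain ⟨j, rfl⟩ := hx; exact h2 j
      | zero => simp
      | add x y _ _ hx hy => rw [mul_add]; exact add_mem hx hy
      | smul d x _ hx => rw [smul_eq_mul, mul_left_comm]; exact Ideal.mul_mem_left _ _ hx
  rw [Disc.noetherDifferent, hann, Ideal.map_span, Set.image_singleton]
  congr 2
  rw [hcomp]
  exact (mu φ).toRingHom.map_det c

end Ann

section Poly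

variable {A B : Type u} [CommRing A] [CommRing B] [Algebra A B] {n : ℕ}
  (φ : MvPolynomial (Fin n) A →ₐ[A] B)

open MvPolynomial

/-- The generators `x_j ⊗ 1 - 1 ⊗ x_j`. -/
noncomputable def gen (j : Fin n) : MvPolynomial (Fin n) A ⊗[A] B :=
  X j ⊗ₜ 1 - 1 ⊗ₜ φ (X j)

theorem mu_gen (j : Fin n) : mu φ (gen φ j) = 0 := by
  simp [mu, gen]

theorem span_gen : Ideal.span (Set.range (gen φ)) = RingHom.ker (mu φ) := by
  apply le_antisymm
  · rw [Ideal.span_le]
    rintro _ ⟨j, rfl⟩
    exact mu_gen φ j
  · intro z hz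
    set K := Ideal.span (Set.range (gen φ)) with hK
    have key : (Ideal.Quotient.mkₐ A K) = ((Ideal.Quotient.mkₐ A K).comp
        (Algebra.TensorProduct.includeRight (R := A) (A := MvPolynomial (Fin n) A)
          (B := B))).comp (mu φ) := by
      apply Algebra.TensorProduct.ext
      · apply MvPolynomial.algHom_ext
        intro j
        simp only [AlgHom.comp_apply, Algebra.TensorProduct.includeLeft_apply,
          Algebra.TensorProduct.includeRight_apply, Ideal.Quotient.mkₐ_eq_mk]
        rw [Ideal.Quotient.eq]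
        apply Ideal.subset_span
        refine ⟨j, ?_⟩
        simp [gen, mu]
      · ext x
        simp [mu]
    have h1 := congr($key z)
    rw [AlgHom.comp_apply, show mu φ z = 0 from hz, map_zero] at h1
    exact Ideal.Quotient.eq_zero_iff_mem.1 h1

/-- The relation matrix between `f_i ⊗ 1` and `x_j ⊗ 1 - 1 ⊗ x_j`. -/
theorem exists_matrix {m : ℕ} (f : Fin m → MvPolynomial (Fin n) A) (hf : ∀ i, φ (f i) = 0) :
    ∃ c : Matrix (Fin m) (Fin n) (MvPolynomial (Fin n) A ⊗[A] B),
      (∀ i, f i ⊗ₜ[A] (1 : B) = ∑ j, c i j * gen φ j) ∧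
      ∀ i j, mu φ (c i j) = φ (pderiv j (f i)) := by
  have h1 (p : MvPolynomial (Fin n) A) :
      aeval (fun j => (X j : MvPolynomial (Fin n) A) ⊗ₜ[A] (1 : B)) p = p ⊗ₜ 1 := by
    have : aeval (fun j => (X j : MvPolynomial (Fin n) A) ⊗ₜ[A] (1 : B)) =
        (Algebra.TensorProduct.includeLeft : _ →ₐ[A] MvPolynomial (Fin n) A ⊗[A] B) := by
      apply MvPolynomial.algHom_ext
      intro j
      simp
    exact congr($this p)
  have h2 (p : MvPolynomial (Fin n) A) :
      aeval (fun j => (1 : MvPolynomial (Fin n) A) ⊗ₜ[A] (φ (X j))) p = 1 ⊗ₜ φ p := by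
    have : aeval (fun j => (1 : MvPolynomial (Fin n) A) ⊗ₜ[A] (φ (X j))) =
        (Algebra.TensorProduct.includeRight : B →ₐ[A] MvPolynomial (Fin n) A ⊗[A] B).comp φ := by
      apply MvPolynomial.algHom_ext
      intro j
      simp
    exact congr($this p)
  have h3 (p : MvPolynomial (Fin n) A) :
      aeval (fun j => mu φ ((X j : MvPolynomial (Fin n) A) ⊗ₜ[A] (1 : B))) p = φ p := by
    have : aeval (fun j => mu φ ((X j : MvPolynomial (Fin n) A) ⊗ₜ[A] (1 : B))) = φ := by
      apply MvPolynomial.algHom_ext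
      intro j
      simp [mu]
    exact congr($this p)
  have h4 := fun i => exists_coeff (fun j => (X j : MvPolynomial (Fin n) A) ⊗ₜ[A] (1 : B))
    (fun j => (1 : MvPolynomial (Fin n) A) ⊗ₜ[A] (φ (X j))) (mu φ) (by simp [mu]) (f i)
  choose c hc hc' using h4
  refine ⟨Matrix.of c, fun i => ?_, fun i j => ?_⟩
  · have := hc i
    rw [h1, h2, hf, TensorProduct.tmul_zero, sub_zero] at this
    exact this
  · have := hc' i j
    rw [h3] at this
    exact this

end Poly

end Groth.Agent.Models2.CIJac
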