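import Mathlib.RingTheory.DividedPowers.Basic
import Mathlib.Data.Nat.Choose.Lucas

/-! Divided powers over a ring in which integers prime to `p` are invertible are determined by,
and can be constructed from, the `p`-th divided power. -/

set_option autoImplicit false

namespace Groth.Agent.Models2.DPowPrime

open Finset Nat

theorem not_dvd_uniformBell {p : ℕ} (hp : p.Prime) (m : ℕ) : ¬ p ∣ Nat.uniformBell m p := by
  have : Fact p.Prime := ⟨hp⟩
  induction m with
  | zero => simpa [Nat.uniformBell_zero_left] using hp.one_lt.ne'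
  | succ m ih =>
    rw [Nat.uniformBell_succ_left, hp.dvd_mul, not_or]
    refine ⟨?_, ih⟩
    have hp1 := hp.one_lt
    have h1 : m * p + p - 1 = (p - 1) + m * p := by omega
    have h2 : (m * p + p - 1) % p = p - 1 := by
      rw [h1, Nat.add_mul_mod_self_right]; exact Nat.mod_eq_of_lt (by omega)
    have h3 : (m * p + p - 1) / p = m := by
      rw [h1, Nat.add_mul_div_right _ _ (by omega), Nat.div_eq_of_lt (by omega), zero_add]
    have h4 : (p - 1) % p = p - 1 := Nat.mod_eq_of_lt (by omega)
    have h5 : (p - 1) / p = 0 := Nat.div_eq_of_lt (by omega)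
    have := Choose.choose_modEq_choose_mod_mul_choose_div_nat (n := m * p + p - 1) (k := p - 1) (p := p)
    rw [h2, h3, h4, h5, Nat.choose_self, Nat.choose_zero_right, one_mul] at this
    intro hdvd
    have h0 : (m * p + p - 1).choose (p - 1) ≡ 0 [MOD p] := (Nat.modEq_zero_iff_dvd).2 hdvd
    have := this.symm.trans h0
    rw [Nat.modEq_zero_iff_dvd] at this
    exact hp.one_lt.ne' (Nat.dvd_one.1 this)

/-- The pointwise uniqueness: two divided power structures with the same `p`-th divided power. -/
theorem dpow_eq_of_dpow_prime_eq {A : Type*} [CommRing A] {p : ℕ} (hp : p.Prime)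
    (hA : ∀ n : ℕ, ¬ p ∣ n → IsUnit (n : A)) {I : Ideal A} (γ γ' : DividedPowers I)
    (h : ∀ x ∈ I, γ.dpow p x = γ'.dpow p x) : γ = γ' := by
  have key : ∀ n : ℕ, ∀ x ∈ I, γ.dpow n x = γ'.dpow n x := by
    intro n
    induction n using Nat.strong_induction_on with
    | _ n ih =>
      intro x hx
      rcases Nat.eq_zero_or_pos n with rfl | hn
      · rw [γ.dpow_zero hx, γ'.dpow_zero hx]
      by_cases hpn : p ∣ n
      · obtain ⟨m, rfl⟩ := hpn
        have hm : 0 < m := Nat.pos_of_mul_pos_left hn
        have hlt : m < p * m := by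
          calc m = 1 * m := (one_mul m).symm
            _ < p * m := Nat.mul_lt_mul_of_pos_right hp.one_lt hm
        apply (hA _ (not_dvd_uniformBell hp m)).mul_left_cancel
        rw [mul_comm p m, ← γ.dpow_comp hp.ne_zero hx, ← γ'.dpow_comp hp.ne_zero hx, h x hx]
        exact ih m hlt _ (γ'.dpow_mem hp.ne_zero hx)
      · obtain ⟨k, rfl⟩ : ∃ k, n = k + 1 := ⟨n - 1, by omega⟩
        apply (hA _ hpn).mul_left_cancel
        have e1 := γ.mul_dpow (m := 1) (n := k) hx
        have e2 := γ'.mul_dpow (m := 1) (n := k) hx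
        rw [γ.dpow_one hx, Nat.choose_one_right, Nat.add_comm 1 k] at e1
        rw [γ'.dpow_one hx, Nat.choose_one_right, Nat.add_comm 1 k] at e2
        rw [← e1, ← e2, ih k (by omega) x hx]
  exact DividedPowers.ext _ _ (fun n x hx => key n x hx)

end Groth.Agent.Models2.DPowPrime
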