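import Mathlib.RingTheory.DividedPowers.Basic
import Mathlib.Tactic.Ring
import Mathlib.Tactic.LinearCombination
import Mathlib.Tactic.FieldSimp
import Groth.Agent.Models2.DPowPrime

/-! Construction of the divided powers from the `p`-th one, over a `ℤ_(p)`-algebra. -/

set_option autoImplicit false

namespace Groth.Agent.Models2.DPowPrime2

open Finset Nat Groth.Agent.Models2.DPowPrime

/-- The hypotheses on a would-be `p`-th divided power. -/
structure PData {A : Type*} [CommRing A] (p : ℕ) (I : Ideal A) (d : A → A) : Prop where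
  hp : p.Prime
  hA : ∀ n : ℕ, ¬ p ∣ n → IsUnit (n : A)
  hdI : ∀ x ∈ I, d x ∈ I
  h1 : ∀ x ∈ I, (p.factorial : A) * d x = x ^ p
  h2 : ∀ (a x : A), x ∈ I → d (a * x) = a ^ p * d x
  h3 : ∀ x ∈ I, ∀ y ∈ I, d (x + y) = d x + d y +
      ((Finset.antidiagonal p).filter fun k => 0 < k.1 ∧ 0 < k.2).sum
        fun k => Ring.inverse ((k.1.factorial * k.2.factorial : ℕ) : A) * x ^ k.1 * y ^ k.2

open Classical in
/-- The divided powers built from `d`. -/
noncomputable def g {A : Type*} [CommRing A] (p : ℕ) (d : A → A) (n : ℕ) (x : A) : A :=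
  if n = 0 then 1
  else if _h : 1 < p ∧ p ∣ n ∧ n / p < n then
    Ring.inverse ((Nat.uniformBell (n / p) p : ℕ) : A) * g p d (n / p) (d x)
  else if 0 < n then Ring.inverse (n : A) * (x * g p d (n - 1) x) else 0
termination_by n
decreasing_by
  · exact _h.2.2
  · omega

section
variable {A : Type*} [CommRing A] {p : ℕ} {I : Ideal A} {d : A → A}

theorem g_zero (x : A) : g p d 0 x = 1 := by
  rw [g]; simp

theorem g_mul (H : PData p I d) (m : ℕ) (x : A) :
    (Nat.uniformBell m p : A) * g p d (p * m) x = g p d m (d x) := by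
  rcases Nat.eq_zero_or_pos m with rfl | hm
  · rw [mul_zero, g_zero, g_zero, Nat.uniformBell_zero_left]; simp
  · have hp1 := H.hp.one_lt
    have hp0 := H.hp.pos
    have hne : p * m ≠ 0 := by positivity
    have hdiv : p * m / p = m := Nat.mul_div_cancel_left _ hp0
    have hlt : m < p * m := by
      calc m = 1 * m := (one_mul m).symm
        _ < p * m := Nat.mul_lt_mul_of_pos_right hp1 hm
    rw [g, if_neg hne, dif_pos ⟨hp1, Dvd.intro _ rfl, by rw [hdiv]; exact hlt⟩, hdiv, ← mul_assoc,
      Ring.mul_inverse_cancel _ (H.hA _ (not_dvd_uniformBell H.hp m)), one_mul]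

theorem g_succ_of_not_dvd (H : PData p I d) (n : ℕ) (hn : ¬ p ∣ n + 1) (x : A) :
    ((n + 1 : ℕ) : A) * g p d (n + 1) x = x * g p d n x := by
  rw [g, if_neg (by omega), dif_neg (fun h => hn h.2.1), if_pos (by omega), Nat.add_sub_cancel,
    ← mul_assoc, Ring.mul_inverse_cancel _ (H.hA _ hn), one_mul]

theorem g_one (H : PData p I d) (x : A) : g p d 1 x = x := by
  have := g_succ_of_not_dvd H 0 (by simpa using H.hp.one_lt.ne') x
  simpa [g_zero] using this

/-- recursion principle along `p`-divisibility -/
theorem p_induction (p : ℕ) {P : ℕ → Prop} (h0 : P 0)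
    (hmul : ∀ m, 0 < m → (∀ k, k < p * m → P k) → P (p * m))
    (hsucc : ∀ n, ¬ p ∣ n + 1 → (∀ k, k ≤ n → P k) → P (n + 1)) (n : ℕ) : P n := by
  induction n using Nat.strong_induction_on with
  | _ n ih =>
    rcases Nat.eq_zero_or_pos n with rfl | hn
    · exact h0
    by_cases hpn : p ∣ n
    · obtain ⟨m, rfl⟩ := hpn
      exact hmul m (Nat.pos_of_mul_pos_left hn) ih
    · obtain ⟨k, rfl⟩ : ∃ k, n = k + 1 := ⟨n - 1, by omega⟩
      exact hsucc k hpn (fun j hj => ih j (by omega))

theorem lt_pmul (hp : p.Prime) {m : ℕ} (hm : 0 < m) : m < p * m :=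
  calc m = 1 * m := (one_mul m).symm
    _ < p * m := Nat.mul_lt_mul_of_pos_right hp.one_lt hm

theorem g_mem (H : PData p I d) (n : ℕ) : ∀ x ∈ I, n ≠ 0 → g p d n x ∈ I := by
  refine p_induction p (P := fun n => ∀ x ∈ I, n ≠ 0 → g p d n x ∈ I) ?_ ?_ ?_ n
  · intro x _ h; exact absurd rfl h
  · intro m hm ih x hx _
    have := ih m (lt_pmul H.hp hm) (d x) (H.hdI x hx) hm.ne'
    rw [← g_mul H] at this
    exact (Ideal.unit_mul_mem_iff_mem _ (H.hA _ (not_dvd_uniformBell H.hp m))).1 this
  · intro n hn ih x hx _
    apply (Ideal.unit_mul_mem_iff_mem _ (H.hA _ hn)).1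
    rw [g_succ_of_not_dvd H n hn]
    exact I.mul_mem_right _ hx

theorem g_smul (H : PData p I d) (n : ℕ) : ∀ a : A, ∀ x ∈ I, g p d n (a * x) = a ^ n * g p d n x := by
  refine p_induction p (P := fun n => ∀ a : A, ∀ x ∈ I, g p d n (a * x) = a ^ n * g p d n x)
    ?_ ?_ ?_ n
  · intro a x _; simp [g_zero]
  · intro m hm ih a x hx
    apply (H.hA _ (not_dvd_uniformBell H.hp m)).mul_left_cancel
    rw [g_mul H, H.h2 a x hx, ih m (lt_pmul H.hp hm) _ _ (H.hdI x hx), ← g_mul H, pow_mul]
    ring
  · intro n hn ih a x hx
    apply (H.hA _ hn).mul_left_cancel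
    rw [g_succ_of_not_dvd H n hn, ih n le_rfl a x hx]
    have := g_succ_of_not_dvd H n hn x
    rw [pow_succ]
    linear_combination (-(a ^ n * a)) * this

/-- `x ^ r * γ_{pk}(x) = (pk+r)!/(pk)! γ_{pk+r}(x)` for `r < p`. -/
theorem g_mul_add (H : PData p I d) (k : ℕ) (x : A) (r : ℕ) (hr : r < p) :
    ((p * k + 1).ascFactorial r : A) * g p d (p * k + r) x = x ^ r * g p d (p * k) x := by
  induction r with
  | zero => simp
  | succ r ih =>
    have hnd : ¬ p ∣ p * k + r + 1 := by
      intro h
      have : p ∣ r + 1 := by
        rw [add_assoc] at h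
        exact (Nat.dvd_add_right (Dvd.intro _ rfl)).1 h
      exact absurd (Nat.le_of_dvd (by omega) this) (by omega)
    have h1 := g_succ_of_not_dvd H (p * k + r) hnd x
    have h2 := ih (by omega)
    rw [Nat.ascFactorial_succ, Nat.cast_mul, ← add_assoc (p * k) r 1]
    have h3 : ((p * k + 1 + r : ℕ) : A) = ((p * k + r + 1 : ℕ) : A) := by
      congr 1; omega
    rw [h3, pow_succ]
    linear_combination ((p * k + 1).ascFactorial r : A) * h1 + x * h2

theorem numer1 {p : ℕ} (hp : p.Prime) (k : ℕ) :
    p.factorial * ((k + 1) * Nat.uniformBell (k + 1) p) =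
      Nat.uniformBell k p * ((p * k + 1).ascFactorial (p - 1) * (p * k + p)) := by
  have hp0 := hp.pos
  have e1 := Nat.uniformBell_mul_eq (k + 1) hp.ne_zero
  have e2 := Nat.uniformBell_mul_eq k hp.ne_zero
  have e3 : (p * k).factorial * (p * k + 1).ascFactorial (p - 1) = (p * k + (p - 1)).factorial :=
    Nat.factorial_mul_ascFactorial (p * k) (p - 1)
  have e4 : ((k + 1) * p).factorial = (p * k + p) * (p * k + (p - 1)).factorial := by
    have : (k + 1) * p = (p * k + (p - 1)) + 1 := by
      have : (k + 1) * p = p * k + p := by ring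
      omega
    rw [this, Nat.factorial_succ]
    congr 1
    omega
  have hpos : 0 < p.factorial ^ k * k.factorial := by positivity
  apply Nat.eq_of_mul_eq_mul_left hpos
  rw [Nat.factorial_succ, pow_succ] at e1
  calc p.factorial ^ k * k.factorial * (p.factorial * ((k + 1) * Nat.uniformBell (k + 1) p))
      = Nat.uniformBell (k + 1) p * (p.factorial ^ k * p.factorial) * ((k + 1) * k.factorial) := by
        ring
    _ = (p * k + p) * ((p * k).factorial * (p * k + 1).ascFactorial (p - 1)) := by
        rw [e1, e4, e3]
    _ = (p * k + p) * ((Nat.uniformBell k p * p.factorial ^ k * k.factorial) *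
          (p * k + 1).ascFactorial (p - 1)) := by
        rw [e2, mul_comm k p]
    _ = _ := by ring

theorem not_dvd_ascFactorial {p : ℕ} (hp : p.Prime) (k r : ℕ) (hr : r < p) :
    ¬ p ∣ (p * k + 1).ascFactorial r := by
  induction r with
  | zero => simpa using hp.one_lt.ne'
  | succ r ih =>
    rw [Nat.ascFactorial_succ, hp.dvd_mul, not_or]
    refine ⟨fun h => ?_, ih (by omega)⟩
    have : p ∣ 1 + r := by
      rw [add_assoc] at h
      exact (Nat.dvd_add_right (Dvd.intro _ rfl)).1 h
    exact absurd (Nat.le_of_dvd (by omega) this) (by omega)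

/-- `x * γ_n(x) = (n+1) γ_{n+1}(x)` -/
theorem g_succ (H : PData p I d) (n : ℕ) :
    ∀ x ∈ I, ((n + 1 : ℕ) : A) * g p d (n + 1) x = x * g p d n x := by
  induction n using Nat.strong_induction_on with
  | _ n ih =>
    intro x hx
    by_cases hn : p ∣ n + 1
    · have hp0 := H.hp.pos
      have hp1 := H.hp.one_lt
      obtain ⟨m, hm⟩ := hn
      obtain ⟨k, rfl⟩ : ∃ k, m = k + 1 := by
        rcases m with _ | k
        · simp at hm
        · exact ⟨k, rfl⟩
      have hn' : n = p * k + (p - 1) := by
        have : p * (k + 1) = p * k + p := by ring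
        omega
      have hkn : k < n := by
        rcases Nat.eq_zero_or_pos k with rfl | hk
        · omega
        · have := lt_pmul H.hp hk
          omega
      have hpk : n + 1 = p * (k + 1) := hm
      have hxx := ih k hkn (d x) (H.hdI x hx)
      have hu : IsUnit ((Nat.uniformBell k p * (p * k + 1).ascFactorial (p - 1) : ℕ) : A) :=
        H.hA _ (by
          rw [H.hp.dvd_mul, not_or]
          exact ⟨not_dvd_uniformBell H.hp k, not_dvd_ascFactorial H.hp k _ (by omega)⟩)
      apply hu.mul_left_cancel
      have e1 := g_mul_add H k x (p - 1) (by omega)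
      have e2 := g_mul H k x
      have e3 := g_mul H (k + 1) x
      have e4 := H.h1 x hx
      have e5 : (p.factorial : A) * (((k + 1 : ℕ) : A) * (Nat.uniformBell (k + 1) p : A)) =
          (Nat.uniformBell k p : A) * (((p * k + 1).ascFactorial (p - 1) : A) *
            ((n + 1 : ℕ) : A)) := by
        have : n + 1 = p * k + p := by rw [hpk]; ring
        rw [this]
        exact_mod_cast congrArg (Nat.cast : ℕ → A) (numer1 H.hp k)
      have e6 : x ^ p = x * x ^ (p - 1) := by
        rw [← _root_.pow_succ']; congr 1; omega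
      rw [hpk, Nat.cast_mul (Nat.uniformBell k p), ← hpk]
      rw [← hn'] at e1
      rw [hpk]
      rw [hpk] at e5
      generalize ((p * (k + 1) : ℕ) : A) = N at *
      generalize ((k + 1 : ℕ) : A) = K at *
      generalize (Nat.uniformBell k p : A) = u at *
      generalize (Nat.uniformBell (k + 1) p : A) = u' at *
      generalize ((p * k + 1).ascFactorial (p - 1) : A) = a at *
      generalize (p.factorial : A) = f at *
      linear_combination (-g p d (p * (k + 1)) x) * e5 + f * K * e3 + f * hxx - f * d x * e2 -
        u * x * e1 + u * g p d (p * k) x * e4 + u * g p d (p * k) x * e6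
    · exact g_succ_of_not_dvd H n hn x

theorem factorial_mul_g (H : PData p I d) (n : ℕ) : ∀ x ∈ I, (n.factorial : A) * g p d n x = x ^ n := by
  induction n with
  | zero => intro x _; simp [g_zero]
  | succ n ih =>
    intro x hx
    rw [Nat.factorial_succ, Nat.cast_mul, pow_succ, ← ih x hx]
    linear_combination (n.factorial : A) * g_succ H n x hx

theorem g_prime (H : PData p I d) (x : A) : g p d p x = d x := by
  have := g_mul H 1 x
  rwa [Nat.uniformBell_one_left, Nat.cast_one, one_mul, mul_one, g_one H] at this

/-- numerical identity for products of indices divisible by `p` -/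
theorem numer2 {p : ℕ} (hp : p.Prime) (k l : ℕ) :
    (k + l).choose k * Nat.uniformBell (k + l) p =
      Nat.uniformBell k p * Nat.uniformBell l p * (p * k + p * l).choose (p * k) := by
  have e1 := Nat.uniformBell_mul_eq (k + l) hp.ne_zero
  have e2 := Nat.uniformBell_mul_eq k hp.ne_zero
  have e3 := Nat.uniformBell_mul_eq l hp.ne_zero
  have e4 : (k + l).choose k * k.factorial * l.factorial = (k + l).factorial := by
    rw [Nat.choose_symm_add]; exact Nat.add_choose_mul_factorial_mul_factorial k l
  have e5 : (p * k + p * l).choose (p * k) * (p * k).factorial * (p * l).factorial =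
      (p * k + p * l).factorial := by
    rw [Nat.choose_symm_add]; exact Nat.add_choose_mul_factorial_mul_factorial (p * k) (p * l)
  have hpos : 0 < p.factorial ^ (k + l) * (k.factorial * l.factorial) := by positivity
  apply Nat.eq_of_mul_eq_mul_left hpos
  calc p.factorial ^ (k + l) * (k.factorial * l.factorial) *
        ((k + l).choose k * Nat.uniformBell (k + l) p)
      = Nat.uniformBell (k + l) p * p.factorial ^ (k + l) *
          ((k + l).choose k * k.factorial * l.factorial) := by ring
    _ = (p * k + p * l).factorial := by rw [e4, e1]; congr 1; ring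
    _ = (p * k + p * l).choose (p * k) * (p * k).factorial * (p * l).factorial := e5.symm
    _ = (p * k + p * l).choose (p * k) * (Nat.uniformBell k p * p.factorial ^ k * k.factorial) *
          (Nat.uniformBell l p * p.factorial ^ l * l.factorial) := by
        rw [e2, e3, mul_comm k p, mul_comm l p]
    _ = _ := by ring

theorem mul_g (H : PData p I d) (N : ℕ) : ∀ m n : ℕ, m + n = N → ∀ x ∈ I,
    g p d m x * g p d n x = ((m + n).choose m : A) * g p d (m + n) x := by
  induction N using Nat.strong_induction_on with
  | _ N ih =>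
    intro m n hmn x hx
    by_cases hm : p ∣ m
    · by_cases hn : p ∣ n
      · obtain ⟨k, rfl⟩ := hm
        obtain ⟨l, rfl⟩ := hn
        rcases Nat.eq_zero_or_pos (k + l) with hkl | hkl
        · have hk : k = 0 := by omega
          have hl : l = 0 := by omega
          subst hk; subst hl
          simp [g_zero]
        · have hlt := lt_pmul H.hp hkl
          have hu : IsUnit ((Nat.uniformBell k p * Nat.uniformBell l p : ℕ) : A) :=
            H.hA _ (by
              rw [H.hp.dvd_mul, not_or]
              exact ⟨not_dvd_uniformBell H.hp k, not_dvd_uniformBell H.hp l⟩)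
          apply hu.mul_left_cancel
          have e1 := g_mul H k x
          have e2 := g_mul H l x
          have e3 := g_mul H (k + l) x
          have e4 := ih (k + l) (by rw [← hmn, ← mul_add]; exact hlt) k l rfl (d x) (H.hdI x hx)
          have e5 : ((k + l).choose k : A) * (Nat.uniformBell (k + l) p : A) =
              (Nat.uniformBell k p : A) * (Nat.uniformBell l p : A) *
                ((p * k + p * l).choose (p * k) : A) := by
            exact_mod_cast congrArg (Nat.cast : ℕ → A) (numer2 H.hp k l)
          rw [mul_add] at e3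
          rw [Nat.cast_mul]
          linear_combination (Nat.uniformBell l p : A) * g p d (p * l) x * e1 +
            g p d k (d x) * e2 + e4 - ((k + l).choose k : A) * e3 +
            g p d (p * k + p * l) x * e5
      · obtain ⟨n, rfl⟩ : ∃ k, n = k + 1 := by
          refine ⟨n - 1, ?_⟩
          rcases n with _ | n
          · exact absurd (dvd_zero p) hn
          · rfl
        apply (H.hA _ hn).mul_left_cancel
        have e1 := g_succ H n x hx
        have e2 := ih (m + n) (by omega) m n rfl x hx
        have e3 := g_succ H (m + n) x hx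
        have e4 : (((m + n).choose m : ℕ) : A) * ((m + n + 1 : ℕ) : A) =
            ((n + 1 : ℕ) : A) * (((m + (n + 1)).choose m : ℕ) : A) := by
          have := Nat.add_one_mul_choose_eq (m + n) n
          have h1 : (m + n).choose n = (m + n).choose m := by
            rw [← Nat.choose_symm_add]
          have h2 : (m + n + 1).choose (n + 1) = (m + (n + 1)).choose m := by
            rw [← add_assoc]
            rw [← Nat.choose_symm_of_eq_add (show m + n + 1 = m + (n + 1) by omega)]
          rw [h1, h2] at this
          have h3 : (m + n).choose m * (m + n + 1) = (n + 1) * (m + (n + 1)).choose m := by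
            rw [mul_comm, this, mul_comm]
          exact_mod_cast congrArg (Nat.cast : ℕ → A) h3
        rw [← add_assoc] at e4 ⊢
        linear_combination g p d m x * e1 + x * e2 - ((m + n).choose m : A) * e3 +
          g p d (m + n + 1) x * e4
    · obtain ⟨m, rfl⟩ : ∃ k, m = k + 1 := by
        refine ⟨m - 1, ?_⟩
        rcases m with _ | m
        · exact absurd (dvd_zero p) hm
        · rfl
      apply (H.hA _ hm).mul_left_cancel
      have e1 := g_succ H m x hx
      have e2 := ih (m + n) (by omega) m n rfl x hx
      have e3 := g_succ H (m + n) x hx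
      have e4 : (((m + n).choose m : ℕ) : A) * ((m + n + 1 : ℕ) : A) =
          ((m + 1 : ℕ) : A) * (((m + 1 + n).choose (m + 1) : ℕ) : A) := by
        have := Nat.add_one_mul_choose_eq (m + n) m
        have h2 : (m + n + 1) = (m + 1 + n) := by omega
        rw [h2] at this
        have h3 : (m + n).choose m * (m + n + 1) = (m + 1) * (m + 1 + n).choose (m + 1) := by
          rw [mul_comm, h2, this, mul_comm]
        exact_mod_cast congrArg (Nat.cast : ℕ → A) h3
      have h2 : (m + 1 + n) = (m + n + 1) := by omega
      rw [h2] at e4 ⊢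
      linear_combination g p d n x * e1 + x * e2 - ((m + n).choose m : A) * e3 +
        g p d (m + n + 1) x * e4

/-! ### composition -/

theorem numer3 {p : ℕ} {n : ℕ} (hn : n ≠ 0) :
    (n + 1) ^ p * Nat.uniformBell p (n + 1) =
      Nat.uniformBell p n * p.factorial * (p + p * n).choose p := by
  have e1 := Nat.uniformBell_mul_eq p (n := n + 1) (by omega)
  have e2 := Nat.uniformBell_mul_eq p hn
  have e3 : (p + p * n).choose p * p.factorial * (p * n).factorial = (p + p * n).factorial := by
    rw [Nat.choose_symm_add]; exact Nat.add_choose_mul_factorial_mul_factorial p (p * n)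
  have hpos : 0 < n.factorial ^ p * p.factorial := by positivity
  apply Nat.eq_of_mul_eq_mul_left hpos
  rw [Nat.factorial_succ, mul_pow] at e1
  calc n.factorial ^ p * p.factorial * ((n + 1) ^ p * Nat.uniformBell p (n + 1))
      = Nat.uniformBell p (n + 1) * ((n + 1) ^ p * n.factorial ^ p) * p.factorial := by ring
    _ = (p + p * n).factorial := by rw [e1]; congr 1; ring
    _ = (p + p * n).choose p * p.factorial *
        (Nat.uniformBell p n * n.factorial ^ p * p.factorial) := by rw [← e3, e2]
    _ = _ := by ring

theorem numer4 {p : ℕ} (hp : p.Prime) {k : ℕ} (hk : k ≠ 0) :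
    (Nat.uniformBell k p) ^ p * Nat.uniformBell p (p * k) =
      Nat.uniformBell p k * Nat.uniformBell (p * k) p := by
  have e1 := Nat.uniformBell_mul_eq k hp.ne_zero
  have e2 := Nat.uniformBell_mul_eq p (n := p * k) (by have := hp.ne_zero; positivity)
  have e3 := Nat.uniformBell_mul_eq p hk
  have e4 := Nat.uniformBell_mul_eq (p * k) hp.ne_zero
  have hpos : 0 < p.factorial * (p.factorial ^ k * k.factorial) ^ p := by positivity
  apply Nat.eq_of_mul_eq_mul_left hpos
  calc p.factorial * (p.factorial ^ k * k.factorial) ^ p *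
        ((Nat.uniformBell k p) ^ p * Nat.uniformBell p (p * k))
      = Nat.uniformBell p (p * k) * (Nat.uniformBell k p * p.factorial ^ k * k.factorial) ^ p *
          p.factorial := by ring
    _ = (p * (p * k)).factorial := by rw [e1, mul_comm k p, e2]
    _ = Nat.uniformBell (p * k) p * p.factorial ^ (p * k) * (p * k).factorial := by
        rw [e4]; congr 1; ring
    _ = Nat.uniformBell (p * k) p * p.factorial ^ (p * k) *
          (Nat.uniformBell p k * k.factorial ^ p * p.factorial) := by rw [e3]
    _ = _ := by ring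

theorem numer5 {p : ℕ} (hp : p.Prime) (k : ℕ) {n : ℕ} (hn : n ≠ 0) :
    Nat.uniformBell k p * Nat.uniformBell (p * k) n =
      (Nat.uniformBell p n) ^ k * Nat.uniformBell k (p * n) := by
  have e1 := Nat.uniformBell_mul_eq k hp.ne_zero
  have e2 := Nat.uniformBell_mul_eq (p * k) hn
  have e3 := Nat.uniformBell_mul_eq p hn
  have e4 := Nat.uniformBell_mul_eq k (n := p * n) (by have := hp.ne_zero; positivity)
  have hpos : 0 < k.factorial * p.factorial ^ k * n.factorial ^ (p * k) := by positivity
  apply Nat.eq_of_mul_eq_mul_left hpos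
  calc k.factorial * p.factorial ^ k * n.factorial ^ (p * k) *
        (Nat.uniformBell k p * Nat.uniformBell (p * k) n)
      = Nat.uniformBell (p * k) n * n.factorial ^ (p * k) *
          (Nat.uniformBell k p * p.factorial ^ k * k.factorial) := by ring
    _ = (p * k * n).factorial := by rw [e1, mul_comm k p, e2]
    _ = Nat.uniformBell k (p * n) * (p * n).factorial ^ k * k.factorial := by
        rw [e4]; congr 1; ring
    _ = Nat.uniformBell k (p * n) *
          (Nat.uniformBell p n * n.factorial ^ p * p.factorial) ^ k * k.factorial := by rw [e3]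
    _ = _ := by ring

theorem d_g (H : PData p I d) (n : ℕ) : ∀ x ∈ I, n ≠ 0 →
    d (g p d n x) = (Nat.uniformBell p n : A) * g p d (p * n) x := by
  refine p_induction p (P := fun n => ∀ x ∈ I, n ≠ 0 →
    d (g p d n x) = (Nat.uniformBell p n : A) * g p d (p * n) x) ?_ ?_ ?_ n
  · intro x _ h; exact absurd rfl h
  · intro k hk ih x hx _
    have e1 := g_mul H k x
    have e2 := ih k (lt_pmul H.hp hk) (d x) (H.hdI x hx) hk.ne'
    have e3 := g_mul H (p * k) x
    have e4 := H.h2 (Nat.uniformBell k p : A) (g p d (p * k) x)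
      (g_mem H _ x hx (by have := H.hp.ne_zero; positivity))
    rw [e1] at e4
    have hu : IsUnit (((Nat.uniformBell k p) ^ p : ℕ) : A) :=
      H.hA _ (fun h => not_dvd_uniformBell H.hp k (H.hp.dvd_of_dvd_pow h))
    apply hu.mul_left_cancel
    have e5 : ((Nat.uniformBell k p) ^ p : A) * (Nat.uniformBell p (p * k) : A) =
        (Nat.uniformBell p k : A) * (Nat.uniformBell (p * k) p : A) := by
      exact_mod_cast congrArg (Nat.cast : ℕ → A) (numer4 H.hp hk.ne')
    rw [Nat.cast_pow]
    linear_combination -e4 + e2 - (Nat.uniformBell p k : A) * e3 - g p d (p * (p * k)) x * e5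
  · intro n hn ih x hx _
    rcases Nat.eq_zero_or_pos n with rfl | hn0
    · rw [zero_add, g_one H, Nat.uniformBell_one_right, mul_one, g_prime H, Nat.cast_one, one_mul]
    · have hn' : n ≠ 0 := hn0.ne'
      have hu : IsUnit (((n + 1) ^ p : ℕ) : A) :=
        H.hA _ (fun h => hn (H.hp.dvd_of_dvd_pow h))
      apply hu.mul_left_cancel
      have e1 := g_succ H n x hx
      have e2 := H.h2 ((n + 1 : ℕ) : A) (g p d (n + 1) x) (g_mem H _ x hx (by omega))
      rw [e1, H.h2 x _ (g_mem H n x hx hn'), ih n le_rfl x hx hn'] at e2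
      have e3 := mul_g H _ p (p * n) rfl x hx
      rw [g_prime H] at e3
      have e4 := H.h1 x hx
      have e5 : (((n + 1 : ℕ) : A) ^ p) * (Nat.uniformBell p (n + 1) : A) =
          (Nat.uniformBell p n : A) * (p.factorial : A) * ((p + p * n).choose p : A) := by
        exact_mod_cast congrArg (Nat.cast : ℕ → A) (numer3 hn')
      have e6 : p * (n + 1) = p + p * n := by ring
      rw [Nat.cast_pow, e6]
      linear_combination -e2 - (Nat.uniformBell p n : A) * g p d (p * n) x * e4 +
        (Nat.uniformBell p n : A) * (p.factorial : A) * e3 - g p d (p + p * n) x * e5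

theorem g_comp (H : PData p I d) (m : ℕ) : ∀ n : ℕ, n ≠ 0 → ∀ x ∈ I,
    g p d m (g p d n x) = (Nat.uniformBell m n : A) * g p d (m * n) x := by
  refine p_induction p (P := fun m => ∀ n : ℕ, n ≠ 0 → ∀ x ∈ I,
    g p d m (g p d n x) = (Nat.uniformBell m n : A) * g p d (m * n) x) ?_ ?_ ?_ m
  · intro n _ x _
    rw [g_zero, zero_mul, g_zero, Nat.uniformBell_zero_left]; simp
  · intro k hk ih n hn x hx
    have hpn : p * n ≠ 0 := by have := H.hp.ne_zero; positivity
    apply (H.hA _ (not_dvd_uniformBell H.hp k)).mul_left_cancel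
    rw [g_mul H, d_g H n x hx hn, g_smul H k _ _ (g_mem H _ x hx hpn),
      ih k (lt_pmul H.hp hk) (p * n) hpn x hx]
    have e5 : (Nat.uniformBell k p : A) * (Nat.uniformBell (p * k) n : A) =
        ((Nat.uniformBell p n : A)) ^ k * (Nat.uniformBell k (p * n) : A) := by
      exact_mod_cast congrArg (Nat.cast : ℕ → A) (numer5 H.hp k hn)
    have e6 : k * (p * n) = p * k * n := by ring
    rw [e6]
    linear_combination (-g p d (p * k * n) x) * e5
  · intro m hm ih n hn x hx
    apply (H.hA _ hm).mul_left_cancel
    rw [g_succ H m _ (g_mem H n x hx hn), ih m le_rfl n hn x hx]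
    have e1 := mul_g H _ n (m * n) rfl x hx
    have e2 : (m + 1) * Nat.uniformBell (m + 1) n =
        Nat.uniformBell m n * (n + m * n).choose n := by
      have h := Nat.choose_mul_add (m := m) hn
      rw [Nat.uniformBell_succ_left, show n + m * n = m * n + n by ring, h]
      ring
    have e3 : ((m + 1 : ℕ) : A) * (Nat.uniformBell (m + 1) n : A) =
        (Nat.uniformBell m n : A) * ((n + m * n).choose n : A) := by
      exact_mod_cast congrArg (Nat.cast : ℕ → A) e2
    have e4 : (m + 1) * n = n + m * n := by ring
    rw [e4]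
    linear_combination (Nat.uniformBell m n : A) * e1 - g p d (n + m * n) x * e3

end
end Groth.Agent.Models2.DPowPrime2
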