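import Mathlib.RingTheory.DividedPowers.RatAlgebra
import Mathlib.Algebra.Polynomial.Monomial
import Mathlib.LinearAlgebra.LinearIndependent.Defs
import Mathlib.Algebra.Algebra.Prod
import Mathlib.Data.Nat.Prime.Factorial
import Mathlib.Algebra.Polynomial.AlgebraMap
import Mathlib.RingTheory.Ideal.Prod
import Groth.Agent.Models2.DPowPrime2

/-! The addition formula for the divided powers built from the `p`-th one. -/

set_option autoImplicit false

namespace Groth.Agent.Models2.DPowPrime3

open Finset Nat Groth.Agent.Models2.DPowPrime Groth.Agent.Models2.DPowPrime2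

section
variable {A : Type*} [CommRing A] {p : ℕ} {I : Ideal A} {d : A → A}

/-- products of divided powers of two elements -/
noncomputable def G (p : ℕ) (d : A → A) (x y : A) (k : ℕ × ℕ) : A := g p d k.1 x * g p d k.2 y

theorem G_mul (H : PData p I d) {x y : A} (hx : x ∈ I) (hy : y ∈ I) (k l : ℕ × ℕ) :
    G p d x y k * G p d x y l =
      (((k.1 + l.1).choose k.1 * (k.2 + l.2).choose k.2 : ℕ) : ℤ) • G p d x y (k + l) := by
  have e1 := mul_g H _ k.1 l.1 rfl x hx
  have e2 := mul_g H _ k.2 l.2 rfl y hy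
  simp only [G, Prod.fst_add, Prod.snd_add, zsmul_eq_mul, Int.cast_natCast]
  push_cast
  linear_combination g p d k.2 y * g p d l.2 y * e1 +
    ((k.1 + l.1).choose k.1 : A) * g p d (k.1 + l.1) x * e2

/-- the additive span of the products of divided powers of positive degree -/
def S (p : ℕ) (d : A → A) (x y : A) : Submodule ℤ A :=
  Submodule.span ℤ (G p d x y '' {k | k ≠ 0})

theorem G_mem_S (x y : A) {k : ℕ × ℕ} (hk : k ≠ 0) : G p d x y k ∈ S p d x y :=
  Submodule.subset_span ⟨k, hk, rfl⟩

theorem S_mul_mem (H : PData p I d) {x y : A} (hx : x ∈ I) (hy : y ∈ I) {a b : A}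
    (ha : a ∈ S p d x y) (hb : b ∈ S p d x y) : a * b ∈ S p d x y := by
  induction ha using Submodule.span_induction with
  | mem a ha =>
    obtain ⟨k, hk, rfl⟩ := ha
    induction hb using Submodule.span_induction with
    | mem b hb =>
      obtain ⟨l, hl, rfl⟩ := hb
      rw [G_mul H hx hy]
      apply Submodule.smul_mem
      apply G_mem_S
      intro h
      apply hk
      have h1 := congrArg Prod.fst h
      have h2 := congrArg Prod.snd h
      simp only [Prod.fst_add, Prod.snd_add, Prod.fst_zero, Prod.snd_zero] at h1 h2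
      ext
      · simp only [Prod.fst_zero]; omega
      · simp only [Prod.snd_zero]; omega
    | zero => simp
    | add b c _ _ hb hc => rw [mul_add]; exact Submodule.add_mem _ hb hc
    | smul n b _ hb => rw [mul_smul_comm]; exact Submodule.smul_mem _ _ hb
  | zero => simp
  | add b c _ _ hb hc => rw [add_mul]; exact Submodule.add_mem _ hb hc
  | smul n b _ hb => rw [smul_mul_assoc]; exact Submodule.smul_mem _ _ hb

/-- Elements with a prime-to-`p` multiple in `S`. -/
def MemJ (p : ℕ) (d : A → A) (x y a : A) : Prop :=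
  ∃ N : ℕ, ¬ p ∣ N ∧ (N : A) * a ∈ S p d x y

theorem nat_mul_mem_S {x y a : A} (N : ℕ) (ha : a ∈ S p d x y) : (N : A) * a ∈ S p d x y := by
  have := Submodule.smul_mem (S p d x y) (N : ℤ) ha
  rwa [zsmul_eq_mul, Int.cast_natCast] at this

theorem MemJ.add (hp : p.Prime) {x y a b : A} (ha : MemJ p d x y a) (hb : MemJ p d x y b) :
    MemJ p d x y (a + b) := by
  obtain ⟨N, hN, hNa⟩ := ha
  obtain ⟨M, hM, hMb⟩ := hb
  refine ⟨N * M, by rw [hp.dvd_mul, not_or]; exact ⟨hN, hM⟩, ?_⟩
  have h1 := nat_mul_mem_S M hNa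
  have h2 := nat_mul_mem_S N hMb
  have := Submodule.add_mem _ h1 h2
  convert this using 1
  push_cast
  ring

theorem MemJ.mul (H : PData p I d) {x y a b : A} (hx : x ∈ I) (hy : y ∈ I)
    (ha : MemJ p d x y a) (hb : MemJ p d x y b) :
    MemJ p d x y (a * b) := by
  obtain ⟨N, hN, hNa⟩ := ha
  obtain ⟨M, hM, hMb⟩ := hb
  refine ⟨N * M, by rw [H.hp.dvd_mul, not_or]; exact ⟨hN, hM⟩, ?_⟩
  have := S_mul_mem H hx hy hNa hMb
  convert this using 1
  push_cast
  ring

theorem MemJ.of_mem {x y a : A} (hp : p.Prime) (ha : a ∈ S p d x y) : MemJ p d x y a :=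
  ⟨1, by simpa using hp.one_lt.ne', by simpa using ha⟩

theorem MemJ.of_nat_mul {x y a : A} (hp : p.Prime) {N : ℕ} (hN : ¬ p ∣ N)
    (ha : MemJ p d x y ((N : A) * a)) : MemJ p d x y a := by
  obtain ⟨M, hM, hMa⟩ := ha
  refine ⟨M * N, by rw [hp.dvd_mul, not_or]; exact ⟨hM, hN⟩, ?_⟩
  convert hMa using 1
  push_cast
  ring

theorem MemJ.inv_mul (H : PData p I d) {x y a : A} {N : ℕ} (hN : ¬ p ∣ N)
    (ha : MemJ p d x y a) : MemJ p d x y (Ring.inverse (N : A) * a) := by
  apply MemJ.of_nat_mul H.hp hN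
  rwa [← mul_assoc, Ring.mul_inverse_cancel _ (H.hA _ hN), one_mul]

theorem MemJ.sum {x y : A} (hp : p.Prime) {ι : Type*} (s : Finset ι) (f : ι → A)
    (h : ∀ i ∈ s, MemJ p d x y (f i)) : MemJ p d x y (∑ i ∈ s, f i) := by
  classical
  induction s using Finset.induction_on with
  | empty => simpa using MemJ.of_mem (d := d) hp (Submodule.zero_mem _)
  | insert a s ha ih =>
    rw [Finset.sum_insert ha]
    exact MemJ.add hp (h a (mem_insert_self _ _)) (ih fun i hi => h i (mem_insert_of_mem hi))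

theorem MemJ.pow (H : PData p I d) {x y a : A} (hx : x ∈ I) (hy : y ∈ I)
    (ha : MemJ p d x y a) (n : ℕ) (hn : 0 < n) : MemJ p d x y (a ^ n) := by
  induction n with
  | zero => exact absurd hn (lt_irrefl _)
  | succ n ih =>
    rcases Nat.eq_zero_or_pos n with rfl | hn'
    · simpa using ha
    · rw [_root_.pow_succ]
      exact MemJ.mul H hx hy (ih hn') ha

theorem S_le (H : PData p I d) {x y a : A} (hx : x ∈ I) (hy : y ∈ I) (ha : a ∈ S p d x y) :
    a ∈ I := by
  induction ha using Submodule.span_induction with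
  | mem a ha =>
    obtain ⟨k, hk, rfl⟩ := ha
    by_cases h1 : k.1 = 0
    · have h2 : k.2 ≠ 0 := fun h2 => hk (Prod.ext h1 h2)
      exact I.mul_mem_left _ (g_mem H _ y hy h2)
    · exact I.mul_mem_right _ (g_mem H _ x hx h1)
  | zero => exact I.zero_mem
  | add b c _ _ hb hc => exact I.add_mem hb hc
  | smul n b _ hb => rw [zsmul_eq_mul]; exact I.mul_mem_left _ hb

theorem MemJ.mem (H : PData p I d) {x y a : A} (hx : x ∈ I) (hy : y ∈ I)
    (ha : MemJ p d x y a) : a ∈ I := by
  obtain ⟨N, hN, hNa⟩ := ha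
  exact (Ideal.unit_mul_mem_iff_mem _ (H.hA _ hN)).1 (S_le H hx hy hNa)

theorem d_zero (H : PData p I d) : d 0 = 0 := by
  have := H.h2 0 0 I.zero_mem
  rwa [mul_zero, zero_pow H.hp.ne_zero, zero_mul] at this

theorem not_dvd_factorial_mul (hp : p.Prime) {k : ℕ × ℕ} (h1 : k.1 < p) (h2 : k.2 < p) :
    ¬ p ∣ k.1.factorial * k.2.factorial := by
  rw [hp.dvd_mul, not_or, Nat.Prime.dvd_factorial hp, Nat.Prime.dvd_factorial hp]
  omega

/-- sums of elements where `d` is well behaved -/
theorem MemJ.d_add (H : PData p I d) {x y a b : A} (hx : x ∈ I) (hy : y ∈ I)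
    (ha : MemJ p d x y a) (hb : MemJ p d x y b) (hda : MemJ p d x y (d a))
    (hdb : MemJ p d x y (d b)) : MemJ p d x y (d (a + b)) := by
  rw [H.h3 a (ha.mem H hx hy) b (hb.mem H hx hy)]
  apply MemJ.add H.hp (MemJ.add H.hp hda hdb)
  apply MemJ.sum H.hp
  intro k hk
  simp only [mem_filter, mem_antidiagonal] at hk
  rw [mul_assoc]
  apply MemJ.inv_mul H (not_dvd_factorial_mul H.hp (by omega) (by omega))
  exact MemJ.mul H hx hy (MemJ.pow H hx hy ha _ hk.2.1) (MemJ.pow H hx hy hb _ hk.2.2)

theorem pow_g_mem (H : PData p I d) (y : A) (hy : y ∈ I) (j : ℕ) (n : ℕ) :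
    ∃ N : ℕ, (g p d j y) ^ n = (N : A) * g p d (n * j) y := by
  induction n with
  | zero => exact ⟨1, by simp [g_zero]⟩
  | succ n ih =>
    obtain ⟨N, hN⟩ := ih
    refine ⟨N * (n * j + j).choose (n * j), ?_⟩
    rw [_root_.pow_succ, hN, add_mul, one_mul, Nat.cast_mul, mul_assoc, mul_assoc,
      ← mul_g H _ (n * j) j rfl y hy]

theorem MemJ.d_mem (H : PData p I d) {x y a : A} (hx : x ∈ I) (hy : y ∈ I)
    (ha : MemJ p d x y a) : MemJ p d x y (d a) := by
  obtain ⟨N, hN, hNa⟩ := ha
  have haI : a ∈ I := MemJ.mem H hx hy ⟨N, hN, hNa⟩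
  have key : ∀ b ∈ S p d x y, MemJ p d x y (d b) := by
    intro b hb
    induction hb using Submodule.span_induction with
    | mem b hb =>
      obtain ⟨k, hk, rfl⟩ := hb
      by_cases h1 : k.1 = 0
      · have h2 : k.2 ≠ 0 := fun h2 => hk (Prod.ext h1 h2)
        have : G p d x y k = g p d k.2 y := by rw [G, h1, g_zero, one_mul]
        rw [this, d_g H _ y hy h2]
        apply MemJ.of_mem H.hp
        apply nat_mul_mem_S
        have : g p d (p * k.2) y = G p d x y (0, p * k.2) := by rw [G, g_zero, one_mul]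
        rw [this]
        apply G_mem_S
        intro h
        have := congrArg Prod.snd h
        simp only [Prod.snd_zero, _root_.mul_eq_zero] at this
        exact this.elim H.hp.ne_zero h2
      · obtain ⟨M, hM⟩ := pow_g_mem H y hy k.2 p
        rw [G, mul_comm, H.h2 _ _ (g_mem H _ x hx h1), hM, d_g H _ x hx h1]
        apply MemJ.of_mem H.hp
        have : (M : A) * g p d (p * k.2) y * ((p.uniformBell k.1 : A) * g p d (p * k.1) x) =
            ((M * p.uniformBell k.1 : ℕ) : A) * G p d x y (p * k.1, p * k.2) := by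
          rw [G]; push_cast; ring
        rw [this]
        apply nat_mul_mem_S
        apply G_mem_S
        intro h
        have := congrArg Prod.fst h
        simp only [Prod.fst_zero, _root_.mul_eq_zero] at this
        exact this.elim H.hp.ne_zero h1
    | zero => rw [d_zero H]; exact MemJ.of_mem H.hp (Submodule.zero_mem _)
    | add b c hb hc hdb hdc =>
      exact MemJ.d_add H hx hy (MemJ.of_mem H.hp hb) (MemJ.of_mem H.hp hc) hdb hdc
    | smul n b hb hdb =>
      rw [zsmul_eq_mul, H.h2 _ _ (S_le H hx hy hb)]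
      obtain ⟨M, hM, hMb⟩ := hdb
      refine ⟨M, hM, ?_⟩
      have := Submodule.smul_mem (S p d x y) (n ^ p : ℤ) hMb
      rw [zsmul_eq_mul] at this
      convert this using 1
      push_cast
      ring
  have h1 := key _ hNa
  rw [H.h2 _ _ haI, ← Nat.cast_pow] at h1
  exact MemJ.of_nat_mul H.hp (fun h => hN (H.hp.dvd_of_dvd_pow h)) h1

theorem MemJ.g_mem (H : PData p I d) {x y : A} (hx : x ∈ I) (hy : y ∈ I) (n : ℕ) :
    n ≠ 0 → ∀ a, MemJ p d x y a → MemJ p d x y (g p d n a) := by
  refine p_induction p (P := fun n => n ≠ 0 → ∀ a, MemJ p d x y a → MemJ p d x y (DPowPrime2.g p d n a))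
    ?_ ?_ ?_ n
  · intro h; exact absurd rfl h
  · intro m hm ih _ a ha
    apply MemJ.of_nat_mul H.hp (not_dvd_uniformBell H.hp m)
    rw [g_mul H]
    exact ih m (lt_pmul H.hp hm) hm.ne' _ (ha.d_mem H hx hy)
  · intro n hn ih _ a ha
    apply MemJ.of_nat_mul H.hp hn
    rw [g_succ_of_not_dvd H n hn]
    rcases Nat.eq_zero_or_pos n with rfl | hn'
    · rw [g_zero, mul_one]; exact ha
    · exact MemJ.mul H hx hy ha (ih n le_rfl hn'.ne' a ha)

end

/-! ### The rational two-variable polynomial ring -/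

/-- naturality of `g` -/
theorem map_g {A A' : Type*} [CommRing A] [CommRing A'] {p : ℕ} {I : Ideal A} {I' : Ideal A'}
    {d : A → A} {d' : A' → A'} (H : PData p I d) (H' : PData p I' d') (f : A →+* A')
    (hf : ∀ x, f (d x) = d' (f x)) (n : ℕ) : ∀ x, f (g p d n x) = g p d' n (f x) := by
  refine p_induction p (P := fun n => ∀ x, f (g p d n x) = g p d' n (f x)) ?_ ?_ ?_ n
  · intro x; simp [g_zero]
  · intro m hm ih x
    apply (H'.hA _ (not_dvd_uniformBell H.hp m)).mul_left_cancel
    rw [g_mul H', ← hf, ← ih m (lt_pmul H.hp hm), ← g_mul H, map_mul, map_natCast]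
  · intro n hn ih x
    apply (H'.hA _ hn).mul_left_cancel
    rw [g_succ_of_not_dvd H' n hn, ← ih n le_rfl, ← map_mul, ← g_succ_of_not_dvd H n hn, map_mul,
      map_natCast]

/-- Any divided power structure gives the data. -/
theorem pdata_of_dividedPowers {A : Type*} [CommRing A] {p : ℕ} (hp : p.Prime)
    (hA : ∀ n : ℕ, ¬ p ∣ n → IsUnit (n : A)) {I : Ideal A} (γ : DividedPowers I) :
    PData p I (γ.dpow p) where
  hp := hp
  hA := hA
  hdI x hx := γ.dpow_mem hp.ne_zero hx
  h1 x hx := γ.factorial_mul_dpow_eq_pow hx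
  h2 a x hx := γ.dpow_mul hx
  h3 x hx y hy := by
    have hkey : ∀ k ∈ (antidiagonal p).filter (fun k => 0 < k.1 ∧ 0 < k.2),
        Ring.inverse ((k.1.factorial * k.2.factorial : ℕ) : A) * x ^ k.1 * y ^ k.2 =
          γ.dpow k.1 x * γ.dpow k.2 y := by
      intro k hk
      simp only [mem_filter, mem_antidiagonal] at hk
      have hu := hA _ (not_dvd_factorial_mul hp (k := k) (by omega) (by omega))
      apply hu.mul_left_cancel
      rw [mul_assoc, ← mul_assoc, Ring.mul_inverse_cancel _ hu, one_mul,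
        ← γ.factorial_mul_dpow_eq_pow hx, ← γ.factorial_mul_dpow_eq_pow hy]
      push_cast
      ring
    rw [Finset.sum_congr rfl hkey, γ.dpow_add hx hy,
      ← Finset.sum_filter_add_sum_filter_not (antidiagonal p) (fun k => 0 < k.1 ∧ 0 < k.2),
      add_comm]
    congr 1
    have : (antidiagonal p).filter (fun k => ¬ (0 < k.1 ∧ 0 < k.2)) = {(p, 0), (0, p)} := by
      ext ⟨i, j⟩
      simp only [mem_filter, mem_antidiagonal, mem_insert, mem_singleton, Prod.mk.injEq]
      have := hp.pos
      omega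
    rw [this, Finset.sum_pair]
    · simp only [γ.dpow_zero hx, γ.dpow_zero hy, mul_one, one_mul]
    · have := hp.ne_zero
      simp [this]

open Polynomial

/-- the two-variable rational polynomial ring -/
abbrev B : Type := ℚ[X][X]

open Classical in
/-- its canonical divided powers on the unit ideal -/
noncomputable def γB : DividedPowers (⊤ : Ideal B) := DividedPowers.RatAlgebra.dividedPowers ⊤

theorem isUnit_B {n : ℕ} (hn : n ≠ 0) : IsUnit (n : B) := by
  have : (n : B) = algebraMap ℚ B (n : ℚ) := by simp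
  rw [this]
  exact (IsUnit.mk0 (n : ℚ) (by exact_mod_cast hn)).map _

theorem pdata_B {p : ℕ} (hp : p.Prime) : PData p (⊤ : Ideal B) (γB.dpow p) :=
  pdata_of_dividedPowers hp (fun _ hn => isUnit_B (fun h => hn (h ▸ dvd_zero p))) γB

theorem g_B {p : ℕ} (hp : p.Prime) (n : ℕ) (f : B) : g p (γB.dpow p) n f = γB.dpow n f := by
  apply (isUnit_B (factorial_ne_zero n)).mul_left_cancel
  rw [factorial_mul_g (pdata_B hp) n f trivial, γB.factorial_mul_dpow_eq_pow trivial]

theorem dpow_CX (i : ℕ) : γB.dpow i (C X : B) = C (monomial i ((i.factorial : ℚ)⁻¹)) := by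
  apply (isUnit_B (factorial_ne_zero i)).mul_left_cancel
  rw [γB.factorial_mul_dpow_eq_pow trivial, ← C_pow, X_pow_eq_monomial]
  have : ((i.factorial : ℕ) : B) = C (C (i.factorial : ℚ)) := by simp
  rw [this, ← C_mul, C_mul_monomial, mul_inv_cancel₀]
  exact_mod_cast factorial_ne_zero i

theorem dpow_X (j : ℕ) : γB.dpow j (X : B) = monomial j (C ((j.factorial : ℚ)⁻¹)) := by
  apply (isUnit_B (factorial_ne_zero j)).mul_left_cancel
  rw [γB.factorial_mul_dpow_eq_pow trivial, X_pow_eq_monomial]
  have : ((j.factorial : ℕ) : B) = C (C (j.factorial : ℚ)) := by simp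
  rw [this, C_mul_monomial, ← C_mul, mul_inv_cancel₀, C_1]
  exact_mod_cast factorial_ne_zero j

theorem G_B {p : ℕ} (hp : p.Prime) (k : ℕ × ℕ) :
    G p (γB.dpow p) (C X : B) X k =
      monomial k.2 (monomial k.1 ((k.1.factorial : ℚ)⁻¹ * (k.2.factorial : ℚ)⁻¹)) := by
  rw [G, g_B hp, g_B hp, dpow_CX, dpow_X, C_mul_monomial, monomial_mul_C]

/-- the coefficient functional -/
noncomputable def cf (k : ℕ × ℕ) : B →+ ℚ where
  toFun f := (f.coeff k.2).coeff k.1
  map_zero' := by simp
  map_add' f g := by simp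

theorem cf_G_B {p : ℕ} (hp : p.Prime) (k l : ℕ × ℕ) :
    cf k (G p (γB.dpow p) (C X : B) X l) =
      if l = k then (k.1.factorial : ℚ)⁻¹ * (k.2.factorial : ℚ)⁻¹ else 0 := by
  rw [G_B hp]
  change ((monomial l.2 (monomial l.1 _) : B).coeff k.2).coeff k.1 = _
  rw [coeff_monomial]
  by_cases h2 : l.2 = k.2
  · rw [if_pos h2, coeff_monomial]
    by_cases h1 : l.1 = k.1
    · rw [if_pos h1, if_pos (Prod.ext h1 h2), h1, h2]
    · rw [if_neg h1, if_neg (fun h => h1 (congrArg Prod.fst h))]
  · rw [if_neg h2, if_neg (fun h => h2 (congrArg Prod.snd h)), coeff_zero]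

theorem G_B_linearIndependent {p : ℕ} (hp : p.Prime) (l : ℕ × ℕ →₀ ℤ)
    (h : l.sum (fun k c => c • G p (γB.dpow p) (C X : B) X k) = 0) : l = 0 := by
  ext k
  have h1 := congrArg (cf k) h
  rw [Finsupp.sum, map_sum, map_zero] at h1
  simp only [map_zsmul, cf_G_B hp, smul_ite, smul_zero] at h1
  rw [Finset.sum_ite_eq'] at h1
  by_cases hk : k ∈ l.support
  · rw [if_pos hk, zsmul_eq_mul, _root_.mul_eq_zero] at h1
    rcases h1 with h1 | h1
    · simpa using h1
    · exfalso
      rw [_root_.mul_eq_zero, inv_eq_zero, inv_eq_zero] at h1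
      rcases h1 with h1 | h1
      · exact factorial_ne_zero _ (by exact_mod_cast h1)
      · exact factorial_ne_zero _ (by exact_mod_cast h1)
  · simpa using hk

section final
variable {A : Type*} [CommRing A] {p : ℕ} {I : Ideal A} {d : A → A}

/-- the product divided power datum -/
theorem pdata_prod (H : PData p I d) :
    PData p (Ideal.prod I (⊤ : Ideal B)) (fun z : A × B => (d z.1, γB.dpow p z.2)) where
  hp := H.hp
  hA n hn := by
    rw [Prod.isUnit_iff]
    exact ⟨by simpa using H.hA n hn, by simpa using (pdata_B H.hp).hA n hn⟩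
  hdI x hx := by
    rw [Ideal.mem_prod] at hx ⊢
    exact ⟨H.hdI _ hx.1, trivial⟩
  h1 x hx := by
    rw [Ideal.mem_prod] at hx
    ext1
    · simpa using H.h1 _ hx.1
    · simpa using (pdata_B H.hp).h1 _ hx.2
  h2 a x hx := by
    rw [Ideal.mem_prod] at hx
    ext1
    · simpa using H.h2 a.1 _ hx.1
    · simpa using (pdata_B H.hp).h2 a.2 _ hx.2
  h3 x hx y hy := by
    rw [Ideal.mem_prod] at hx hy
    have hinv : ∀ k ∈ (antidiagonal p).filter (fun k => 0 < k.1 ∧ 0 < k.2),
        Ring.inverse ((k.1.factorial * k.2.factorial : ℕ) : A × B) =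
          (Ring.inverse ((k.1.factorial * k.2.factorial : ℕ) : A),
            Ring.inverse ((k.1.factorial * k.2.factorial : ℕ) : B)) := by
      intro k hk
      simp only [mem_filter, mem_antidiagonal] at hk
      have hnd := (not_dvd_factorial_mul H.hp (k := k) (by omega) (by omega))
      have hu1 := H.hA _ hnd
      have hu2 := (pdata_B H.hp).hA _ hnd
      have hu : IsUnit ((k.1.factorial * k.2.factorial : ℕ) : A × B) := by
        rw [Prod.isUnit_iff]
        exact ⟨by simpa using hu1, by simpa using hu2⟩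
      apply hu.mul_left_cancel
      rw [Ring.mul_inverse_cancel _ hu]
      ext1
      · rw [Prod.fst_mul, Prod.fst_natCast, Ring.mul_inverse_cancel _ hu1, Prod.fst_one]
      · rw [Prod.snd_mul, Prod.snd_natCast, Ring.mul_inverse_cancel _ hu2, Prod.snd_one]
    have hsum : ((antidiagonal p).filter (fun k => 0 < k.1 ∧ 0 < k.2)).sum
        (fun k => Ring.inverse ((k.1.factorial * k.2.factorial : ℕ) : A × B) * x ^ k.1 * y ^ k.2) =
        (((antidiagonal p).filter (fun k => 0 < k.1 ∧ 0 < k.2)).sum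
          (fun k => Ring.inverse ((k.1.factorial * k.2.factorial : ℕ) : A) * x.1 ^ k.1 * y.1 ^ k.2),
        ((antidiagonal p).filter (fun k => 0 < k.1 ∧ 0 < k.2)).sum
          (fun k => Ring.inverse ((k.1.factorial * k.2.factorial : ℕ) : B) * x.2 ^ k.1 * y.2 ^ k.2))
        := by
      ext1
      · rw [Prod.fst_sum]
        apply Finset.sum_congr rfl
        intro k hk
        rw [hinv k hk]; simp
      · rw [Prod.snd_sum]
        apply Finset.sum_congr rfl
        intro k hk
        rw [hinv k hk]; simp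
    rw [hsum]
    ext1
    · simpa using H.h3 _ hx.1 _ hy.1
    · simpa using (pdata_B H.hp).h3 _ hx.2 _ hy.2

theorem g_add (H : PData p I d) (n : ℕ) {x y : A} (hx : x ∈ I) (hy : y ∈ I) :
    g p d n (x + y) = ∑ k ∈ antidiagonal n, g p d k.1 x * g p d k.2 y := by
  rcases Nat.eq_zero_or_pos n with rfl | hn
  · simp [g_zero]
  set d' : A × B → A × B := fun z : A × B => (d z.1, γB.dpow p z.2) with hd'
  have H' : PData p (Ideal.prod I (⊤ : Ideal B)) d' := pdata_prod H
  set x' : A × B := (x, C X) with hx'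
  set y' : A × B := (y, X) with hy'
  have hx'I : x' ∈ Ideal.prod I (⊤ : Ideal B) := (Ideal.mem_prod _ _).2 ⟨hx, trivial⟩
  have hy'I : y' ∈ Ideal.prod I (⊤ : Ideal B) := (Ideal.mem_prod _ _).2 ⟨hy, trivial⟩
  have f1 : ∀ m z, (g p d' m z).1 = g p d m z.1 := fun m z =>
    map_g H' H (RingHom.fst A B) (fun _ => rfl) m z
  have f2 : ∀ m z, (g p d' m z).2 = γB.dpow m z.2 := fun m z => by
    rw [← g_B H.hp]
    exact map_g H' (pdata_B H.hp) (RingHom.snd A B) (fun _ => rfl) m z
  have hG2 : ∀ k, (G p d' x' y' k).2 = G p (γB.dpow p) (C X : B) X k := fun k => by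
    rw [G, Prod.snd_mul, f2, f2, G, g_B H.hp, g_B H.hp]
  have m1 : MemJ p d' x' y' (g p d' n (x' + y')) := by
    apply MemJ.g_mem H' hx'I hy'I n hn.ne'
    apply MemJ.add H.hp
    · apply MemJ.of_mem H.hp
      have : x' = G p d' x' y' (1, 0) := by rw [G, g_zero, g_one H', mul_one]
      nth_rw 2 [this]
      exact G_mem_S _ _ (by simp)
    · apply MemJ.of_mem H.hp
      have : y' = G p d' x' y' (0, 1) := by rw [G, g_zero, g_one H', one_mul]
      nth_rw 2 [this]
      exact G_mem_S _ _ (by simp)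
  have m2 : (∑ k ∈ antidiagonal n, G p d' x' y' k) ∈ S p d' x' y' := by
    apply Submodule.sum_mem
    intro k hk
    apply G_mem_S
    rintro rfl
    rw [mem_antidiagonal] at hk
    simp at hk
    omega
  obtain ⟨N, hN, hNm⟩ := m1
  have m3 := Submodule.sub_mem _ hNm (nat_mul_mem_S N m2)
  rw [← mul_sub] at m3
  have m4 : (N : A × B) * (g p d' n (x' + y') - ∑ k ∈ antidiagonal n, G p d' x' y' k) = 0 := by
    have hz2 : ((N : A × B) * (g p d' n (x' + y') - ∑ k ∈ antidiagonal n, G p d' x' y' k)).2 = 0 := by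
      rw [Prod.snd_mul, Prod.snd_sub, Prod.snd_sum, f2, Prod.snd_add]
      have : ∀ k ∈ antidiagonal n, (G p d' x' y' k).2 =
          γB.dpow k.1 (C X : B) * γB.dpow k.2 (X : B) := by
        intro k _
        rw [hG2, G, g_B H.hp, g_B H.hp]
      rw [Finset.sum_congr rfl this, ← γB.dpow_add trivial trivial, sub_self, mul_zero]
    have hle : S p d' x' y' ≤ Submodule.span ℤ (Set.range (G p d' x' y')) :=
      Submodule.span_mono (Set.image_subset_range _ _)
    obtain ⟨l, hl⟩ := (Finsupp.mem_span_range_iff_exists_finsupp).1 (hle m3)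
    rw [← hl] at hz2 ⊢
    have : l = 0 := by
      apply G_B_linearIndependent H.hp
      rw [← hz2, Finsupp.sum, Finsupp.sum, Prod.snd_sum]
      apply Finset.sum_congr rfl
      intro k _
      rw [Prod.smul_snd, hG2]
    rw [this, Finsupp.sum_zero_index]
  have m5 : g p d' n (x' + y') = ∑ k ∈ antidiagonal n, G p d' x' y' k := by
    rw [← sub_eq_zero]
    apply (H'.hA N hN).mul_left_cancel
    rw [m4, mul_zero]
  have m6 := congrArg Prod.fst m5
  rw [f1, Prod.fst_sum] at m6
  simpa [G, f1] using m6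

/-- the divided power structure -/
noncomputable def toDividedPowers (H : PData p I d) : DividedPowers I := by
  classical
  exact
  { dpow := fun n x => if x ∈ I then g p d n x else 0
    dpow_null := fun {n x} hx => by rw [if_neg hx]
    dpow_zero := fun {x} hx => by rw [if_pos hx, g_zero]
    dpow_one := fun {x} hx => by rw [if_pos hx, g_one H]
    dpow_mem := fun {n x} hn hx => by rw [if_pos hx]; exact g_mem H n x hx hn
    dpow_add := fun {n x y} hx hy => by
      rw [if_pos (I.add_mem hx hy), g_add H n hx hy]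
      simp only [if_pos hx, if_pos hy]
    dpow_mul := fun {n a x} hx => by
      rw [if_pos hx, if_pos (I.mul_mem_left a hx), g_smul H n a x hx]
    mul_dpow := fun {m n x} hx => by
      simp only [if_pos hx]
      exact mul_g H _ m n rfl x hx
    dpow_comp := fun {m n x} hn hx => by
      simp only [if_pos hx, if_pos (g_mem H n x hx hn)]
      exact g_comp H m n hn x hx }

theorem toDividedPowers_dpow_prime (H : PData p I d) {x : A} (hx : x ∈ I) :
    (toDividedPowers H).dpow p x = d x := by
  simp only [toDividedPowers, if_pos hx]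
  exact g_prime H x

end final

end Groth.Agent.Models2.DPowPrime3
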