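import Groth.Prelude.Def_Disc
import Mathlib.LinearAlgebra.TensorProduct.Basis
import Mathlib.RingTheory.Kaehler.Basic
import Mathlib.RingTheory.Trace.Basic
import Mathlib.RingTheory.PicardGroup

/-!
# Duality for a finite free algebra `A → B` with `ω = Hom_A(B, A)`

`pair l ξ = ∑ l(b_i) c_i` for `ξ = ∑ b_i ⊗ c_i`.
-/

set_option autoImplicit false
universe u v

namespace Groth.Agent.Models2.DiscDual

open TensorProduct Disc

variable {A : Type u} {B : Type v} [CommRing A] [CommRing B] [Algebra A B]

/-- the pairing `ξ = ∑ b_i ⊗ c_i ↦ ∑ l(b_i) c_i` -/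
noncomputable def pair (l : Omega A B) : B ⊗[A] B →ₗ[A] B :=
  TensorProduct.lift ((LinearMap.lsmul A B).comp l.toLinearMap)

theorem pair_def (l : Omega A B) :
    pair l = TensorProduct.lift ((LinearMap.lsmul A B).comp l.toLinearMap) := rfl

@[simp] theorem pair_tmul (l : Omega A B) (b c : B) :
    pair l (b ⊗ₜ[A] c) = l.toLinearMap b • c := by
  simp [pair]

theorem pair_left_mul (l : Omega A B) (b : B) (ξ : B ⊗[A] B) :
    pair l ((b ⊗ₜ[A] (1 : B)) * ξ) = pair (b • l) ξ := by
  induction ξ using TensorProduct.induction_on with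
  | zero => simp
  | tmul x y => simp
  | add x y hx hy => rw [mul_add, map_add, map_add, hx, hy]

theorem pair_right_mul (l : Omega A B) (b : B) (ξ : B ⊗[A] B) :
    pair l (((1 : B) ⊗ₜ[A] b) * ξ) = b * pair l ξ := by
  induction ξ using TensorProduct.induction_on with
  | zero => simp
  | tmul x y => simp
  | add x y hx hy => rw [mul_add, map_add, map_add, hx, hy, mul_add]

/-- `ω` as an `A`-linear copy. -/
theorem algebraMap_smul_toLinearMap (a : A) (l : Omega A B) (x : B) :
    (algebraMap A B a • l).toLinearMap x = a * l.toLinearMap x := by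
  rw [Omega.smul_toLinearMap_apply, ← Algebra.smul_def, map_smul, smul_eq_mul]

theorem sum_toLinearMap {ι : Type*} (s : Finset ι) (f : ι → Omega A B) (x : B) :
    (∑ i ∈ s, f i).toLinearMap x = ∑ i ∈ s, (f i).toLinearMap x := by
  classical
  induction s using Finset.induction_on with
  | empty => simp
  | insert i s hi ih => simp [Finset.sum_insert hi, ih]

section Basis

variable {ι : Type*} (b : Module.Basis ι A B)

/-- the dual basis element of `ω` -/
noncomputable def coordΩ (i : ι) : Omega A B := ⟨b.coord i⟩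

@[simp] theorem coordΩ_apply (i : ι) (x : B) : (coordΩ b i).toLinearMap x = b.repr x i := rfl

variable [Fintype ι]

theorem expand_omega (l : Omega A B) :
    l = ∑ i, algebraMap A B (l.toLinearMap (b i)) • coordΩ b i := by
  apply Omega.ext
  apply LinearMap.ext
  intro x
  rw [sum_toLinearMap]
  simp only [algebraMap_smul_toLinearMap, coordΩ_apply]
  conv_lhs => rw [← b.sum_repr x]
  rw [map_sum]
  apply Finset.sum_congr rfl
  intro i _
  rw [map_smul, smul_eq_mul, mul_comm]

theorem expand_tensor (ξ : B ⊗[A] B) : ξ = ∑ i, b i ⊗ₜ[A] pair (coordΩ b i) ξ := by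
  induction ξ using TensorProduct.induction_on with
  | zero => simp
  | tmul x y =>
    conv_lhs => rw [← b.sum_repr x]
    rw [TensorProduct.sum_tmul]
    apply Finset.sum_congr rfl
    intro i _
    simp [TensorProduct.smul_tmul]
  | add x y hx hy =>
    conv_lhs => rw [hx, hy]
    rw [← Finset.sum_add_distrib]
    apply Finset.sum_congr rfl
    intro i _
    rw [← TensorProduct.tmul_add, map_add]

include b in
theorem pair_ext {ξ ξ' : B ⊗[A] B} (h : ∀ l : Omega A B, pair l ξ = pair l ξ') : ξ = ξ' := by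
  rw [expand_tensor b ξ, expand_tensor b ξ']
  simp [h]

end Basis

/-- the annihilator of the diagonal ideal -/
abbrev annDiag (A : Type u) (B : Type v) [CommRing A] [CommRing B] [Algebra A B] :
    Ideal (B ⊗[A] B) :=
  Submodule.annihilator (RingHom.ker (Algebra.TensorProduct.lmul' (S := B) A))

theorem mem_annDiag_iff (ξ : B ⊗[A] B) :
    ξ ∈ annDiag A B ↔ ∀ b : B, (b ⊗ₜ[A] (1 : B)) * ξ = ((1 : B) ⊗ₜ[A] b) * ξ := by
  have hker : RingHom.ker (Algebra.TensorProduct.lmul' (S := B) A) =
      Ideal.span (Set.range fun s : B => (1 : B) ⊗ₜ[A] s - s ⊗ₜ[A] (1 : B)) := by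
    rw [KaehlerDifferential.span_range_eq_ideal]
  rw [annDiag, hker, Submodule.mem_annihilator_span]
  constructor
  · intro h b
    have := h ⟨_, ⟨b, rfl⟩⟩
    simp only [smul_eq_mul, mul_sub, sub_eq_zero] at this
    rw [mul_comm, ← this, mul_comm]
  · rintro h ⟨_, ⟨b, rfl⟩⟩
    simp only [smul_eq_mul, mul_sub, sub_eq_zero]
    rw [mul_comm, ← h b, mul_comm]

/-- for `ξ` in the annihilator of the diagonal, `l ↦ pair l ξ` is `B`-linear -/
noncomputable def toHom (ξ : B ⊗[A] B) (hξ : ξ ∈ annDiag A B) : Omega A B →ₗ[B] B where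
  toFun l := pair l ξ
  map_add' l l' := by
    have : pair (l + l') = pair l + pair l' := by
      ext x y
      simp [add_smul]
    rw [this, LinearMap.add_apply]
  map_smul' c l := by
    rw [← pair_left_mul, (mem_annDiag_iff ξ).1 hξ, pair_right_mul]
    rfl

@[simp] theorem toHom_apply (ξ : B ⊗[A] B) (hξ : ξ ∈ annDiag A B) (l : Omega A B) :
    toHom ξ hξ l = pair l ξ := rfl

theorem exists_of_hom [Module.Finite A B] [Module.Free A B] (Φ : Omega A B →ₗ[B] B) :
    ∃ ξ : B ⊗[A] B, ξ ∈ annDiag A B ∧ ∀ l : Omega A B, Φ l = pair l ξ := by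
  classical
  let b := Module.Free.chooseBasis A B
  let ξ : B ⊗[A] B := ∑ i, b i ⊗ₜ[A] Φ (coordΩ b i)
  have key : ∀ l : Omega A B, Φ l = pair l ξ := by
    intro l
    conv_lhs => rw [expand_omega b l]
    simp only [ξ, map_sum, pair_tmul, map_smul]
    apply Finset.sum_congr rfl
    intro i _
    rw [smul_eq_mul, ← Algebra.smul_def]
  refine ⟨ξ, ?_, key⟩
  rw [mem_annDiag_iff]
  intro c
  apply pair_ext b
  intro l
  rw [pair_left_mul, pair_right_mul, ← key, ← key, map_smul, smul_eq_mul]

section Trace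

variable [Module.Finite A B] [Module.Free A B]

theorem pair_trace_eq (ξ : B ⊗[A] B) (hξ : ξ ∈ annDiag A B) :
    pair (Omega.trace A B) ξ = Algebra.TensorProduct.lmul' (S := B) A ξ := by
  classical
  let b := Module.Free.chooseBasis A B
  have h1 : Omega.trace A B = ∑ i, b i • coordΩ b i := by
    apply Omega.ext
    apply LinearMap.ext
    intro x
    rw [sum_toLinearMap]
    simp only [Omega.smul_toLinearMap_apply, coordΩ_apply]
    change Algebra.trace A B x = _
    rw [Algebra.trace_eq_matrix_trace b, Matrix.trace]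
    apply Finset.sum_congr rfl
    intro i _
    rw [Matrix.diag_apply, Algebra.leftMulMatrix_eq_repr_mul, mul_comm]
  have h2 : pair (Omega.trace A B) ξ = ∑ i, pair (b i • coordΩ b i) ξ := by
    rw [← toHom_apply ξ hξ, h1, map_sum]
    rfl
  rw [h2]
  have h3 : ∀ i, pair (b i • coordΩ b i) ξ = b i * pair (coordΩ b i) ξ := by
    intro i
    rw [← pair_left_mul, (mem_annDiag_iff ξ).1 hξ, pair_right_mul]
  simp only [h3]
  conv_rhs => rw [expand_tensor b ξ]
  rw [map_sum]
  simp

omit [Module.Finite A B] [Module.Free A B] in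
theorem mem_noetherDifferent_iff (x : B) :
    x ∈ noetherDifferent A B ↔
      ∃ ξ ∈ annDiag A B, Algebra.TensorProduct.lmul' (S := B) A ξ = x := by
  rw [noetherDifferent]
  constructor
  · intro h
    have := (Ideal.mem_map_iff_of_surjective (Algebra.TensorProduct.lmul' (S := B) A)
      (fun y => ⟨1 ⊗ₜ y, by simp⟩)).1 h
    obtain ⟨ξ, hξ, h⟩ := this
    exact ⟨ξ, hξ, h⟩
  · rintro ⟨ξ, hξ, rfl⟩
    exact Ideal.mem_map_of_mem _ hξ

theorem mem_noetherDifferent_iff_hom (x : B) :
    x ∈ noetherDifferent A B ↔ ∃ φ : Omega A B →ₗ[B] B, φ (Omega.trace A B) = x := by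
  rw [mem_noetherDifferent_iff]
  constructor
  · rintro ⟨ξ, hξ, rfl⟩
    exact ⟨toHom ξ hξ, by rw [toHom_apply, pair_trace_eq ξ hξ]⟩
  · rintro ⟨φ, rfl⟩
    obtain ⟨ξ, hξ, h⟩ := exists_of_hom φ
    exact ⟨ξ, hξ, by rw [h, pair_trace_eq ξ hξ]⟩

end Trace

theorem mem_differentSet_iff [Module.Finite A B] [Module.Free A B] (x : B) :
    x ∈ differentSet A B ↔ ∀ l : Omega A B, ∃ c : B, x • l = c • Omega.trace A B := by
  constructor
  · intro h l
    obtain ⟨c, hc⟩ := h l.toLinearMap
    refine ⟨c, Omega.ext (LinearMap.ext fun y => ?_)⟩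
    exact hc y
  · intro h φ
    obtain ⟨c, hc⟩ := h ⟨φ⟩
    refine ⟨c, fun y => ?_⟩
    have := congrArg (fun l : Omega A B => l.toLinearMap y) hc
    exact this

/-- faithfulness of `ω` -/
theorem eq_zero_of_smul_omega [Module.Free A B] {x : B}
    (h : ∀ l : Omega A B, x • l = 0) : x = 0 := by
  classical
  let b := Module.Free.chooseBasis A B
  apply b.ext_elem
  intro i
  have := congrArg (fun l : Omega A B => l.toLinearMap 1) (h (coordΩ b i))
  simpa using this

/-- the Noether different is contained in the different -/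
theorem noetherDifferent_subset_differentSet [Module.Finite A B] [Module.Free A B] {x : B}
    (hx : x ∈ noetherDifferent A B) : x ∈ differentSet A B := by
  classical
  obtain ⟨ξ, hξ, rfl⟩ := (mem_noetherDifferent_iff x).1 hx
  let b := Module.Free.chooseBasis A B
  intro φ
  -- `c = ∑ φ(c_i) b_i`
  refine ⟨∑ i, algebraMap A B (φ (pair (coordΩ b i) ξ)) * b i, fun y => ?_⟩
  have h1 : ((y ⊗ₜ[A] (1 : B)) * ξ) ∈ annDiag A B := Ideal.mul_mem_left _ _ hξ
  have h2 := pair_trace_eq _ h1
  have h3 : Algebra.TensorProduct.lmul' (S := B) A ((y ⊗ₜ[A] (1 : B)) * ξ) =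
      y * Algebra.TensorProduct.lmul' (S := B) A ξ := by
    rw [map_mul, Algebra.TensorProduct.lmul'_apply_tmul, mul_one]
  rw [mul_comm, ← h3, ← h2]
  conv_lhs => rw [expand_tensor b ξ]
  rw [Finset.mul_sum, map_sum, map_sum, Finset.sum_mul, map_sum]
  apply Finset.sum_congr rfl
  intro i _
  rw [Algebra.TensorProduct.tmul_mul_tmul, one_mul, pair_tmul, map_smul, smul_eq_mul, mul_assoc,
    ← Algebra.smul_def, map_smul, smul_eq_mul, mul_comm, mul_comm y]
  rfl

/-- the square of an element of the different is in the Noether different -/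
theorem sq_mem_noetherDifferent [Module.Finite A B] [Module.Free A B] {x : B}
    (hx : x ∈ differentSet A B) : x ^ 2 ∈ noetherDifferent A B := by
  classical
  rw [mem_differentSet_iff] at hx
  choose c hc using hx
  have hann : ∀ d : B, d • Omega.trace A B = 0 → x * d = 0 := by
    intro d hd
    apply eq_zero_of_smul_omega (A := A)
    intro l
    rw [mul_comm, mul_smul, hc, smul_comm, hd, smul_zero]
  have hann' : ∀ d d' : B, d • Omega.trace A B = d' • Omega.trace A B → x * d = x * d' := by
    intro d d' h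
    rw [← sub_eq_zero, ← mul_sub]
    apply hann
    rw [sub_smul, h, sub_self]
  rw [mem_noetherDifferent_iff_hom]
  refine ⟨{ toFun := fun l => x * c l, map_add' := ?_, map_smul' := ?_ }, ?_⟩
  · intro l l'
    rw [← mul_add]
    apply hann'
    rw [add_smul, ← hc, ← hc, ← hc, smul_add]
  · intro d l
    rw [RingHom.id_apply, smul_eq_mul, mul_left_comm]
    apply hann'
    rw [mul_smul, ← hc, ← hc, smul_comm]
  · change x * c (Omega.trace A B) = x ^ 2
    rw [pow_two]
    apply hann'
    rw [← hc]

/-- swap relation for an invertible module -/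
theorem invertible_swap {M : Type*} [AddCommGroup M] [Module B M] [Module.Invertible B M]
    (φ : M →ₗ[B] B) (x y : M) : φ x • y = φ y • x := by
  have h : x ⊗ₜ[B] y = y ⊗ₜ[B] x := Module.Invertible.tmul_comm
  have := congrArg (TensorProduct.lift ((LinearMap.lsmul B M).comp φ)) h
  simpa using this

theorem exists_sum_eq_one (M : Type*) [AddCommGroup M] [Module B M] [Module.Invertible B M] :
    ∃ (s : Finset (Module.Dual B M × M)), ∑ p ∈ s, p.1 p.2 = 1 := by
  classical
  obtain ⟨t, ht⟩ := (Module.Invertible.bijective (R := B) (M := M)).2 1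
  obtain ⟨s, hs⟩ := TensorProduct.exists_finset t
  refine ⟨s, ?_⟩
  rw [← ht, hs, map_sum]
  simp

theorem differentSet_eq_of_invertible [Module.Finite A B] [Module.Free A B]
    [Module.Invertible B (Omega A B)] :
    differentSet A B = (noetherDifferent A B : Set B) := by
  apply Set.Subset.antisymm
  · intro x hx
    rw [mem_differentSet_iff] at hx
    choose c hc using hx
    obtain ⟨s, hs⟩ := exists_sum_eq_one (B := B) (Omega A B)
    rw [SetLike.mem_coe, mem_noetherDifferent_iff_hom]
    refine ⟨∑ p ∈ s, c p.2 • p.1, ?_⟩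
    rw [LinearMap.sum_apply]
    rw [← mul_one x, ← hs, Finset.mul_sum]
    apply Finset.sum_congr rfl
    intro p _
    rw [LinearMap.smul_apply, ← map_smul, ← hc, map_smul, smul_eq_mul]
  · intro x hx
    exact noetherDifferent_subset_differentSet hx

end Groth.Agent.Models2.DiscDual
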