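import Groth.Agent.Models2.DiscDual
import Mathlib.RingTheory.QuasiFinite.Basic
import Mathlib.RingTheory.Localization.Finiteness
import Mathlib.RingTheory.Discriminant
import Mathlib.RingTheory.Norm.Basic
import Mathlib.RingTheory.Ideal.GoingUp

/-!
# Norms of elements of the different; local generators of invertible modules over semi-local rings
-/

set_option autoImplicit false
universe u v w

namespace Groth.Agent.Models2.DiscDual2

open TensorProduct Disc DiscDual

section Norm

variable {A : Type u} {B : Type v} [CommRing A] [CommRing B] [Algebra A B]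
variable {ι : Type w} [Fintype ι] [DecidableEq ι] (b : Module.Basis ι A B)

include b in
theorem norm_mem_span_discr (x : B) (hx : x ∈ differentSet A B) :
    Algebra.norm A x ∈ Ideal.span {Algebra.discr A b} := by
  choose c hc using fun i => hx (b.coord i)
  rw [Ideal.mem_span_singleton']
  refine ⟨(Matrix.of fun i k => b.repr (c i) k).det, ?_⟩
  rw [Algebra.norm_eq_matrix_det b, Algebra.discr, ← Matrix.det_mul]
  congr 1
  ext i j
  rw [Algebra.leftMulMatrix_eq_repr_mul, ← b.coord_apply, hc, Matrix.mul_apply]
  conv_lhs =>
    enter [2, k]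
    rw [Algebra.traceMatrix_apply, Algebra.traceForm_apply, Matrix.of_apply, ← smul_eq_mul,
      ← map_smul, ← Algebra.smul_mul_assoc]
  rw [← map_sum, ← Finset.sum_mul, b.sum_repr]

include b in
theorem pow_mul_discr_eq [Module.Finite A B] [Module.Free A B] (e : Omega A B) (s : A) (t : B)
    (h : algebraMap A B s • Omega.trace A B = t • e) :
    s ^ Fintype.card ι * Algebra.discr A b =
      Algebra.norm A t * (Matrix.of fun k j => e.toLinearMap (b k * b j)).det := by
  have h1 : s • Algebra.traceMatrix A b =
      (Algebra.leftMulMatrix b t).transpose * (Matrix.of fun k j => e.toLinearMap (b k * b j)) := by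
    ext i j
    rw [Matrix.smul_apply, Algebra.traceMatrix_apply, Algebra.traceForm_apply, Matrix.mul_apply]
    have h2 : (algebraMap A B s • Omega.trace A B).toLinearMap (b i * b j) =
        (t • e).toLinearMap (b i * b j) := by rw [h]
    rw [algebraMap_smul_toLinearMap, Omega.smul_toLinearMap_apply] at h2
    rw [smul_eq_mul]
    refine h2.trans ?_
    rw [← mul_assoc]
    conv_lhs => rw [← b.sum_repr (t * b i)]
    rw [Finset.sum_mul, map_sum]
    apply Finset.sum_congr rfl
    intro k _
    rw [Algebra.smul_mul_assoc, map_smul, smul_eq_mul, Matrix.transpose_apply, Matrix.of_apply,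
      Algebra.leftMulMatrix_eq_repr_mul]
  rw [Algebra.norm_eq_matrix_det b, Algebra.discr, ← Matrix.det_transpose (Algebra.leftMulMatrix b t),
    ← Matrix.det_mul, ← h1, Matrix.det_smul]

end Norm

section Semilocal

theorem finite_maximalSpectrum (R : Type u) (S : Type v) [CommRing R] [CommRing S] [Algebra R S]
    [IsLocalRing R] [Module.Finite R S] : Finite (MaximalSpectrum S) := by
  have h := Algebra.QuasiFinite.finite_primesOver (S := S) (IsLocalRing.maximalIdeal R)
  have := h.to_subtype
  let f : MaximalSpectrum S → (IsLocalRing.maximalIdeal R).primesOver S := fun M =>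
    ⟨M.asIdeal, M.isMaximal.isPrime, ⟨by
      have : (M.asIdeal.under R).IsMaximal := by
        have := M.isMaximal
        exact Ideal.isMaximal_comap_of_isIntegral_of_isMaximal M.asIdeal
      exact (IsLocalRing.eq_maximalIdeal this).symm⟩⟩
  refine Finite.of_injective f ?_
  intro M M' hM
  have := congrArg Subtype.val hM
  exact MaximalSpectrum.ext this

variable {A : Type u} {B : Type v} [CommRing A] [CommRing B] [Algebra A B] [Module.Finite A B]
variable (M : Type w) [AddCommGroup M] [Module B M] [Module.Invertible B M]

/-- local generator of an invertible module over a finite algebra, at a prime of the base -/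
theorem exists_local_generator (p : Ideal A) [p.IsPrime] :
    ∃ (e : M) (s : A), s ∉ p ∧ ∀ m : M, ∃ c : B, algebraMap A B s • m = c • e := by
  classical
  let T := Algebra.algebraMapSubmonoid B p.primeCompl
  have : Module.Finite (Localization p.primeCompl) (Localization T) :=
    Module.Finite.of_isLocalization A B p.primeCompl
  have : IsLocalRing (Localization p.primeCompl) :=
    inferInstanceAs (IsLocalRing (Localization.AtPrime p))
  have : Finite (MaximalSpectrum (Localization T)) :=
    finite_maximalSpectrum (Localization p.primeCompl) (Localization T)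
  have : Module.Free (Localization T) (LocalizedModule T M) := inferInstance
  obtain ⟨ε⟩ := Module.Invertible.free_iff_linearEquiv.1 this
  -- generator
  obtain ⟨⟨e, t⟩, he⟩ := IsLocalizedModule.mk'_surjective T (LocalizedModule.mkLinearMap T M) (ε.symm 1)
  have hgen : ∀ m : M, ∃ s ∈ T, s • m ∈ Submodule.span B {e} := by
    intro m
    obtain ⟨⟨c, u⟩, hcu⟩ := IsLocalization.mk'_surjective T (ε (LocalizedModule.mkLinearMap T M m))
    have h1 : LocalizedModule.mkLinearMap T M m =
        IsLocalization.mk' (Localization T) c u •
          IsLocalizedModule.mk' (LocalizedModule.mkLinearMap T M) e t := by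
      have h0 : IsLocalizedModule.mk' (LocalizedModule.mkLinearMap T M) e t = ε.symm 1 := he
      rw [h0, ← map_smul]
      have h2 : IsLocalization.mk' (Localization T) c u =
        ε (LocalizedModule.mkLinearMap T M m) := hcu
      rw [h2, smul_eq_mul, mul_one, LinearEquiv.symm_apply_apply]
    rw [IsLocalizedModule.mk'_smul_mk'] at h1
    rw [eq_comm, IsLocalizedModule.mk'_eq_iff] at h1
    rw [Submonoid.smul_def, ← map_smul,
      IsLocalizedModule.eq_iff_exists T] at h1
    obtain ⟨v, hv⟩ := h1
    refine ⟨v * (u * t), mul_mem v.2 (mul_mem u.2 t.2), ?_⟩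
    rw [mul_smul]
    rw [Submonoid.smul_def, Submonoid.smul_def] at hv
    have h3 : (v : B) • ((u : B) * (t : B)) • m = (v : B) • c • e := hv.symm
    rw [h3]
    exact Submodule.smul_mem _ _ (Submodule.smul_mem _ _ (Submodule.mem_span_singleton_self e))
  obtain ⟨S, hS⟩ := Module.Finite.fg_top (R := B) (M := M)
  choose f hfT hf using hgen
  have hprod : ∏ x ∈ S, f x ∈ T := prod_mem fun x _ => hfT x
  obtain ⟨s, hs, hsT⟩ := hprod
  refine ⟨e, s, hs, fun m => ?_⟩
  have hm : m ∈ Submodule.span B (S : Set M) := hS ▸ Submodule.mem_top
  have : algebraMap A B s • m ∈ Submodule.span B {e} := by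
    rw [show algebraMap A B s = ∏ x ∈ S, f x from hsT]
    induction hm using Submodule.span_induction with
    | mem x hx =>
      rw [← Finset.prod_erase_mul S f hx, mul_smul]
      exact Submodule.smul_mem _ _ (hf x)
    | zero => rw [smul_zero]; exact Submodule.zero_mem _
    | add x y _ _ hx hy => rw [smul_add]; exact Submodule.add_mem _ hx hy
    | smul a x _ hx => rw [smul_comm]; exact Submodule.smul_mem _ _ hx
  obtain ⟨c, hc⟩ := Submodule.mem_span_singleton.1 this
  exact ⟨c, hc.symm⟩

end Semilocal

theorem span_norm_differentSet {A : Type u} {B : Type v} [CommRing A] [CommRing B] [Algebra A B]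
    {ι : Type w} [Fintype ι] [DecidableEq ι] (b : Module.Basis ι A B)
    [Module.Invertible B (Omega A B)] :
    Ideal.span (Algebra.norm A '' differentSet A B) = Ideal.span {Algebra.discr A b} := by
  have : Module.Finite A B := Module.Finite.of_basis b
  have : Module.Free A B := Module.Free.of_basis b
  apply le_antisymm
  · rw [Ideal.span_le]
    rintro _ ⟨x, hx, rfl⟩
    exact norm_mem_span_discr b x hx
  · rw [Ideal.span_singleton_le_iff_mem]
    set I := Ideal.span (Algebra.norm A '' differentSet A B) with hI
    by_contra hcon
    let J : Ideal A := I.colon {Algebra.discr A b}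
    have hJ : J ≠ ⊤ := by
      intro h
      apply hcon
      have h1 : (1 : A) ∈ J := h ▸ Submodule.mem_top
      have := Submodule.mem_colon_singleton.1 h1
      rwa [one_smul] at this
    obtain ⟨p, hp, hJp⟩ := Ideal.exists_le_maximal J hJ
    have := hp.isPrime
    obtain ⟨e, s, hs, hgen⟩ := exists_local_generator (A := A) (B := B) (Omega A B) p
    obtain ⟨t, ht⟩ := hgen (Omega.trace A B)
    have hD : algebraMap A B s * t ∈ differentSet A B := by
      rw [mem_differentSet_iff]
      intro l
      obtain ⟨c, hc⟩ := hgen l
      refine ⟨c * algebraMap A B s, ?_⟩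
      rw [mul_comm, mul_smul, hc, smul_comm, ← ht, mul_smul]
    have h1 := pow_mul_discr_eq b e s t ht
    have h2 : s ^ Fintype.card ι * s ^ Fintype.card ι ∈ J := by
      apply Submodule.mem_colon_singleton.2
      rw [smul_eq_mul, mul_assoc, h1, ← mul_assoc, ← Algebra.norm_algebraMap_of_basis b, ← map_mul]
      exact Ideal.mul_mem_right _ _ (Ideal.subset_span ⟨_, hD, rfl⟩)
    have h3 := hJp h2
    rw [← pow_add] at h3
    exact hs (this.mem_of_pow_mem _ h3)

end Groth.Agent.Models2.DiscDual2
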