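import Groth.Agent.PerfA.ExtZero
import Groth.Agent.S0485
import Groth.Agent.Dcoh.Restrict
import Mathlib.Algebra.Homology.DerivedCategory.Ext.ExactSequences
import Mathlib.Algebra.Homology.DerivedCategory.Ext.EnoughInjectives

/-!
# Classes in `Ext^n(j_! O_V, G)`, `n > 0`, are locally zero
-/

set_option autoImplicit false

universe w u

open CategoryTheory CategoryTheory.Limits AlgebraicGeometry Opposite TopologicalSpace Abelian

namespace Groth.Agent.Models2.ExtGerm

open Groth.Agent.PerfA.ExtZero

variable {X : Scheme.{u}}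

instance enoughInjectives (X : Scheme.{u}) : EnoughInjectives X.Modules :=
  Groth.Agent.S0485.result (Opens.grothendieckTopology X) X.ringCatSheaf

variable [HasExt.{w} X.Modules]

theorem OU_germ (n : ℕ) (G : X.Modules) (V : X.Opens) (x : X) (hx : x ∈ V)
    (a : Ext (OU V) G (n + 1)) :
    ∃ (W : X.Opens) (h : W ≤ V), x ∈ W ∧
      (Ext.mk₀ ((OUF X).map (homOfLE h))).comp a (zero_add _) = 0 := by
  induction n generalizing G with
  | zero =>
    let ip := (EnoughInjectives.presentation G).some
    let S : ShortComplex X.Modules := ShortComplex.mk ip.f (cokernel.π ip.f) (by simp)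
    have hS : S.ShortExact :=
      { exact := ShortComplex.exact_of_g_is_cokernel _ (cokernelIsCokernel ip.f) }
    obtain ⟨q, hq⟩ := Ext.covariant_sequence_exact₁ (OU V) hS a
      (by
        have : Injective S.X₂ := ip.injective
        exact Ext.eq_zero_of_injective _) (zero_add 1)
    obtain ⟨q, rfl⟩ := Ext.homEquiv₀.symm.surjective q
    obtain ⟨s, rfl⟩ := desc_surjective q
    obtain ⟨W, h, t, hxW, ht⟩ :=
      Groth.Agent.Dcoh.Restrict.exists_local_preimage (cokernel.π ip.f) V s x hx
    refine ⟨W, h, hxW, ?_⟩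
    have h1 : (OUF X).map (homOfLE h) ≫ desc s = desc t ≫ S.g := by
      rw [map_desc, desc_comp]
      exact congrArg desc ht.symm
    rw [← hq, ← Ext.comp_assoc (a₁₂ := 0) (a₂₃ := 1) _ _ _ (by omega) (by omega) (by omega)]
    change Ext.comp (Ext.comp (Ext.mk₀ _) (Ext.mk₀ (desc s)) _) _ _ = 0
    rw [Ext.mk₀_comp_mk₀, h1, ← Ext.mk₀_comp_mk₀, Ext.comp_assoc (a₁₂ := 0) (a₂₃ := 1) _ _ _ (by omega) (by omega) (by omega),
      hS.comp_extClass]
    simp
  | succ n ih =>
    let ip := (EnoughInjectives.presentation G).some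
    let S : ShortComplex X.Modules := ShortComplex.mk ip.f (cokernel.π ip.f) (by simp)
    have hS : S.ShortExact :=
      { exact := ShortComplex.exact_of_g_is_cokernel _ (cokernelIsCokernel ip.f) }
    obtain ⟨q, hq⟩ := Ext.covariant_sequence_exact₁ (OU V) hS a
      (by
        have : Injective S.X₂ := ip.injective
        exact Ext.eq_zero_of_injective _) (rfl : n + 1 + 1 = n + 2)
    obtain ⟨W, h, hxW, hW⟩ := ih _ q
    refine ⟨W, h, hxW, ?_⟩
    rw [← hq, ← Ext.comp_assoc (a₁₂ := n + 1) (a₂₃ := n + 2) _ _ _ (by omega) (by omega) (by omega), hW]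
    simp

end Groth.Agent.Models2.ExtGerm
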