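import Groth.Agent.Models2.BrownGersten
import Mathlib.Algebra.Homology.DerivedCategory.Ext.ExactSequences
import Mathlib.Topology.Category.TopCat.Opens
import Mathlib.Tactic.CategoryTheory.Reassoc

/-!
# Mayer-Vietoris data on `Ext^n(Φ U, G)` and germs

* `mvDataExt`: for a functor `Φ : Opens X ⥤ C` to an abelian category with Mayer-Vietoris short
  exact sequences, `E n U = Ext^n(Φ U, G)` is a `BrownGersten.MVData`.
* `GermZero T x n A`: for `T : Opens X ⥤ (C ⥤ C)`, all classes in `Ext^n(T_V A, G)` vanish near `x`.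
  Stability under isomorphisms, finite biproducts and short exact sequences.
-/

set_option autoImplicit false

universe w v u t

open CategoryTheory CategoryTheory.Limits TopologicalSpace Abelian

namespace Groth.Agent.Models2.ExtMVAbs

open Groth.Agent.Models2.BrownGersten

variable {X : Type t} [TopologicalSpace X] {C : Type u} [Category.{v} C] [Abelian C]

section MV

variable (Φ : Opens X ⥤ C)

/-- The Mayer-Vietoris short complex of a functor on opens. -/
@[simps]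
noncomputable def mvSC (U V : Opens X) : ShortComplex C where
  X₁ := Φ.obj (U ⊓ V)
  X₂ := Φ.obj U ⊞ Φ.obj V
  X₃ := Φ.obj (U ⊔ V)
  f := biprod.lift (Φ.map (homOfLE inf_le_left)) (- Φ.map (homOfLE inf_le_right))
  g := biprod.desc (Φ.map (homOfLE le_sup_left)) (Φ.map (homOfLE le_sup_right))
  zero := by
    rw [biprod.lift_desc, ← Functor.map_comp, Preadditive.neg_comp, ← Functor.map_comp,
      ← sub_eq_add_neg, sub_eq_zero]
    rfl

lemma mv_comm₁₂ (U : Opens X) {V V' : Opens X} (h : V' ≤ V) :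
    Φ.map (homOfLE (inf_le_inf_left U h)) ≫
      biprod.lift (Φ.map (homOfLE inf_le_left)) (- Φ.map (homOfLE inf_le_right)) =
    biprod.lift (Φ.map (homOfLE inf_le_left)) (- Φ.map (homOfLE inf_le_right)) ≫
      biprod.map (𝟙 (Φ.obj U)) (Φ.map (homOfLE h)) := by
  apply biprod.hom_ext
  · rw [Category.assoc, Category.assoc, biprod.lift_fst, biprod.map_fst, biprod.lift_fst_assoc,
      Category.comp_id, ← Functor.map_comp]
    rfl
  · rw [Category.assoc, Category.assoc, biprod.lift_snd, biprod.map_snd, biprod.lift_snd_assoc,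
      Preadditive.comp_neg, Preadditive.neg_comp, ← Functor.map_comp, ← Functor.map_comp]
    rfl

lemma mv_comm₂₃ (U : Opens X) {V V' : Opens X} (h : V' ≤ V) :
    biprod.map (𝟙 (Φ.obj U)) (Φ.map (homOfLE h)) ≫
      biprod.desc (Φ.map (homOfLE le_sup_left)) (Φ.map (homOfLE le_sup_right)) =
    biprod.desc (Φ.map (homOfLE le_sup_left)) (Φ.map (homOfLE le_sup_right)) ≫
      Φ.map (homOfLE (sup_le_sup_left h U)) := by
  apply biprod.hom_ext'
  · rw [biprod.inl_map_assoc, biprod.inl_desc, biprod.inl_desc_assoc, Category.id_comp,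
      ← Functor.map_comp]
    rfl
  · rw [biprod.inr_map_assoc, biprod.inr_desc, biprod.inr_desc_assoc, ← Functor.map_comp,
      ← Functor.map_comp]
    rfl

/-- Naturality of the Mayer-Vietoris short complex in the second open. -/
@[simps]
noncomputable def mvSCMap (U : Opens X) {V V' : Opens X} (h : V' ≤ V) :
    mvSC Φ U V' ⟶ mvSC Φ U V where
  τ₁ := Φ.map (homOfLE (inf_le_inf_left U h))
  τ₂ := biprod.map (𝟙 _) (Φ.map (homOfLE h))
  τ₃ := Φ.map (homOfLE (sup_le_sup_left h U))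
  comm₁₂ := mv_comm₁₂ Φ U h
  comm₂₃ := mv_comm₂₃ Φ U h

variable [HasExt.{w} C] (h0 : IsZero (Φ.obj ⊥)) (hmv : ∀ U V : Opens X, (mvSC Φ U V).ShortExact) (G : C)

/-- Mayer-Vietoris data on `Ext^n(Φ U, G)`. -/
noncomputable def mvDataExt : MVData.{t, w} X where
  E n U := Ext (Φ.obj U) G n
  res n U V h := (Ext.mk₀ (Φ.map (homOfLE h))).precomp G (zero_add n)
  res_res n U V W h h' a := by
    change (Ext.mk₀ _).comp ((Ext.mk₀ _).comp a (zero_add n)) (zero_add n) =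
      (Ext.mk₀ _).comp a (zero_add n)
    rw [Ext.mk₀_comp_mk₀_assoc, ← Functor.map_comp]
    rfl
  bot n a := by
    have : (Ext.mk₀ (𝟙 (Φ.obj ⊥))).comp a (zero_add n) = a := Ext.mk₀_id_comp a
    rw [← this, (IsZero.iff_id_eq_zero _).1 h0, Ext.mk₀_zero, Ext.zero_comp]
  mv n U V a ha1 ha2 := by
    replace ha1 : (Ext.mk₀ (Φ.map (homOfLE le_sup_left))).comp a (zero_add _) = 0 := ha1
    replace ha2 : (Ext.mk₀ (Φ.map (homOfLE le_sup_right))).comp a (zero_add _) = 0 := ha2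
    have hg : (Ext.mk₀ (biprod.desc (Φ.map (homOfLE le_sup_left)) (Φ.map (homOfLE le_sup_right)) :
        Φ.obj U ⊞ Φ.obj V ⟶ Φ.obj (U ⊔ V))).comp a (zero_add _) = 0 := by
      apply Ext.biprod_ext
      · rw [Ext.mk₀_comp_mk₀_assoc, biprod.inl_desc, ha1, Ext.comp_zero]
      · rw [Ext.mk₀_comp_mk₀_assoc, biprod.inr_desc, ha2, Ext.comp_zero]
    obtain ⟨b, hb⟩ := Ext.contravariant_sequence_exact₃ (hmv U V) G a hg
      (show 1 + n = n + 1 by omega)
    refine ⟨b, fun V' h hbV' => ?_⟩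
    change (Ext.mk₀ (mvSCMap Φ U h).τ₃).comp a (zero_add _) = 0
    replace hbV' : (Ext.mk₀ (mvSCMap Φ U h).τ₁).comp b (zero_add _) = 0 := hbV'
    rw [← hb, ← Ext.comp_assoc (a₁₂ := 1) (a₂₃ := n + 1) _ _ _ (by omega) (by omega) (by omega),
      ← ShortComplex.ShortExact.extClass_naturality (hmv U V') (hmv U V) (mvSCMap Φ U h),
      Ext.comp_assoc (a₁₂ := 1) (a₂₃ := n) _ _ _ (by omega) (by omega) (by omega), hbV',
      Ext.comp_zero]

end MV

section Germ

variable [HasExt.{w} C] (T : Opens X ⥤ (C ⥤ C))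

/-- All classes in `Ext^n(T_V A, G)` vanish near `x`. -/
def GermZero (x : X) (n : ℕ) (A : C) : Prop :=
  ∀ (G : C) (V : Opens X) (_ : x ∈ V) (a : Ext ((T.obj V).obj A) G n),
    ∃ (W : Opens X) (h : W ≤ V), x ∈ W ∧
      (Ext.mk₀ ((T.map (homOfLE h)).app A)).comp a (zero_add n) = 0

variable {T}

omit [TopologicalSpace X] in
lemma res_comp [TopologicalSpace X] {T : Opens X ⥤ (C ⥤ C)} {A G : C} {n : ℕ} {V W W' : Opens X}
    (h : W ≤ V) (h' : W' ≤ W) (a : Ext ((T.obj V).obj A) G n)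
    (ha : (Ext.mk₀ ((T.map (homOfLE h)).app A)).comp a (zero_add n) = 0) :
    (Ext.mk₀ ((T.map (homOfLE (h'.trans h))).app A)).comp a (zero_add n) = 0 := by
  have e : (T.map (homOfLE (h'.trans h))).app A =
      (T.map (homOfLE h')).app A ≫ (T.map (homOfLE h)).app A := by
    rw [← NatTrans.comp_app, ← Functor.map_comp]
    rfl
  rw [e, ← Ext.mk₀_comp_mk₀_assoc, ha, Ext.comp_zero]

/-- Transport of the germ-vanishing property along an isomorphism near `x`. -/
theorem GermZero.of_iso {x : X} {n : ℕ} {A B : C} (hA : GermZero T x n A) (W₀ : Opens X)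
    (hx : x ∈ W₀) (e : ∀ V : Opens X, V ≤ W₀ → ((T.obj V).obj B ≅ (T.obj V).obj A))
    (he : ∀ {V V' : Opens X} (h : V ≤ W₀) (h' : V' ≤ V),
      (T.map (homOfLE h')).app B ≫ (e V h).hom =
        (e V' (h'.trans h)).hom ≫ (T.map (homOfLE h')).app A) :
    GermZero T x n B := by
  intro G V hxV a
  let V₁ := V ⊓ W₀
  have h1 : V₁ ≤ V := inf_le_left
  have h2 : V₁ ≤ W₀ := inf_le_right
  obtain ⟨W, hW, hxW, hWa⟩ := hA G V₁ ⟨hxV, hx⟩
    ((Ext.mk₀ ((e V₁ h2).inv ≫ (T.map (homOfLE h1)).app B)).comp a (zero_add n))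
  refine ⟨W, hW.trans h1, hxW, ?_⟩
  have h3 : (T.map (homOfLE (hW.trans h1))).app B =
      (e W (hW.trans h2)).hom ≫ (T.map (homOfLE hW)).app A ≫ (e V₁ h2).inv ≫
        (T.map (homOfLE h1)).app B := by
    rw [← reassoc_of% (he h2 hW), Iso.hom_inv_id_assoc, ← NatTrans.comp_app, ← Functor.map_comp]
    rfl
  rw [h3, ← Ext.mk₀_comp_mk₀_assoc, ← Ext.mk₀_comp_mk₀_assoc]
  rw [hWa, Ext.comp_zero]

theorem GermZero.of_iso' {x : X} {n : ℕ} {A B : C} (hA : GermZero T x n A) (e : B ≅ A) :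
    GermZero T x n B :=
  hA.of_iso ⊤ (Set.mem_univ x) (fun V _ => (T.obj V).mapIso e) (fun h h' => by simp)

/-- The germ-vanishing property and short exact sequences. -/
theorem GermZero.of_shortExact [∀ V, (T.obj V).Additive] [∀ V, PreservesFiniteLimits (T.obj V)]
    [∀ V, PreservesFiniteColimits (T.obj V)] {x : X} {n : ℕ} {S : ShortComplex C}
    (hS : S.ShortExact) (h₂ : GermZero T x (n + 1) S.X₂) (h₁ : GermZero T x n S.X₁) :
    GermZero T x (n + 1) S.X₃ := by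
  intro G V hxV a
  obtain ⟨W, hW, hxW, hWa⟩ := h₂ G V hxV ((Ext.mk₀ ((T.obj V).map S.g)).comp a (zero_add _))
  have hSW : (S.map (T.obj W)).ShortExact := hS.map_of_exact (T.obj W)
  obtain ⟨b, hb⟩ := Ext.contravariant_sequence_exact₃ hSW G
    ((Ext.mk₀ ((T.map (homOfLE hW)).app S.X₃)).comp a (zero_add _))
    (by
      change (Ext.mk₀ ((T.obj W).map S.g)).comp _ (zero_add _) = 0
      rw [Ext.mk₀_comp_mk₀_assoc, NatTrans.naturality, ← Ext.mk₀_comp_mk₀_assoc]
      exact hWa) (show 1 + n = n + 1 by omega)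
  obtain ⟨W', hW', hxW', hWb⟩ := h₁ G W hxW b
  refine ⟨W', hW'.trans hW, hxW', ?_⟩
  have hSW' : (S.map (T.obj W')).ShortExact := hS.map_of_exact (T.obj W')
  let f : S.map (T.obj W') ⟶ S.map (T.obj W) := S.mapNatTrans (T.map (homOfLE hW'))
  have e : (T.map (homOfLE (hW'.trans hW))).app S.X₃ =
      f.τ₃ ≫ (T.map (homOfLE hW)).app S.X₃ := by
    change _ = (T.map (homOfLE hW')).app S.X₃ ≫ (T.map (homOfLE hW)).app S.X₃
    rw [← NatTrans.comp_app, ← Functor.map_comp]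
    rfl
  have key : (Ext.mk₀ f.τ₃).comp (hSW.extClass.comp b (show 1 + n = n + 1 by omega))
      (zero_add (n + 1)) = 0 := by
    rw [← Ext.comp_assoc (a₁₂ := 1) (a₂₃ := n + 1) _ _ _ (by omega) (by omega) (by omega),
      ← ShortComplex.ShortExact.extClass_naturality hSW' hSW f,
      Ext.comp_assoc (a₁₂ := 1) (a₂₃ := n) _ _ _ (by omega) (by omega) (by omega)]
    have : (Ext.mk₀ f.τ₁).comp b (zero_add n) = 0 := hWb
    rw [this, Ext.comp_zero]
  rw [hb] at key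
  have e' : (T.map (homOfLE (hW'.trans hW))).app S.X₃ =
      (T.map (homOfLE hW')).app S.X₃ ≫ (T.map (homOfLE hW)).app S.X₃ := e
  rw [e', ← Ext.mk₀_comp_mk₀_assoc]
  exact key

/-- Zero objects. -/
theorem GermZero.of_isZero [∀ V, (T.obj V).PreservesZeroMorphisms] {x : X} {n : ℕ} {A : C}
    (hA : IsZero A) : GermZero T x n A := by
  intro G V hxV a
  refine ⟨V, le_rfl, hxV, ?_⟩
  have h : IsZero ((T.obj V).obj A) := (T.obj V).map_isZero hA
  rw [h.eq_of_tgt ((T.map (homOfLE le_rfl)).app A) 0, Ext.mk₀_zero, Ext.zero_comp]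

/-- Binary biproducts. -/
theorem GermZero.biprod [∀ V, (T.obj V).Additive] {x : X} {n : ℕ} {A B : C}
    (hA : GermZero T x n A) (hB : GermZero T x n B) : GermZero T x n (A ⊞ B) := by
  intro G V hxV a
  obtain ⟨W₁, hW₁, hxW₁, ha₁⟩ := hA G V hxV
    ((Ext.mk₀ ((T.obj V).map biprod.inl)).comp a (zero_add n))
  obtain ⟨W₂, hW₂, hxW₂, ha₂⟩ := hB G V hxV
    ((Ext.mk₀ ((T.obj V).map biprod.inr)).comp a (zero_add n))
  have hW : W₁ ⊓ W₂ ≤ V := inf_le_left.trans hW₁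
  refine ⟨W₁ ⊓ W₂, hW, ⟨hxW₁, hxW₂⟩, ?_⟩
  have k₁ := res_comp hW₁ (inf_le_left : W₁ ⊓ W₂ ≤ W₁) _ ha₁
  have k₂ := res_comp hW₂ (inf_le_right : W₁ ⊓ W₂ ≤ W₂) _ ha₂
  rw [Ext.mk₀_comp_mk₀_assoc, ← NatTrans.naturality, ← Ext.mk₀_comp_mk₀_assoc] at k₁ k₂
  set b := (Ext.mk₀ ((T.map (homOfLE hW)).app (A ⊞ B))).comp a (zero_add n) with hb
  have e : (𝟙 ((T.obj (W₁ ⊓ W₂)).obj (A ⊞ B))) =
      (T.obj (W₁ ⊓ W₂)).map biprod.fst ≫ (T.obj (W₁ ⊓ W₂)).map biprod.inl +
        (T.obj (W₁ ⊓ W₂)).map biprod.snd ≫ (T.obj (W₁ ⊓ W₂)).map biprod.inr := by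
    rw [← Functor.map_comp, ← Functor.map_comp, ← Functor.map_add, biprod.total, CategoryTheory.Functor.map_id]
  rw [← Ext.mk₀_id_comp b, e, Ext.mk₀_add, Ext.add_comp, ← Ext.mk₀_comp_mk₀_assoc,
    ← Ext.mk₀_comp_mk₀_assoc]
  rw [k₁, k₂, Ext.comp_zero, Ext.comp_zero, add_zero]

end Germ

end Groth.Agent.Models2.ExtMVAbs
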