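import Mathlib.Algebra.Homology.DerivedCategory.TStructure
import Mathlib.Algebra.Homology.DerivedCategory.HomologySequence
import Mathlib.Algebra.Homology.DerivedCategory.FullyFaithful
import Mathlib.Algebra.Homology.DerivedCategory.Ext.Basic

/-!
# Vanishing of morphisms in the derived category from vanishing of Ext

* `hom_single_eq_zero_iff`: all maps `F[0] ⟶ G[0]⟦n⟧` vanish iff `Ext F G n` is a subsingleton.
* `exists_truncation`: truncation triangles with their effect on cohomology.
* `hom_eq_zero`: if all maps `F[0] ⟶ G[0]⟦n⟧`, `n > d`, vanish for `F, G` satisfying `P`, then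
  all maps `K ⟶ L` vanish for `K` bounded in degrees `≥ a + d`, `L` bounded in degrees `≤ a - 1`,
  with cohomology objects satisfying `P`.
-/

universe w w' v u

open CategoryTheory CategoryTheory.Limits Pretriangulated Triangulated DerivedCategory

namespace Groth.Agent.Models2.ExtVan2

variable {C : Type u} [Category.{v} C] [Abelian C] [HasDerivedCategory.{w} C]

/-- (E): morphisms between single objects in the derived category and `Ext`. -/
theorem hom_single_eq_zero_iff [HasExt.{w'} C] (F G : C) (n : ℕ) :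
    (∀ φ : (singleFunctor C 0).obj F ⟶ (shiftFunctor (DerivedCategory C) (n : ℤ)).obj
      ((singleFunctor C 0).obj G), φ = 0) ↔ Subsingleton (Abelian.Ext.{w'} F G n) := by
  have e : Abelian.Ext.{w'} F G n ≃ ((singleFunctor C 0).obj F ⟶
    (shiftFunctor (DerivedCategory C) (n : ℤ)).obj ((singleFunctor C 0).obj G)) :=
    Abelian.Ext.homEquiv
  constructor
  · intro h
    exact ⟨fun a b => e.injective ((h _).trans (h _).symm)⟩
  · intro h φ
    have := e.symm.subsingleton
    exact Subsingleton.elim _ _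

/-- Truncation triangles with their effect on cohomology. -/
theorem exists_truncation (K : DerivedCategory C) (m : ℤ) :
    ∃ (Y Z : DerivedCategory C) (f : Y ⟶ K) (g : K ⟶ Z)
      (h : Z ⟶ (shiftFunctor (DerivedCategory C) (1 : ℤ)).obj Y),
      Triangle.mk f g h ∈ (distTriang (DerivedCategory C)) ∧ Y.IsLE m ∧ Z.IsGE (m + 1) ∧
      (∀ i : ℤ, i ≤ m → IsIso ((homologyFunctor C i).map f)) ∧
      (∀ i : ℤ, m < i → IsIso ((homologyFunctor C i).map g)) := by
  obtain ⟨Y, Z, hY, hZ, f, g, h, hT⟩ :=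
    (TStructure.t (C := C)).exists_triangle K m (m + 1) rfl
  have hY' : Y.IsLE m := ⟨hY⟩
  have hZ' : Z.IsGE (m + 1) := ⟨hZ⟩
  refine ⟨Y, Z, f, g, h, hT, hY', hZ', ?_, ?_⟩
  · intro i hi
    have h1 : IsZero ((homologyFunctor C i).obj Z) := Z.isZero_of_isGE (m + 1) i (by lia)
    have h2 : IsZero ((homologyFunctor C (i - 1)).obj Z) :=
      Z.isZero_of_isGE (m + 1) (i - 1) (by lia)
    have : Mono ((homologyFunctor C i).map f) :=
      (HomologySequence.mono_homologyMap_mor₁_iff _ hT (i - 1) i (by lia)).2 (h2.eq_of_src _ _)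
    have : Epi ((homologyFunctor C i).map f) :=
      (HomologySequence.epi_homologyMap_mor₁_iff _ hT i).2 (h1.eq_of_tgt _ _)
    exact isIso_of_mono_of_epi _
  · intro i hi
    have h1 : IsZero ((homologyFunctor C i).obj Y) := Y.isZero_of_isLE m i (by lia)
    have h2 : IsZero ((homologyFunctor C (i + 1)).obj Y) :=
      Y.isZero_of_isLE m (i + 1) (by lia)
    have : Mono ((homologyFunctor C i).map g) :=
      (HomologySequence.mono_homologyMap_mor₂_iff _ hT i).2 (h1.eq_of_src _ _)
    have : Epi ((homologyFunctor C i).map g) :=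
      (HomologySequence.epi_homologyMap_mor₂_iff _ hT i (i + 1) (by lia)).2 (h2.eq_of_tgt _ _)
    exact isIso_of_mono_of_epi _

/-- The condition that all maps vanish, transported along isomorphisms. -/
theorem hom_eq_zero_of_iso {D : Type*} [Category D] [HasZeroMorphisms D] {K L K' L' : D}
    (e : K ≅ K') (e' : L ≅ L') (h : ∀ φ : K ⟶ L, φ = 0) (φ : K' ⟶ L') : φ = 0 := by
  have := h (e.hom ≫ φ ≫ e'.inv)
  have h2 : φ = e.inv ≫ (e.hom ≫ φ ≫ e'.inv) ≫ e'.hom := by simp
  rw [h2, this]
  simp

theorem hom_shift_eq_zero {K L : DerivedCategory C} (n : ℤ)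
    (h : ∀ φ : (shiftFunctor (DerivedCategory C) n).obj K ⟶
      (shiftFunctor (DerivedCategory C) n).obj L, φ = 0) (φ : K ⟶ L) : φ = 0 := by
  apply (shiftFunctor (DerivedCategory C) n).map_injective
  rw [Functor.map_zero]
  exact h _

/-- Both objects concentrated in one degree. -/
theorem hom_eq_zero_pure (P : ObjectProperty C) [P.IsClosedUnderIsomorphisms] (d : ℤ)
    (h1 : ∀ F G : C, P F → P G → ∀ n : ℤ, d < n →
      ∀ φ : (singleFunctor C 0).obj F ⟶ (shiftFunctor (DerivedCategory C) n).obj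
        ((singleFunctor C 0).obj G), φ = 0)
    (K L : DerivedCategory C) (i j : ℤ) (hij : d < i - j) [K.IsGE i] [K.IsLE i]
    [L.IsGE j] [L.IsLE j] (hK : P ((homologyFunctor C i).obj K))
    (hL : P ((homologyFunctor C j).obj L)) (φ : K ⟶ L) : φ = 0 := by
  obtain ⟨F, ⟨eF⟩⟩ := K.exists_iso_singleFunctor_obj_of_isGE_of_isLE i
  obtain ⟨G, ⟨eG⟩⟩ := L.exists_iso_singleFunctor_obj_of_isGE_of_isLE j
  have hF : P F := P.prop_of_iso ((homologyFunctor C i).mapIso eF ≪≫
    (singleFunctorCompHomologyFunctorIso C i).app F) hK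
  have hG : P G := P.prop_of_iso ((homologyFunctor C j).mapIso eG ≪≫
    (singleFunctorCompHomologyFunctorIso C j).app G) hL
  refine hom_eq_zero_of_iso eF.symm eG.symm ?_ φ
  apply hom_shift_eq_zero i
  refine hom_eq_zero_of_iso (((singleFunctors C).shiftIso i 0 i (by simp)).app F).symm
    (?_ : _ ≅ _) (h1 F G hF hG (i - j) hij)
  refine ((shiftFunctor (DerivedCategory C) (i - j)).mapIso
    (((singleFunctors C).shiftIso j 0 j (by simp)).app G).symm) ≪≫ ?_
  exact ((shiftFunctorAdd' (DerivedCategory C) j (i - j) i (by lia)).app _).symm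

/-- First object concentrated in one degree. -/
theorem hom_eq_zero_pure_left (P : ObjectProperty C) [P.IsClosedUnderIsomorphisms] (d : ℤ)
    (h1 : ∀ F G : C, P F → P G → ∀ n : ℤ, d < n →
      ∀ φ : (singleFunctor C 0).obj F ⟶ (shiftFunctor (DerivedCategory C) n).obj
        ((singleFunctor C 0).obj G), φ = 0)
    (K : DerivedCategory C) (i b : ℤ) (hib : d < i - b) [K.IsGE i] [K.IsLE i]
    (hK : P ((homologyFunctor C i).obj K)) (k : ℕ) :
    ∀ (c : ℤ) (_ : b - c < k) (L : DerivedCategory C) [L.IsGE c] [L.IsLE b]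
      (_ : ∀ j : ℤ, c ≤ j → j ≤ b → P ((homologyFunctor C j).obj L)) (φ : K ⟶ L), φ = 0 := by
  induction k with
  | zero =>
    intro c hc L _ _ _ φ
    exact ((TStructure.t (C := C)).isZero L b c (by simpa using hc)).eq_of_tgt _ _
  | succ k ih =>
    intro c hc L _ _ hL φ
    by_cases hbc : b < c
    · exact ((TStructure.t (C := C)).isZero L b c hbc).eq_of_tgt _ _
    obtain ⟨Y, Z, f, g, h, hT, hY, hZ, hf, hg⟩ := exists_truncation L c
    have : Y.IsGE c := by
      rw [isGE_iff]
      intro j hj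
      have := hf j hj.le
      exact (L.isZero_of_isGE c j hj).of_iso (asIso ((homologyFunctor C j).map f))
    have : Z.IsLE b := by
      rw [isLE_iff]
      intro j hj
      have := hg j (by lia)
      exact (L.isZero_of_isLE b j hj).of_iso (asIso ((homologyFunctor C j).map g)).symm
    have hφg : φ ≫ g = 0 := by
      refine ih (c + 1) (by lia) Z ?_ (φ ≫ g)
      intro j hj hjb
      have := hg j (by lia)
      exact P.prop_of_iso (asIso ((homologyFunctor C j).map g)) (hL j (by lia) hjb)
    obtain ⟨ψ, hψ⟩ := Triangle.coyoneda_exact₂ _ hT φ hφg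
    have := hf c le_rfl
    have hψ0 : ψ = 0 := hom_eq_zero_pure P d h1 K Y i c (by lia) hK
      (P.prop_of_iso (asIso ((homologyFunctor C c).map f)).symm (hL c le_rfl (by lia))) ψ
    rw [hψ, hψ0, zero_comp]
    rfl

/-- (F): vanishing of morphisms between bounded objects from vanishing of `Ext`. -/
theorem hom_eq_zero_aux (P : ObjectProperty C) [P.IsClosedUnderIsomorphisms] (d : ℤ)
    (h1 : ∀ F G : C, P F → P G → ∀ n : ℤ, d < n →
      ∀ φ : (singleFunctor C 0).obj F ⟶ (shiftFunctor (DerivedCategory C) n).obj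
        ((singleFunctor C 0).obj G), φ = 0)
    (L : DerivedCategory C) (a c : ℤ) [L.IsGE c] [L.IsLE (a - 1)]
    (hL : ∀ j : ℤ, c ≤ j → j ≤ a - 1 → P ((homologyFunctor C j).obj L)) (e : ℤ) (k : ℕ) :
    ∀ (m : ℤ) (_ : a + d ≤ m) (_ : e - m < k) (K : DerivedCategory C) [K.IsGE m] [K.IsLE e]
      (_ : ∀ j : ℤ, m ≤ j → j ≤ e → P ((homologyFunctor C j).obj K)) (φ : K ⟶ L), φ = 0 := by
  induction k with
  | zero =>
    intro m _ hm K _ _ _ φ
    exact ((TStructure.t (C := C)).isZero K e m (by simpa using hm)).eq_of_src _ _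
  | succ k ih =>
    intro m hm hem K _ _ hK φ
    by_cases hbc : e < m
    · exact ((TStructure.t (C := C)).isZero K e m hbc).eq_of_src _ _
    obtain ⟨Y, Z, f, g, h, hT, hY, hZ, hf, hg⟩ := exists_truncation K m
    have : Y.IsGE m := by
      rw [isGE_iff]
      intro j hj
      have := hf j hj.le
      exact (K.isZero_of_isGE m j hj).of_iso (asIso ((homologyFunctor C j).map f))
    have : Z.IsLE e := by
      rw [isLE_iff]
      intro j hj
      have := hg j (by lia)
      exact (K.isZero_of_isLE e j hj).of_iso (asIso ((homologyFunctor C j).map g)).symm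
    have := hf m le_rfl
    have hfφ : f ≫ φ = 0 :=
      hom_eq_zero_pure_left P d h1 Y m (a - 1) (by lia)
        (P.prop_of_iso (asIso ((homologyFunctor C m).map f)).symm (hK m le_rfl (by lia)))
        (a - 1 - c + 1).toNat c (by lia) L hL (f ≫ φ)
    obtain ⟨ψ, hψ⟩ := Triangle.yoneda_exact₂ _ hT φ hfφ
    have hψ0 : ψ = 0 := by
      refine ih (m + 1) (by lia) (by lia) Z ?_ ψ
      intro j hj hjb
      have := hg j (by lia)
      exact P.prop_of_iso (asIso ((homologyFunctor C j).map g)) (hK j (by lia) hjb)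
    rw [hψ, hψ0, comp_zero]
    rfl

/-- (F): vanishing of morphisms between bounded objects from vanishing of `Ext`. -/
theorem hom_eq_zero (P : ObjectProperty C) [P.IsClosedUnderIsomorphisms] (d : ℤ)
    (h1 : ∀ F G : C, P F → P G → ∀ n : ℤ, d < n →
      ∀ φ : (singleFunctor C 0).obj F ⟶ (shiftFunctor (DerivedCategory C) n).obj
        ((singleFunctor C 0).obj G), φ = 0)
    (K L : DerivedCategory C) (a cK bL : ℤ)
    (hK : ∀ i : ℤ, P ((homologyFunctor C i).obj K)) (hL : ∀ i : ℤ, P ((homologyFunctor C i).obj L))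
    (hK1 : K.IsGE (a + d)) (hK2 : K.IsLE cK) (hL1 : L.IsGE bL) (hL2 : L.IsLE (a - 1))
    (φ : K ⟶ L) : φ = 0 :=
  hom_eq_zero_aux P d h1 L a bL (fun j _ _ => hL j) cK (cK - (a + d) + 1).toNat (a + d) le_rfl
    (by lia) K (fun j _ _ => hK j) φ

end Groth.Agent.Models2.ExtVan2
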