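import Groth.Agent.Models2.GermCoh
import Groth.Agent.Models2.ExtVan2
import Groth.Agent.Models2.CodimStalk
import Groth.Agent.PerfA.CohSerre
import Groth.Prelude.Def_DCoh2

/-!
# Vanishing of `Ext^n(F, G)` for `n > d` from local finite free resolutions
-/

set_option autoImplicit false

universe w u

open CategoryTheory CategoryTheory.Limits AlgebraicGeometry Opposite TopologicalSpace Abelian

namespace Groth.Agent.Models2.ExtVanReg

open Groth.Agent.Models2.ExtMVAbs Groth.Agent.Models2.FreeRes Groth.Agent.Models2.BrownGersten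
open Groth.Agent.Models2.TOpen Groth.Agent.Models2.CodimStalk
open Groth.Agent.PerfC.ExtZero

variable {X : Scheme.{u}}

/-- The vanishing theorem, from finite free resolutions of length `dim O_{X,x}` near `x`. -/
theorem subsingleton_ext [HasExt.{w} X.Modules] [IsNoetherian X] (d : ℕ)
    (hd : topologicalKrullDim X = d) (F G : X.Modules) (hF : Coh.IsQCoh F)
    (hres : ∀ x : X, ∃ (R : CommRingCat.{u}) (j : Spec R ⟶ X) (_ : IsOpenImmersion j),
      x ∈ j.opensRange ∧ FreeRes (codim X x) (moduleSpecΓFunctor.obj (F.restrict j)))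
    (n : ℕ) (hn : d < n) : Subsingleton (Ext F G n) := by
  have key : ∀ a : Ext ((TF ⊤).obj F) G n, a = 0 := by
    intro a
    let M : MVData X := mvDataExt (TOpen.Φ F) (isZero_Φ_bot F)
      (fun U V => mvSC_shortExact U V F) G
    obtain ⟨V, h, ha, hV⟩ := MVData.exists_open (M := M) (codim X)
      (fun x y hxy hyx => codim_lt X hxy hyx)
      (fun n x U hx a hxn => by
        obtain ⟨R, j, hj, hxj, hfree⟩ := hres x
        exact GermCoh.germZero_of_freeRes F hF j x hxj hfree n hxn G U hx a) n ⊤ a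
    obtain rfl : V = ⊤ := by
      rw [eq_top_iff]
      intro x _
      by_contra hx
      have h1 := hV x trivial hx
      have h2 := codim_le X hd x
      omega
    have h3 : (Ext.mk₀ ((TOpen.Φ F).map (homOfLE h))).comp a (zero_add n) = 0 := ha
    have h4 : (TOpen.Φ F).map (homOfLE h) = 𝟙 _ := (TOpen.Φ F).map_id _
    rw [h4, Ext.mk₀_id_comp] at h3
    exact h3
  refine ⟨fun a b => ?_⟩
  have key' : ∀ a : Ext F G n, a = 0 := by
    intro a
    have h1 := key ((Ext.mk₀ (isoTop F).hom).comp a (zero_add n))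
    have h2 : (Ext.mk₀ (isoTop F).inv).comp
        ((Ext.mk₀ (isoTop F).hom).comp a (zero_add n)) (zero_add n) = 0 := by
      rw [h1, Ext.comp_zero]
    rwa [Ext.mk₀_comp_mk₀_assoc, Iso.inv_hom_id, Ext.mk₀_id_comp] at h2
  rw [key' a, key' b]

attribute [local instance] HasDerivedCategory.standard

instance isClosedUnderIsomorphisms_isCoh :
    (show ObjectProperty X.Modules from Coh.IsCoh).IsClosedUnderIsomorphisms where
  of_iso e h := Groth.Agent.PerfA.CohSerre.isCoh_of_iso e h

theorem main [IsNoetherian X] (d : ℕ) (hd : topologicalKrullDim X = d)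
    (hres : ∀ (F : X.Modules), Coh.IsCoh F →
      ∀ x : X, ∃ (R : CommRingCat.{u}) (j : Spec R ⟶ X) (_ : IsOpenImmersion j),
      x ∈ j.opensRange ∧ FreeRes (codim X x) (moduleSpecΓFunctor.obj (F.restrict j))) :
    (∀ (F G : X.Modules), Coh.IsCoh F → Coh.IsCoh G → ∀ n : ℤ, (d : ℤ) < n →
        ∀ φ : DCoh.inD X F ⟶ (shiftFunctor (DCoh.D X) n).obj (DCoh.inD X G), φ = 0) ∧
      ∀ (K L : DCoh.D X) (a cK bL : ℤ), DCoh.IsCohD K → DCoh.IsCohD L →
        DerivedCategory.IsGE K (a + d) → DerivedCategory.IsLE K cK →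
        DerivedCategory.IsGE L bL → DerivedCategory.IsLE L (a - 1) →
        ∀ φ : K ⟶ L, φ = 0 := by
  have h1 : ∀ (F G : X.Modules), Coh.IsCoh F → Coh.IsCoh G → ∀ n : ℤ, (d : ℤ) < n →
        ∀ φ : (DerivedCategory.singleFunctor X.Modules 0).obj F ⟶
          (shiftFunctor (DerivedCategory X.Modules) n).obj
            ((DerivedCategory.singleFunctor X.Modules 0).obj G), φ = 0 := by
    intro F G hF hG n hn
    obtain ⟨n, rfl⟩ := Int.eq_ofNat_of_zero_le (show 0 ≤ n by omega)
    letI : HasExt.{u + 1} X.Modules := HasExt.standard _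
    rw [ExtVan2.hom_single_eq_zero_iff]
    exact subsingleton_ext d hd F G hF.1 (hres F hF) n (by omega)
  refine ⟨h1, ?_⟩
  intro K L a cK bL hK hL hK1 hK2 hL1 hL2 φ
  exact ExtVan2.hom_eq_zero (show ObjectProperty X.Modules from Coh.IsCoh) d h1 K L a cK bL
    hK hL hK1 hK2 hL1 hL2 φ

end Groth.Agent.Models2.ExtVanReg
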