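import Groth.Agent.Models2.FMExact
import Groth.Agent.Dcoh.LTMod
import Groth.Agent.Dcoh.MapDer
import Groth.Agent.Dcoh.DerHo
import Groth.Agent.PerfB.StalkKFlat

/-!
# `Lf^* M ⊗^L K` for `K` flat over the base
-/

set_option autoImplicit false
universe u
open CategoryTheory CategoryTheory.Limits AlgebraicGeometry
attribute [local instance] HasDerivedCategory.standard

namespace Groth.Agent.Models2.FMFlat

open Groth.Agent.Dcoh Groth.Agent.Models2.FMExact

variable {X Z : Scheme.{u}} (f : Z ⟶ X)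

/-- Termwise pullback preserves quasi-isomorphisms between K-flat complexes. -/
theorem quasiIso_pullback {P Q : CochainComplex X.Modules ℤ} (α : P ⟶ Q) (hP : DCoh.IsKFlat P)
    (hQ : DCoh.IsKFlat Q) (hα : QuasiIso α) :
    QuasiIso (((Scheme.Modules.pullback f).mapHomologicalComplex (ComplexShape.up ℤ)).map α) :=
  DerHo.quasiIso_map_of_acyclic (Scheme.Modules.pullback f)
    (fun K : CochainComplex X.Modules ℤ => DCoh.IsKFlat K)
    (fun f hK hL => (Groth.Agent.S0951.result f).1 hK hL)
    (fun K hK hK2 => Groth.Agent.PerfB.StalkKFlat.acyclic_pullback f K hK hK2) α hP hQ hα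

/-- K-flat complexes are adapted to `f^*`. -/
theorem adapted_pullback :
    LDer.Adapted (Scheme.Modules.pullback f) (fun K => DCoh.IsKFlat K) where
  exists_res K := by
    obtain ⟨K', q, h1, -, h2, -⟩ := Groth.Agent.S0955.result K
    exact ⟨K', q, h1, h2⟩
  inverts _ _ g hK hL hg := quasiIso_pullback f g hK hL hg
  cone _ _ g hK hL := (Groth.Agent.S0951.result g).1 hK hL

variable (K : Z.Modules)

/-- `Lf^* M ⊗^L K` is computed by the exact functor `f^* M ⊗ K` if `K` is flat over the base. -/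
theorem nonempty_iso (hK : FlatMod.IsFlatOver f K) [DCoh.HasLpull f] [DCoh.HasLTensorMod K]
    (M : DCoh.D X) :
    haveI := preservesFiniteLimits_G f K hK
    Nonempty ((DCoh.LTensorMod K).obj ((DCoh.Lpull f).obj M) ≅
      (G f K).mapDerivedCategory.obj M) := by
  have := preservesFiniteLimits_G f K hK
  obtain ⟨P, hP, ⟨e⟩⟩ := LDer.exists_iso (adapted_pullback f) M
  have hP' := Groth.Agent.PerfB.StalkKFlat.isKFlat_pullback f P hP
  have i1 : (DCoh.Lpull f).obj (DerivedCategory.Q.obj P) ≅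
      DerivedCategory.Q.obj
        (((Scheme.Modules.pullback f).mapHomologicalComplex (ComplexShape.up ℤ)).obj P) :=
    LDer.isoQ (adapted_pullback f) (DCoh.Lpull f) ((DCoh.pullKh f).totalLeftDerivedCounit
      DerivedCategory.Qh (HomotopyCategory.quasiIso X.Modules (ComplexShape.up ℤ))) hP
  exact ⟨(DCoh.LTensorMod K).mapIso ((DCoh.Lpull f).mapIso e.symm ≪≫ i1) ≪≫
    LTMod.isoQ K hP' ≪≫ ((G f K).mapDerivedCategoryFactors.symm.app P) ≪≫
      (G f K).mapDerivedCategory.mapIso e⟩

/-- The cohomology of `Lf^* M ⊗^L K`. -/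
theorem nonempty_homologyIso (hK : FlatMod.IsFlatOver f K) [DCoh.HasLpull f]
    [DCoh.HasLTensorMod K] (M : DCoh.D X) (i : ℤ) :
    Nonempty (DCoh.HD ((DCoh.LTensorMod K).obj ((DCoh.Lpull f).obj M)) i ≅
      (G f K).obj (DCoh.HD M i)) := by
  have := preservesFiniteLimits_G f K hK
  obtain ⟨e⟩ := nonempty_iso f K hK M
  exact ⟨(DerivedCategory.homologyFunctor _ i).mapIso e ≪≫
    MapDer.homologyMapDerApp (G f K) i M⟩

end Groth.Agent.Models2.FMFlat
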