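import Groth.Agent.PerfB.FiberBC
import Groth.Agent.S0034
import Groth.Agent.FormalA.PullbackQC
import Mathlib.AlgebraicGeometry.Fiber

/-!
# Vanishing of the cohomology of fibres and base change
-/

set_option autoImplicit false

universe u

open CategoryTheory CategoryTheory.Limits AlgebraicGeometry TopologicalSpace

namespace Groth.Agent.Models2.HHFiber

open Groth.Agent.PerfB.FiberBC

theorem subsingleton_tensor_iff {K L V : Type u} [Field K] [Field L] [Algebra K L] [AddCommGroup V]
    [Module K V] : Subsingleton (TensorProduct K L V) ↔ Subsingleton V := by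
  constructor
  · intro h
    exact (Module.FaithfullyFlat.lTensor_reflects_triviality K L V)
  · intro h
    infer_instance

theorem subsingleton_HH_iff_of_iso {X : Scheme.{u}} {M N : X.Modules} (e : M ≅ N) (p : ℕ) :
    Subsingleton (Coh.HH X M p) ↔ Subsingleton (Coh.HH X N p) :=
  (isoΓ e p).toEquiv.subsingleton_congr

/-- Field extensions. -/
theorem field_ext {K K' : Type u} [Field K] [Field K'] (φ : K →+* K') {X X' : Scheme.{u}}
    (f : X ⟶ Spec (CommRingCat.of K)) (f' : X' ⟶ Spec (CommRingCat.of K')) (g : X' ⟶ X)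
    (h : IsPullback g f' f (Spec.map (CommRingCat.ofHom φ))) [QuasiCompact f] [QuasiSeparated f]
    (F : X.Modules) (hF : Coh.IsQCoh F) (F' : X'.Modules) (e : (Scheme.Modules.pullback g).obj F ≅ F')
    (p : ℕ) : Subsingleton (Coh.HH X' F' p) ↔ Subsingleton (Coh.HH X F p) := by
  let _ : X.Over (Spec (CommRingCat.of K)) := ⟨f⟩
  let _ : X'.Over (Spec (CommRingCat.of K')) := ⟨f'⟩
  let _ : Algebra K K' := φ.toAlgebra
  have h1 : CompactSpace X := QuasiCompact.compactSpace_of_compactSpace f
  have h2 : QuasiSeparatedSpace X := quasiSeparatedSpace_of_quasiSeparated f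
  obtain ⟨e₁⟩ := Groth.Agent.S0034.result K K' X X' g h F p
  rw [← subsingleton_HH_iff_of_iso e p, ← e₁.toEquiv.subsingleton_congr]
  exact subsingleton_tensor_iff

/-- The pullback to a field-valued point of the base, compared with the fibre. -/
theorem field_point {X S : Scheme.{u}} (f : X ⟶ S) [QuasiCompact f] [QuasiSeparated f]
    {K : Type u} [Field K] (g : Spec (CommRingCat.of K) ⟶ S) (s : S)
    (hs : g (IsLocalRing.closedPoint K) = s) {X' : Scheme.{u}} (g' : X' ⟶ X)
    (f' : X' ⟶ Spec (CommRingCat.of K)) (h : IsPullback g' f' f g) (F : X.Modules)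
    (hF : Coh.IsQCoh F) (F' : X'.Modules) (e : (Scheme.Modules.pullback g').obj F ≅ F') (p : ℕ) :
    Subsingleton (Coh.HH X' F' p) ↔
      Subsingleton (Coh.HH (f.fiber s) ((Scheme.Modules.pullback (f.fiberι s)).obj F) p) := by
  subst hs
  have hg := Scheme.descResidueField_stalkClosedPointTo_fromSpecResidueField K S g
  set t := Spec.map (S.descResidueField (Scheme.stalkClosedPointTo g)) with ht
  let r : X' ⟶ f.fiber (g (IsLocalRing.closedPoint K)) :=
    pullback.lift g' (f' ≫ t) (by rw [Category.assoc, hg]; exact h.w)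
  have hr1 : r ≫ f.fiberι _ = g' := pullback.lift_fst _ _ _
  have hr2 : r ≫ f.fiberToSpecResidueField _ = f' ≫ t := pullback.lift_snd _ _ _
  have hsq : IsPullback r f' (f.fiberToSpecResidueField _) t := by
    have h2 : IsPullback (f.fiberι (g (IsLocalRing.closedPoint K)))
        (f.fiberToSpecResidueField _) f (S.fromSpecResidueField _) :=
      IsPullback.of_hasPullback f (S.fromSpecResidueField _)
    have h1 : IsPullback (r ≫ f.fiberι _) f' f (t ≫ S.fromSpecResidueField _) := by
      rw [hr1, hg]
      exact h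
    exact IsPullback.of_right h1 hr2 h2
  have hqc : QuasiCompact (f.fiberToSpecResidueField (g (IsLocalRing.closedPoint K))) :=
    inferInstanceAs (QuasiCompact (pullback.snd f (S.fromSpecResidueField _)))
  have hqs : QuasiSeparated (f.fiberToSpecResidueField (g (IsLocalRing.closedPoint K))) :=
    inferInstanceAs (QuasiSeparated (pullback.snd f (S.fromSpecResidueField _)))
  refine field_ext (S.descResidueField (Scheme.stalkClosedPointTo g)).hom
    (f.fiberToSpecResidueField (g (IsLocalRing.closedPoint K))) f' r hsq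
    ((Scheme.Modules.pullback (f.fiberι _)).obj F)
    (FormalA.PullbackQC.isQCoh_pullback (f.fiberι _) F hF) F'
    ((Scheme.Modules.pullbackComp r (f.fiberι _)).app F ≪≫
      (Scheme.Modules.pullbackCongr hr1).app F ≪≫ e) p

/-- Vanishing of the cohomology of fibres is invariant under arbitrary base change. -/
theorem fiber_iff {X' X T S : Scheme.{u}} {g' : X' ⟶ X} {f' : X' ⟶ T} {f : X ⟶ S} {g : T ⟶ S}
    (h : IsPullback g' f' f g) [QuasiCompact f] [QuasiSeparated f] (F : X.Modules)
    (hF : Coh.IsQCoh F) (F' : X'.Modules) (e : (Scheme.Modules.pullback g').obj F ≅ F') (t : T)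
    (s : S) (hs : g t = s) (p : ℕ) :
    Subsingleton (Coh.HH (f'.fiber t) ((Scheme.Modules.pullback (f'.fiberι t)).obj F') p) ↔
      Subsingleton (Coh.HH (f.fiber s) ((Scheme.Modules.pullback (f.fiberι s)).obj F) p) := by
  have h1 : IsPullback (f'.fiberι t ≫ g') (f'.fiberToSpecResidueField t) f
      (T.fromSpecResidueField t ≫ g) :=
    ((IsPullback.of_hasPullback f' (T.fromSpecResidueField t)).flip.paste_vert h.flip).flip
  have hs' : (T.fromSpecResidueField t ≫ g) (IsLocalRing.closedPoint (T.residueField t)) = s := by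
    rw [Scheme.Hom.comp_apply, Scheme.fromSpecResidueField_apply]
    exact hs
  exact field_point f (K := T.residueField t) (T.fromSpecResidueField t ≫ g) s hs'
    (f'.fiberι t ≫ g') (f'.fiberToSpecResidueField t) h1 F hF _
    ((Scheme.Modules.pullbackComp (f'.fiberι t) g').symm.app F ≪≫
      (Scheme.Modules.pullback (f'.fiberι t)).mapIso e) p

end Groth.Agent.Models2.HHFiber
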