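import Mathlib.AlgebraicGeometry.Modules.Tilde
import Mathlib.AlgebraicGeometry.Morphisms.QuasiCompact

/-!
# Linear maps between sections over small opens

For `O_X`-modules `F`, `G` and an open `U`, `LHom F G U` is the type of homomorphisms
`F|_U → G|_U`, described by their action on sections over opens contained in `U`.
-/

set_option autoImplicit false
universe u
open CategoryTheory AlgebraicGeometry Limits TopologicalSpace

namespace Groth.Agent.Models2.LocHom

open AlgebraicGeometry.Scheme.Modules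

noncomputable section

variable {X : Scheme.{u}}

/-- Homomorphisms `F|_U → G|_U`, described by their action on sections over opens contained in
`U`. -/
@[ext]
structure LHom (F G : X.Modules) (U : X.Opens) where
  /-- the action on sections -/
  app : ∀ W : X.Opens, W ≤ U → (Γ(F, W) →+ Γ(G, W))
  nat : ∀ (W W' : X.Opens) (h : W' ≤ W) (hW : W ≤ U) (x : Γ(F, W)),
    app W' (h.trans hW) (F.presheaf.map (homOfLE h).op x) =
      G.presheaf.map (homOfLE h).op (app W hW x)
  smul : ∀ (W : X.Opens) (hW : W ≤ U) (r : Γ(X, W)) (x : Γ(F, W)),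
    app W hW (r • x) = r • app W hW x

variable {F G H : X.Modules}

lemma map_map_apply (G : X.Modules) {U V W : X.Opens} (h : U ≤ V) (h' : V ≤ W) (x : Γ(G, W)) :
    G.presheaf.map (homOfLE h).op (G.presheaf.map (homOfLE h').op x) =
      G.presheaf.map (homOfLE (h.trans h')).op x := by
  rw [← ConcreteCategory.comp_apply, ← Functor.map_comp]
  rfl

lemma map_id_apply (G : X.Modules) {U : X.Opens} (h : U ≤ U) (x : Γ(G, U)) :
    G.presheaf.map (homOfLE h).op x = x := by
  have : (homOfLE h).op = 𝟙 (Opposite.op U) := rfl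
  rw [this, CategoryTheory.Functor.map_id]
  rfl

lemma hom_naturality_apply (φ : F ⟶ G) {U V : X.Opens} (h : U ≤ V) (x : Γ(F, V)) :
    φ.app U (F.presheaf.map (homOfLE h).op x) = G.presheaf.map (homOfLE h).op (φ.app V x) :=
  congr($(φ.mapPresheaf.naturality (homOfLE h).op) x)

/-- Glueing two sections of an `O_X`-module. -/
lemma existsUnique_glue_two (G : X.Modules) {V₁ V₂ W : X.Opens} (h₁ : V₁ ≤ W) (h₂ : V₂ ≤ W)
    (hW : W ≤ V₁ ⊔ V₂) (a : Γ(G, V₁)) (b : Γ(G, V₂))
    (hab : G.presheaf.map (homOfLE (show V₁ ⊓ V₂ ≤ V₁ from inf_le_left)).op a =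
      G.presheaf.map (homOfLE (show V₁ ⊓ V₂ ≤ V₂ from inf_le_right)).op b) :
    ∃! y : Γ(G, W), G.presheaf.map (homOfLE h₁).op y = a ∧
      G.presheaf.map (homOfLE h₂).op y = b := by
  let U : Bool → X.Opens := fun t ↦ cond t V₁ V₂
  let sf : ∀ i, Γ(G, U i) := fun t ↦ match t with
    | true => a
    | false => b
  have hU : ∀ t, U t ≤ W := fun t ↦ by cases t <;> assumption
  have hsup : W ≤ iSup U := hW.trans (sup_le (le_iSup U true) (le_iSup U false))
  obtain ⟨y, hy, hy'⟩ := TopCat.Sheaf.existsUnique_gluing' ⟨_, G.isSheaf⟩ U W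
    (fun t ↦ homOfLE (hU t)) hsup sf (by
      rintro (_ | _) (_ | _)
      · rfl
      · have := congrArg (G.presheaf.map (homOfLE (show V₂ ⊓ V₁ ≤ V₁ ⊓ V₂ from inf_comm .. |>.le)).op) hab
        rw [map_map_apply, map_map_apply] at this
        exact this.symm
      · exact hab
      · rfl)
  refine ⟨y, ⟨hy true, hy false⟩, fun z hz ↦ hy' z ?_⟩
  rintro (_ | _)
  · exact hz.2
  · exact hz.1

namespace LHom

/-- Restriction to a smaller open. -/
def res {U : X.Opens} (φ : LHom F G U) {V : X.Opens} (h : V ≤ U) : LHom F G V where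
  app W hW := φ.app W (hW.trans h)
  nat W W' h' hW x := φ.nat W W' h' (hW.trans h) x
  smul W hW r x := φ.smul W (hW.trans h) r x

/-- Composition with a homomorphism. -/
def comp {U : X.Opens} (φ : LHom F G U) (g : G ⟶ H) : LHom F H U where
  app W hW := (g.app W).hom.comp (φ.app W hW)
  nat W W' h' hW x :=
    (congrArg (g.app W') (φ.nat W W' h' hW x)).trans (hom_naturality_apply g h' _)
  smul W hW r x := (congrArg (g.app W) (φ.smul W hW r x)).trans (Hom.app_smul g r _)

@[simp] lemma res_app {U : X.Opens} (φ : LHom F G U) {V : X.Opens} (h : V ≤ U) (W : X.Opens)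
    (hW : W ≤ V) (x : Γ(F, W)) : (φ.res h).app W hW x = φ.app W (hW.trans h) x := rfl

@[simp] lemma comp_app {U : X.Opens} (φ : LHom F G U) (g : G ⟶ H) (W : X.Opens)
    (hW : W ≤ U) (x : Γ(F, W)) : (φ.comp g).app W hW x = g.app W (φ.app W hW x) := rfl

lemma res_comp {U : X.Opens} (φ : LHom F G U) {V : X.Opens} (h : V ≤ U) (g : G ⟶ H) :
    (φ.comp g).res h = (φ.res h).comp g := rfl

lemma comp_comp {U : X.Opens} {K : X.Modules} (φ : LHom F G U) (g : G ⟶ H) (h : H ⟶ K) :
    (φ.comp g).comp h = φ.comp (g ≫ h) := rfl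

lemma ext_apply {U : X.Opens} {φ ψ : LHom F G U}
    (h : ∀ W hW x, φ.app W hW x = ψ.app W hW x) : φ = ψ :=
  LHom.ext (by ext W hW x; exact h W hW x)

/-- A global homomorphism restricts to every open. -/
def ofHom (φ : F ⟶ G) (U : X.Opens) : LHom F G U where
  app W _ := (φ.app W).hom
  nat _ _ h _ x := hom_naturality_apply φ h x
  smul _ _ r x := Hom.app_smul φ r x

@[simp] lemma ofHom_app (φ : F ⟶ G) (U W : X.Opens) (h : W ≤ U) (x : Γ(F, W)) :
    (ofHom φ U).app W h x = φ.app W x := rfl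

/-- An element of `LHom F G U` induces a homomorphism between restrictions. -/
def toRestrict {U : X.Opens} (φ : LHom F G U) {Y : Scheme.{u}} (f : Y ⟶ X) [IsOpenImmersion f]
    (hf : ∀ W : Y.Opens, f ''ᵁ W ≤ U) : F.restrict f ⟶ G.restrict f where
  val := PresheafOfModules.homMk
    { app := fun W ↦ AddCommGrpCat.ofHom (φ.app (f ''ᵁ W.unop) (hf W.unop))
      naturality := fun W W' i ↦ by
        ext x
        exact φ.nat (f ''ᵁ W.unop) (f ''ᵁ W'.unop) (f.image_mono i.unop.le) _ x }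
    (fun W r x ↦ φ.smul (f ''ᵁ W.unop) (hf W.unop) ((f.appIso W.unop).inv r) x)

lemma toRestrict_app {U : X.Opens} (φ : LHom F G U) {Y : Scheme.{u}} (f : Y ⟶ X)
    [IsOpenImmersion f] (hf : ∀ W : Y.Opens, f ''ᵁ W ≤ U) (W : Y.Opens)
    (x : Γ(F.restrict f, W)) :
    (φ.toRestrict f hf).app W x = φ.app (f ''ᵁ W) (hf W) x := rfl

lemma restrict_app_smul {Y : Scheme.{u}} (f : Y ⟶ X) [IsOpenImmersion f]
    (φ : F.restrict f ⟶ G.restrict f) (V : Y.Opens) (s : Γ(X, f ''ᵁ V)) (x : Γ(F, f ''ᵁ V)) :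
    (show Γ(G, f ''ᵁ V) from φ.app V (s • x)) = s • (show Γ(G, f ''ᵁ V) from φ.app V x) := by
  have h := Hom.app_smul φ ((f.appIso V).hom s) (show Γ(F.restrict f, V) from x)
  have h1 : ((f.appIso V).hom s • (show Γ(F.restrict f, V) from x)) =
      (show Γ(F.restrict f, V) from (s • x : Γ(F, f ''ᵁ V))) := by
    change (f.appIso V).inv ((f.appIso V).hom s) • x = _
    rw [Iso.hom_inv_id_apply]
  have h2 : ((f.appIso V).hom s • (show Γ(G.restrict f, V) from φ.app V x)) =
      (s • (show Γ(G, f ''ᵁ V) from φ.app V x) : Γ(G, f ''ᵁ V)) := by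
    change (f.appIso V).inv ((f.appIso V).hom s) • (show Γ(G, f ''ᵁ V) from φ.app V x) = _
    rw [Iso.hom_inv_id_apply]
  rw [h1] at h
  exact h.trans h2

/-- A homomorphism of restrictions along an open immersion `f` induces an element of
`LHom F G f.opensRange`. -/
def ofRestrict {Y : Scheme.{u}} (f : Y ⟶ X) [IsOpenImmersion f]
    (φ : F.restrict f ⟶ G.restrict f) (U : X.Opens) (hU : U ≤ f.opensRange) :
    LHom F G U where
  app W hW := (F.presheaf.map (homOfLE (f.image_preimage_le W)).op ≫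
    φ.app (f ⁻¹ᵁ W) ≫ G.presheaf.map (homOfLE (show W ≤ f ''ᵁ f ⁻¹ᵁ W by
      rw [f.image_preimage_eq_opensRange_inf]; exact le_inf (hW.trans hU) le_rfl)).op).hom
  nat W W' h' hW x := by
    change G.presheaf.map _ (φ.app (f ⁻¹ᵁ W') (F.presheaf.map _ _)) =
      G.presheaf.map _ (G.presheaf.map _ (φ.app (f ⁻¹ᵁ W) (F.presheaf.map _ x)))
    rw [map_map_apply, map_map_apply]
    have h1 := hom_naturality_apply φ (f.preimage_mono h')
      (F.presheaf.map (homOfLE (f.image_preimage_le W)).op x)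
    have h2 : (F.restrict f).presheaf.map (homOfLE (f.preimage_mono h')).op
      (F.presheaf.map (homOfLE (f.image_preimage_le W)).op x) =
      F.presheaf.map (homOfLE ((f.image_preimage_le W').trans h')).op x :=
      map_map_apply F (f.image_mono (f.preimage_mono h')) (f.image_preimage_le W) x
    rw [h2] at h1
    refine (congrArg _ h1).trans ?_
    exact map_map_apply G _ (f.image_mono (f.preimage_mono h')) _
  smul W hW r x := by
    change G.presheaf.map _ (φ.app (f ⁻¹ᵁ W) (F.presheaf.map _ _)) =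
      r • G.presheaf.map _ (φ.app (f ⁻¹ᵁ W) (F.presheaf.map _ x))
    rw [map_smul]
    have h3 := restrict_app_smul f φ (f ⁻¹ᵁ W)
      (X.presheaf.map (homOfLE (f.image_preimage_le W)).op r)
      (F.presheaf.map (homOfLE (f.image_preimage_le W)).op x)
    refine (congrArg _ h3).trans ?_
    refine (map_smul (M := G) _ _ _).trans ?_
    congr 1
    rw [← ConcreteCategory.comp_apply, ← Functor.map_comp, ← op_comp, homOfLE_comp]
    have : (homOfLE (le_refl W)).op = 𝟙 (Opposite.op W) := rfl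
    rw [this, CategoryTheory.Functor.map_id]
    rfl

lemma ofRestrict_app {Y : Scheme.{u}} (f : Y ⟶ X) [IsOpenImmersion f]
    (φ : F.restrict f ⟶ G.restrict f) (U : X.Opens) (hU : U ≤ f.opensRange) (W : X.Opens)
    (hW : W ≤ U) (x : Γ(F, W)) :
    (ofRestrict f φ U hU).app W hW x = G.presheaf.map (homOfLE (show W ≤ f ''ᵁ f ⁻¹ᵁ W by
      rw [f.image_preimage_eq_opensRange_inf]; exact le_inf (hW.trans hU) le_rfl)).op
        (φ.app (f ⁻¹ᵁ W) (F.presheaf.map (homOfLE (f.image_preimage_le W)).op x)) := rfl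

lemma ofRestrict_toRestrict {U : X.Opens} (φ : LHom F G U) {Y : Scheme.{u}} (f : Y ⟶ X)
    [IsOpenImmersion f] (hf : ∀ W : Y.Opens, f ''ᵁ W ≤ U) (hU : U ≤ f.opensRange) :
    ofRestrict f (φ.toRestrict f hf) U hU = φ := by
  refine ext_apply fun W hW x ↦ ?_
  rw [ofRestrict_app, toRestrict_app, ← φ.nat, map_map_apply, map_id_apply]

lemma toRestrict_comp {U : X.Opens} (φ : LHom F G U) {Y : Scheme.{u}} (f : Y ⟶ X)
    [IsOpenImmersion f] (hf : ∀ W : Y.Opens, f ''ᵁ W ≤ U) (g : G ⟶ H) :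
    (φ.comp g).toRestrict f hf = φ.toRestrict f hf ≫ (restrictFunctor f).map g := rfl

lemma ofRestrict_comp {Y : Scheme.{u}} (f : Y ⟶ X) [IsOpenImmersion f]
    (φ : F.restrict f ⟶ G.restrict f) (U : X.Opens) (hU : U ≤ f.opensRange) (g : G ⟶ H) :
    ofRestrict f (φ ≫ (restrictFunctor f).map g) U hU = (ofRestrict f φ U hU).comp g := by
  refine ext_apply fun W hW x ↦ ?_
  rw [ofRestrict_app, comp_app, ofRestrict_app]
  exact (hom_naturality_apply g _ _).symm

/-- Two local homomorphisms agree on an open `V`. -/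
def Agree {U U' : X.Opens} (φ : LHom F G U) (φ' : LHom F G U') (V : X.Opens) : Prop :=
  ∀ (W : X.Opens), W ≤ V → ∀ (h : W ≤ U) (h' : W ≤ U') (x : Γ(F, W)), φ.app W h x = φ'.app W h' x

lemma Agree.eq {U : X.Opens} {φ φ' : LHom F G U} (h : Agree φ φ' U) : φ = φ' :=
  ext_apply fun W hW x ↦ h W hW hW hW x

lemma Agree.comp {U U' : X.Opens} {φ : LHom F G U} {φ' : LHom F G U'} {V : X.Opens}
    (h : Agree φ φ' V) (g : G ⟶ H) : Agree (φ.comp g) (φ'.comp g) V :=
  fun W hW hU hU' x ↦ congrArg (g.app W) (h W hW hU hU' x)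

lemma Agree.of_res {U U' : X.Opens} {φ : LHom F G U} {φ' : LHom F G U'} {V : X.Opens}
    {hV : V ≤ U} {hV' : V ≤ U'} (h : φ.res hV = φ'.res hV') : Agree φ φ' V :=
  fun W hW _ _ x ↦ congr(($h).app W hW x)

lemma Agree.mono {U U' : X.Opens} {φ : LHom F G U} {φ' : LHom F G U'} {V V' : X.Opens}
    (h : Agree φ φ' V) (hV : V' ≤ V) : Agree φ φ' V' :=
  fun W hW => h W (hW.trans hV)

lemma Agree.sup {U U' : X.Opens} {φ : LHom F G U} {φ' : LHom F G U'} {V V' : X.Opens}
    (h : Agree φ φ' V) (h' : Agree φ φ' V') : Agree φ φ' (V ⊔ V') := by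
  intro W hW hU hU' x
  refine TopCat.Sheaf.eq_of_locally_eq₂ ⟨_, G.isSheaf⟩ (homOfLE (show W ⊓ V ≤ W from inf_le_left))
    (homOfLE (show W ⊓ V' ≤ W from inf_le_left)) ?_ _ _ ?_ ?_
  · rw [← inf_sup_left]; exact le_inf le_rfl hW
  · refine (φ.nat W (W ⊓ V) inf_le_left hU x).symm.trans (Eq.trans ?_
      (φ'.nat W (W ⊓ V) inf_le_left hU' x))
    exact h (W ⊓ V) inf_le_right _ _ _
  · refine (φ.nat W (W ⊓ V') inf_le_left hU x).symm.trans (Eq.trans ?_
      (φ'.nat W (W ⊓ V') inf_le_left hU' x))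
    exact h' (W ⊓ V') inf_le_right _ _ _

lemma Agree.bot {U U' : X.Opens} (φ : LHom F G U) (φ' : LHom F G U') : Agree φ φ' ⊥ := by
  intro W hW hU hU' x
  refine TopCat.Sheaf.eq_of_locally_eq' ⟨_, G.isSheaf⟩ (ι := PEmpty.{u + 1}) (fun i ↦ i.elim) W
    (fun i ↦ i.elim) (hW.trans bot_le) _ _ (fun i ↦ i.elim)

/-- Glueing of two local homomorphisms. -/
theorem exists_glue {U U' : X.Opens} (φ : LHom F G U) (φ' : LHom F G U')
    (h : Agree φ φ' (U ⊓ U')) :
    ∃ Φ : LHom F G (U ⊔ U'), Φ.res le_sup_left = φ ∧ Φ.res le_sup_right = φ' := by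
  have key (W : X.Opens) (hW : W ≤ U ⊔ U') (x : Γ(F, W)) : ∃! y : Γ(G, W),
      G.presheaf.map (homOfLE (show W ⊓ U ≤ W from inf_le_left)).op y =
        φ.app (W ⊓ U) inf_le_right (F.presheaf.map (homOfLE inf_le_left).op x) ∧
      G.presheaf.map (homOfLE (show W ⊓ U' ≤ W from inf_le_left)).op y =
        φ'.app (W ⊓ U') inf_le_right (F.presheaf.map (homOfLE inf_le_left).op x) := by
    refine existsUnique_glue_two G _ _ ?_ _ _ ?_
    · rw [← inf_sup_left]; exact le_inf le_rfl hW
    · rw [← φ.nat, ← φ'.nat, map_map_apply, map_map_apply]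
      exact h _ (inf_le_inf inf_le_right inf_le_right) _ _ _
  choose g hg hg' using key
  have hgU (W : X.Opens) (hW : W ≤ U ⊔ U') (x : Γ(F, W)) (V : X.Opens) (hV : V ≤ W) (hVU : V ≤ U) :
      G.presheaf.map (homOfLE hV).op (g W hW x) =
        φ.app V hVU (F.presheaf.map (homOfLE hV).op x) := by
    have := congrArg (G.presheaf.map (homOfLE (le_inf hV hVU)).op) (hg W hW x).1
    rw [map_map_apply, ← φ.nat, map_map_apply] at this
    exact this
  have hgU' (W : X.Opens) (hW : W ≤ U ⊔ U') (x : Γ(F, W)) (V : X.Opens) (hV : V ≤ W)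
      (hVU : V ≤ U') :
      G.presheaf.map (homOfLE hV).op (g W hW x) =
        φ'.app V hVU (F.presheaf.map (homOfLE hV).op x) := by
    have := congrArg (G.presheaf.map (homOfLE (le_inf hV hVU)).op) (hg W hW x).2
    rw [map_map_apply, ← φ'.nat, map_map_apply] at this
    exact this
  refine ⟨⟨fun W hW ↦ AddMonoidHom.mk' (g W hW) fun x y ↦ (hg' W hW _ _ ?_).symm, ?_, ?_⟩, ?_, ?_⟩
  · simp only [map_add, (hg W hW x).1, (hg W hW y).1, (hg W hW x).2, (hg W hW y).2, and_self]
  · intro W W' h' hW x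
    refine (hg' W' _ _ _ ⟨?_, ?_⟩).symm
    · rw [map_map_apply, map_map_apply]
      exact hgU W hW x _ _ _
    · rw [map_map_apply, map_map_apply]
      exact hgU' W hW x _ _ _
  · intro W hW r x
    refine (hg' W hW _ _ ⟨?_, ?_⟩).symm
    · rw [map_smul, map_smul, φ.smul]
      exact congrArg _ (hg W hW x).1
    · rw [map_smul, map_smul, φ'.smul]
      exact congrArg _ (hg W hW x).2
  · refine ext_apply fun W hW x ↦ ?_
    have := hgU W (hW.trans le_sup_left) x W le_rfl hW
    rw [map_id_apply, map_id_apply] at this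
    exact this
  · refine ext_apply fun W hW x ↦ ?_
    have := hgU' W (hW.trans le_sup_right) x W le_rfl hW
    rw [map_id_apply, map_id_apply] at this
    exact this

/-- A local homomorphism on the whole space is a homomorphism. -/
def toHom (φ : LHom F G ⊤) : F ⟶ G where
  val := PresheafOfModules.homMk
    { app := fun W ↦ AddCommGrpCat.ofHom (φ.app W.unop le_top)
      naturality := fun W W' i ↦ by
        ext x
        exact φ.nat W.unop W'.unop i.unop.le _ x }
    (fun W r x ↦ φ.smul W.unop le_top r x)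

@[simp] lemma toHom_app (φ : LHom F G ⊤) (W : X.Opens) (x : Γ(F, W)) :
    φ.toHom.app W x = φ.app W le_top x := rfl

end LHom

end

end Groth.Agent.Models2.LocHom
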