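import Mathlib.Algebra.Category.ModuleCat.Colimits
import Mathlib.Algebra.Category.ModuleCat.FilteredColimits
import Mathlib.Algebra.Module.FinitePresentation
import Mathlib.CategoryTheory.Presentable.Finite
import Mathlib.CategoryTheory.Limits.Preserves.Filtered

/-!
# Finitely presented modules are the finitely presentable objects of the category of modules
-/

set_option autoImplicit false
universe u
open CategoryTheory Limits Opposite

namespace Groth.Agent.Models2.ModuleFP

noncomputable section

variable {R : Type u} [CommRing R]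

section colim

variable {J : Type u} [SmallCategory J] [IsFiltered J] {D : J ⥤ ModuleCat.{u} R} {c : Cocone D}

lemma exists_rep (hc : IsColimit c) (x : c.pt) : ∃ (j : J) (y : D.obj j), c.ι.app j y = x :=
  Types.jointly_surjective_of_isColimit (isColimitOfPreserves (forget (ModuleCat.{u} R)) hc) x

lemma exists_eq (hc : IsColimit c) {j : J} (x y : D.obj j) (h : c.ι.app j x = c.ι.app j y) :
    ∃ (k : J) (f : j ⟶ k), D.map f x = D.map f y :=
  (Types.FilteredColimit.isColimit_eq_iff'
    (ht := isColimitOfPreserves (forget (ModuleCat.{u} R)) hc) x y).1 h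

/-- Finitely many pairs of elements which agree in the colimit agree at a common stage. -/
lemma exists_eq_finset (hc : IsColimit c) {j : J} {α : Type*} (s : Finset α)
    (x y : α → D.obj j) (h : ∀ a ∈ s, c.ι.app j (x a) = c.ι.app j (y a)) :
    ∃ (k : J) (f : j ⟶ k), ∀ a ∈ s, D.map f (x a) = D.map f (y a) := by
  classical
  induction s using Finset.induction_on with
  | empty => exact ⟨j, 𝟙 j, by simp⟩
  | insert a s ha ih =>
    obtain ⟨k, f, hf⟩ := ih fun b hb ↦ h b (Finset.mem_insert_of_mem hb)
    obtain ⟨k', f', hf'⟩ := exists_eq hc _ _ (h a (Finset.mem_insert_self _ _))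
    obtain ⟨l, g, g', hg⟩ := IsFiltered.span f f'
    refine ⟨l, f ≫ g, fun b hb ↦ ?_⟩
    rcases Finset.mem_insert.1 hb with rfl | hb
    · rw [hg, Functor.map_comp, ModuleCat.comp_apply, ModuleCat.comp_apply, hf']
    · rw [Functor.map_comp, ModuleCat.comp_apply, ModuleCat.comp_apply, hf b hb]

/-- Finitely many elements of the colimit come from a common stage. -/
lemma exists_rep_finset (hc : IsColimit c) {α : Type*} (s : Finset α) (x : α → c.pt) :
    ∃ (j : J) (y : α → D.obj j), ∀ a ∈ s, c.ι.app j (y a) = x a := by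
  classical
  induction s using Finset.induction_on with
  | empty => exact ⟨IsFiltered.nonempty.some, 0, by simp⟩
  | insert a s ha ih =>
    obtain ⟨j, y, hy⟩ := ih
    obtain ⟨j', z, hz⟩ := exists_rep hc (x a)
    refine ⟨IsFiltered.max j j', fun b ↦ if b = a then D.map (IsFiltered.rightToMax j j') z else
      D.map (IsFiltered.leftToMax j j') (y b), fun b hb ↦ ?_⟩
    have h1 : ∀ w, c.ι.app _ (D.map (IsFiltered.leftToMax j j') w) = c.ι.app j w := fun w ↦ by
      rw [← ModuleCat.comp_apply, c.w]
    have h2 : ∀ w, c.ι.app _ (D.map (IsFiltered.rightToMax j j') w) = c.ι.app j' w := fun w ↦ by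
      rw [← ModuleCat.comp_apply, c.w]
    by_cases hba : b = a
    · subst hba
      simp [h2, hz]
    · simp only [hba, if_false, h1]
      exact hy b ((Finset.mem_insert.1 hb).resolve_left hba)

variable (c) in
/-- A criterion for a cocone over a filtered diagram of modules to be colimit. -/
def isColimitOf (hsurj : ∀ x : c.pt, ∃ (j : J) (y : D.obj j), c.ι.app j y = x)
    (hinj : ∀ (j : J) (x : D.obj j), c.ι.app j x = 0 → ∃ (k : J) (f : j ⟶ k), D.map f x = 0) :
    IsColimit c :=
  isColimitOfReflects (forget (ModuleCat.{u} R)) <|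
    Types.FilteredColimit.isColimitOf' _ _ (fun x ↦ by
      obtain ⟨j, y, hy⟩ := hsurj x
      exact ⟨j, y, hy.symm⟩) (fun j (x y : D.obj j) h ↦ by
      obtain ⟨k, f, hf⟩ := hinj j (x - y) (by
        rw [map_sub, sub_eq_zero]; exact h)
      refine ⟨k, f, ?_⟩
      rw [map_sub, sub_eq_zero] at hf
      exact hf)

/-- Linear maps out of a finitely presented module into a filtered colimit factor. -/
lemma exists_hom (hc : IsColimit c) (M : ModuleCat.{u} R) [hM : Module.FinitePresentation R M]
    (f : M ⟶ c.pt) : ∃ (j : J) (g : M ⟶ D.obj j), g ≫ c.ι.app j = f := by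
  obtain ⟨n, K, e, hK⟩ := Module.FinitePresentation.exists_fin R M
  obtain ⟨s, hs⟩ := hK
  let g : (Fin n → R) →ₗ[R] c.pt := f.hom ∘ₗ e.symm.toLinearMap ∘ₗ K.mkQ
  obtain ⟨j, y, hy⟩ := exists_rep_finset hc Finset.univ fun i ↦ g (Pi.single i 1)
  let l : (Fin n → R) →ₗ[R] D.obj j := (Pi.basisFun R (Fin n)).constr R y
  have hl : (c.ι.app j).hom ∘ₗ l = g := by
    refine (Pi.basisFun R (Fin n)).ext fun i ↦ ?_
    simp only [LinearMap.comp_apply, l, Module.Basis.constr_basis]
    rw [Pi.basisFun_apply]
    exact hy i (Finset.mem_univ _)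
  obtain ⟨k, u, hu⟩ := exists_eq_finset hc s (fun a ↦ l a) (fun _ ↦ 0) fun a ha ↦ by
    rw [map_zero]
    have : g a = 0 := by
      simp only [g, LinearMap.comp_apply]
      have : K.mkQ a = 0 := by
        rw [Submodule.mkQ_apply, Submodule.Quotient.mk_eq_zero, ← hs]
        exact Submodule.subset_span ha
      rw [this]
      simp
    rw [← this, ← hl]
    rfl
  let l' : (Fin n → R) →ₗ[R] D.obj k := (D.map u).hom ∘ₗ l
  have hl' : K ≤ LinearMap.ker l' := by
    rw [← hs, Submodule.span_le]
    intro a ha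
    exact LinearMap.mem_ker.2 ((hu a ha).trans (map_zero _))
  refine ⟨k, ModuleCat.ofHom (K.liftQ l' hl' ∘ₗ e.toLinearMap), ?_⟩
  ext x
  obtain ⟨x, rfl⟩ := e.symm.surjective x
  obtain ⟨x, rfl⟩ := K.mkQ_surjective x
  have : g x = f (e.symm (K.mkQ x)) := rfl
  rw [← this, ← hl]
  simp [l']

/-- Two linear maps out of a finite module into a stage of a filtered colimit which agree in the
colimit agree at a later stage. -/
lemma exists_hom_eq (hc : IsColimit c) (M : ModuleCat.{u} R) [hM : Module.Finite R M]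
    {j : J} (f g : M ⟶ D.obj j) (h : f ≫ c.ι.app j = g ≫ c.ι.app j) :
    ∃ (k : J) (u : j ⟶ k), f ≫ D.map u = g ≫ D.map u := by
  obtain ⟨s, hs⟩ := hM
  obtain ⟨k, u, hu⟩ := exists_eq_finset hc s (fun a ↦ f a) (fun a ↦ g a) fun a ha ↦ by
    rw [← ModuleCat.comp_apply, h, ModuleCat.comp_apply]
  refine ⟨k, u, ModuleCat.hom_ext ?_⟩
  refine LinearMap.ext_on hs fun a ha ↦ ?_
  simpa using hu a ha

end colim

attribute [local instance] Cardinal.fact_isRegular_aleph0

theorem isFinitelyPresentable_of_finitePresentation (M : ModuleCat.{u} R)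
    [Module.FinitePresentation R M] : IsFinitelyPresentable.{u} M := by
  rw [isFinitelyPresentable_iff_preservesFilteredColimitsOfSize]
  refine ⟨fun J _ _ ↦ ⟨fun {D} ↦ ⟨fun {c} hc ↦ ⟨?_⟩⟩⟩⟩
  refine Types.FilteredColimit.isColimitOf' _ _ (fun f ↦ ?_) (fun j f₁ f₂ hf ↦ ?_)
  · obtain ⟨j, g, hg⟩ := exists_hom hc M f
    exact ⟨j, g, hg.symm⟩
  · exact exists_hom_eq hc M f₁ f₂ hf



section converse

variable (M : ModuleCat.{u} R)

/-- The poset of finitely generated submodules of `K`. -/
abbrev FG {P : Type u} [AddCommGroup P] [Module R P] (K : Submodule R P) : Type u :=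
  { N : Submodule R P // N.FG ∧ N ≤ K }

instance {P : Type u} [AddCommGroup P] [Module R P] (K : Submodule R P) : Nonempty (FG K) :=
  ⟨⟨⊥, Submodule.fg_bot, bot_le⟩⟩

instance {P : Type u} [AddCommGroup P] [Module R P] (K : Submodule R P) :
    IsDirectedOrder (FG K) :=
  ⟨fun a b ↦ ⟨⟨a.1 ⊔ b.1, a.2.1.sup b.2.1, sup_le a.2.2 b.2.2⟩, le_sup_left (a := a.1) (b := b.1),
    le_sup_right (a := a.1) (b := b.1)⟩⟩

/-- The diagram of finitely generated submodules. -/
def subDiag : FG (⊤ : Submodule R M) ⥤ ModuleCat.{u} R where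
  obj N := ModuleCat.of R N.1
  map {N N'} f := ModuleCat.ofHom (Submodule.inclusion (leOfHom f))

def subCocone : Cocone (subDiag M) where
  pt := M
  ι := { app := fun N ↦ ModuleCat.ofHom N.1.subtype }

def subIsColimit : IsColimit (subCocone M) :=
  isColimitOf _ (fun x ↦ ⟨⟨Submodule.span R {x}, Submodule.fg_span_singleton x, le_top⟩,
    ⟨x, Submodule.mem_span_singleton_self x⟩, rfl⟩)
    (fun j x hx ↦ ⟨j, 𝟙 j, by
      have : x = 0 := Subtype.ext hx
      rw [this, map_zero]⟩)

variable {P : Type u} [AddCommGroup P] [Module R P] (π : P →ₗ[R] M)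

/-- The diagram of quotients `P / K'` for `K'` a finitely generated submodule of the kernel. -/
def quotDiag : FG (LinearMap.ker π) ⥤ ModuleCat.{u} R where
  obj N := ModuleCat.of R (P ⧸ N.1)
  map {N N'} f := ModuleCat.ofHom (Submodule.factor (leOfHom f))

def quotCocone : Cocone (quotDiag M π) where
  pt := M
  ι := { app := fun N ↦ ModuleCat.ofHom (N.1.liftQ π N.2.2)
         naturality := fun N N' f ↦ by
          refine ModuleCat.hom_ext ?_
          refine Submodule.linearMap_qext _ ?_
          ext x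
          rfl }

def quotIsColimit (hπ : Function.Surjective π) : IsColimit (quotCocone M π) :=
  isColimitOf _ (fun x ↦ by
      obtain ⟨y, hy⟩ := hπ x
      exact ⟨Classical.arbitrary _, Submodule.Quotient.mk y, hy⟩)
    (fun j x hx ↦ by
      obtain ⟨y, rfl⟩ := Submodule.Quotient.mk_surjective _ x
      have hy : π y = 0 := hx
      let k : FG (LinearMap.ker π) := ⟨j.1 ⊔ Submodule.span R {y},
        j.2.1.sup (Submodule.fg_span_singleton y), sup_le j.2.2 (by
          rw [Submodule.span_singleton_le_iff_mem]; exact hy)⟩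
      refine ⟨k, homOfLE (show j.1 ≤ k.1 from le_sup_left), ?_⟩
      change Submodule.Quotient.mk (p := k.1) y = 0
      rw [Submodule.Quotient.mk_eq_zero]
      exact (le_sup_right : Submodule.span R {y} ≤ k.1) (Submodule.mem_span_singleton_self y))

theorem finite_of_isFinitelyPresentable [IsFinitelyPresentable.{u} M] : Module.Finite R M := by
  obtain ⟨N, s, hs⟩ := IsFinitelyPresentable.exists_hom_of_isColimit (subIsColimit M) (𝟙 M)
  let s' : M →ₗ[R] N.1 := s.hom
  have hN : (⊤ : Submodule R M) ≤ N.1 := fun x _ ↦ by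
    have : ((s' x : N.1) : M) = x := congr($hs x)
    rw [← this]
    exact (s' x).2
  exact ⟨by rw [← top_le_iff.1 hN]; exact N.2.1⟩

theorem finitePresentation_of_isFinitelyPresentable [IsFinitelyPresentable.{u} M] :
    Module.FinitePresentation R M := by
  have := finite_of_isFinitelyPresentable M
  obtain ⟨n, π, hπ⟩ := Module.Finite.exists_fin' R M
  obtain ⟨N, s, hs⟩ := IsFinitelyPresentable.exists_hom_of_isColimit (quotIsColimit M π hπ) (𝟙 M)
  have hQ : Module.FinitePresentation R ((Fin n → R) ⧸ N.1) :=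
    Module.finitePresentation_of_surjective N.1.mkQ N.1.mkQ_surjective (by
      rw [Submodule.ker_mkQ]; exact N.2.1)
  let r : ((Fin n → R) ⧸ N.1) →ₗ[R] M := N.1.liftQ π N.2.2
  let s' : M →ₗ[R] ((Fin n → R) ⧸ N.1) := s.hom
  have hrs : ∀ x, r (s' x) = x := fun x ↦ congr($hs x)
  refine Module.finitePresentation_of_surjective r (fun x ↦ ⟨s' x, hrs x⟩) ?_
  have : LinearMap.ker r = LinearMap.range (LinearMap.id - s' ∘ₗ r) := by
    ext x
    constructor
    · intro hx
      refine ⟨x, ?_⟩
      have : r x = 0 := hx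
      simp [this]
    · rintro ⟨y, rfl⟩
      simp [hrs]
  rw [this, LinearMap.range_eq_map]
  exact (Module.Finite.fg_top (R := R) (M := (Fin n → R) ⧸ N.1)).map _

end converse

end

end Groth.Agent.Models2.ModuleFP
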