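import Groth.Agent.Models2.QCohColim
import Groth.Agent.Models2.ModuleFP
import Groth.Agent.Models2.LocHom
import Mathlib.AlgebraicGeometry.Morphisms.QuasiSeparated

/-!
# Local homomorphisms out of a finitely presented module commute with filtered colimits
-/

set_option autoImplicit false
universe u
open CategoryTheory AlgebraicGeometry Limits TopologicalSpace

namespace Groth.Agent.Models2.FiltHom

open AlgebraicGeometry.Scheme.Modules Groth.Agent.Models2.QCohLoc Groth.Agent.Models2.QCohColim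
  Groth.Agent.Models2.LocHom

noncomputable section

variable {X : Scheme.{u}} {R : CommRingCat.{u}}

/-- On an affine scheme, homomorphisms out of a quasi-coherent module are the same as linear
maps on global sections. -/
lemma Γ_map_bijective (M N : (Spec R).Modules) (hM : IsQC M) :
    Function.Bijective (fun φ : M ⟶ N ↦ (moduleSpecΓFunctor (R := R)).map φ) := by
  let e : (M ⟶ N) ≃ ((moduleSpecΓFunctor (R := R)).obj M ⟶ (moduleSpecΓFunctor (R := R)).obj N) :=
    ((fromTildeΓIso M hM).symm.homCongr (Iso.refl N)).trans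
      ((tilde.adjunction (R := R)).homEquiv _ N)
  have he : ∀ φ, e φ = (moduleSpecΓFunctor (R := R)).map φ := by
    intro φ
    simp only [e, Equiv.trans_apply, Iso.homCongr_apply, Iso.symm_inv, Iso.refl_hom,
      Category.comp_id]
    rw [Adjunction.homEquiv_unit]
    have h := (tilde.adjunction (R := R)).right_triangle_components M
    have h2 : (moduleSpecΓFunctor (R := R)).map ((fromTildeΓIso M hM).hom ≫ φ) =
      (moduleSpecΓFunctor (R := R)).map ((tilde.adjunction (R := R)).counit.app M) ≫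
        (moduleSpecΓFunctor (R := R)).map φ := Functor.map_comp _ _ _
    rw [h2]
    exact (Category.assoc _ _ _).symm.trans ((congrArg (· ≫ _) h).trans (Category.id_comp _))
  have : (fun φ : M ⟶ N ↦ (moduleSpecΓFunctor (R := R)).map φ) = e := by
    ext1 φ; exact (he φ).symm
  rw [this]
  exact e.bijective

section colim

variable {J : Type u} [SmallCategory J] [IsFiltered J] {D : J ⥤ QCohCat.QCoh X} {c : Cocone D}

variable {F : X.Modules}

/-- Lifting of local homomorphisms over an affine open. -/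
lemma affine_surj (hc : IsColimit c) (hF : IsQC F) (f : Spec R ⟶ X) [IsOpenImmersion f]
    (U : X.Opens) (hU : f.opensRange = U)
    [hFf : Module.FinitePresentation R ((moduleSpecΓFunctor (R := R)).obj (F.restrict f))]
    (φ : LHom F c.pt.obj U) :
    ∃ (j : J) (ψ : LHom F (D.obj j).obj U), ψ.comp (c.ι.app j).hom = φ := by
  have hf (W : (Spec R).Opens) : f ''ᵁ W ≤ U := by
    rw [← hU]; rintro _ ⟨x, -, rfl⟩; exact ⟨x, rfl⟩
  let a := (moduleSpecΓFunctor (R := R)).map (φ.toRestrict f hf)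
  obtain ⟨j, g, hg⟩ := ModuleFP.exists_hom (isColimitOfPreserves (ΓQ f) hc) _ a
  obtain ⟨ψ, hψ⟩ := (Γ_map_bijective (F.restrict f) ((D.obj j).obj.restrict f)
    (isQC_restrict f F hF)).2 g
  have h : ψ ≫ (restrictFunctor f).map (c.ι.app j).hom = φ.toRestrict f hf := by
    apply (Γ_map_bijective (F.restrict f) (c.pt.obj.restrict f) (isQC_restrict f F hF)).1
    dsimp only at hψ ⊢
    rw [Functor.map_comp, hψ]
    exact hg
  refine ⟨j, LHom.ofRestrict f ψ U hU.ge, ?_⟩
  rw [← LHom.ofRestrict_comp, h, LHom.ofRestrict_toRestrict]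

/-- Local homomorphisms over an affine open which agree in the colimit agree at some stage. -/
lemma affine_inj (hc : IsColimit c) (hF : IsQC F) (f : Spec R ⟶ X) [IsOpenImmersion f]
    (U : X.Opens) (hU : f.opensRange = U)
    [hFf : Module.Finite R ((moduleSpecΓFunctor (R := R)).obj (F.restrict f))]
    {j : J} (φ ψ : LHom F (D.obj j).obj U)
    (h : φ.comp (c.ι.app j).hom = ψ.comp (c.ι.app j).hom) :
    ∃ (k : J) (u : j ⟶ k), φ.comp (D.map u).hom = ψ.comp (D.map u).hom := by
  have hf (W : (Spec R).Opens) : f ''ᵁ W ≤ U := by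
    rw [← hU]; rintro _ ⟨x, -, rfl⟩; exact ⟨x, rfl⟩
  obtain ⟨k, u, hu⟩ := ModuleFP.exists_hom_eq (isColimitOfPreserves (ΓQ f) hc) _
    ((moduleSpecΓFunctor (R := R)).map (φ.toRestrict f hf))
    ((moduleSpecΓFunctor (R := R)).map (ψ.toRestrict f hf)) (by
      change _ ≫ (moduleSpecΓFunctor (R := R)).map ((restrictFunctor f).map (c.ι.app j).hom) =
        _ ≫ (moduleSpecΓFunctor (R := R)).map ((restrictFunctor f).map (c.ι.app j).hom)
      rw [← Functor.map_comp, ← Functor.map_comp, ← LHom.toRestrict_comp,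
        ← LHom.toRestrict_comp, h])
  refine ⟨k, u, ?_⟩
  have h2 : (φ.comp (D.map u).hom).toRestrict f hf = (ψ.comp (D.map u).hom).toRestrict f hf := by
    apply (Γ_map_bijective (F.restrict f) ((D.obj k).obj.restrict f) (isQC_restrict f F hF)).1
    dsimp only
    rw [LHom.toRestrict_comp, LHom.toRestrict_comp, Functor.map_comp, Functor.map_comp]
    exact hu
  rw [← LHom.ofRestrict_toRestrict (φ.comp (D.map u).hom) f hf hU.ge, h2,
    LHom.ofRestrict_toRestrict]

omit [IsFiltered J] in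
lemma comp_ι_map {j k : J} (u : j ⟶ k) : (D.map u).hom ≫ (c.ι.app k).hom = (c.ι.app j).hom := by
  rw [← c.w u]; rfl

omit [IsFiltered J] in
lemma comp_map_map {j k l : J} (u : j ⟶ k) (v : k ⟶ l) :
    (D.map u).hom ≫ (D.map v).hom = (D.map (u ≫ v)).hom := by
  rw [D.map_comp]; rfl

/-- Local homomorphisms which agree on a quasi-compact open in the colimit agree at some stage. -/
theorem qc_inj (hc : IsColimit c) (hF : IsQC F)
    (hFfin : ∀ (R : CommRingCat.{u}) (f : Spec R ⟶ X) [IsOpenImmersion f],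
      Module.Finite R ((moduleSpecΓFunctor (R := R)).obj (F.restrict f)))
    {j : J} {U U' : X.Opens} (φ : LHom F (D.obj j).obj U) (φ' : LHom F (D.obj j).obj U')
    (V : X.Opens) (hV : IsCompact (V : Set X)) (hVU : V ≤ U) (hVU' : V ≤ U')
    (h : (φ.comp (c.ι.app j).hom).Agree (φ'.comp (c.ι.app j).hom) V) :
    ∃ (k : J) (u : j ⟶ k), (φ.comp (D.map u).hom).Agree (φ'.comp (D.map u).hom) V := by
  revert hVU hVU' h
  refine compact_open_induction_on (P := fun V ↦ V ≤ U → V ≤ U' →
    (φ.comp (c.ι.app j).hom).Agree (φ'.comp (c.ι.app j).hom) V →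
    ∃ (k : J) (u : j ⟶ k), (φ.comp (D.map u).hom).Agree (φ'.comp (D.map u).hom) V) V hV ?_ ?_
  · intro _ _ _
    exact ⟨j, 𝟙 j, LHom.Agree.bot _ _⟩
  · intro S hS W ih h1 h2 h
    obtain ⟨k₁, u₁, hk₁⟩ := ih (le_sup_left.trans h1) (le_sup_left.trans h2) (h.mono le_sup_left)
    have := hFfin _ W.2.fromSpec
    obtain ⟨k₂, u₂, hk₂⟩ := affine_inj hc hF W.2.fromSpec W.1 W.2.opensRange_fromSpec
      (φ.res (le_sup_right.trans h1)) (φ'.res (le_sup_right.trans h2)) (by
        refine LHom.ext_apply fun A hA x ↦ ?_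
        exact h A (hA.trans le_sup_right) (hA.trans (le_sup_right.trans h1))
          (hA.trans (le_sup_right.trans h2)) x)
    obtain ⟨l, v₁, v₂, hv⟩ := IsFiltered.span u₁ u₂
    refine ⟨l, u₁ ≫ v₁, LHom.Agree.sup ?_ ?_⟩
    · rw [← comp_map_map, ← LHom.comp_comp, ← LHom.comp_comp]
      exact hk₁.comp _
    · rw [hv, ← comp_map_map, ← LHom.comp_comp, ← LHom.comp_comp]
      refine LHom.Agree.comp ?_ _
      exact LHom.Agree.of_res (hV := le_sup_right.trans h1) (hV' := le_sup_right.trans h2) hk₂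

/-- Lifting of local homomorphisms over a quasi-compact open of a quasi-separated scheme. -/
theorem qc_surj [QuasiSeparatedSpace X] (hc : IsColimit c) (hF : IsQC F)
    (hFfp : ∀ (R : CommRingCat.{u}) (f : Spec R ⟶ X) [IsOpenImmersion f],
      Module.FinitePresentation R ((moduleSpecΓFunctor (R := R)).obj (F.restrict f)))
    (V : X.Opens) (hV : IsCompact (V : Set X)) (φ : LHom F c.pt.obj V) :
    ∃ (j : J) (ψ : LHom F (D.obj j).obj V), ψ.comp (c.ι.app j).hom = φ := by
  revert φ
  refine compact_open_induction_on (P := fun V ↦ ∀ (φ : LHom F c.pt.obj V),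
    ∃ (j : J) (ψ : LHom F (D.obj j).obj V), ψ.comp (c.ι.app j).hom = φ) V hV ?_ ?_
  · intro φ
    exact ⟨IsFiltered.nonempty.some, LHom.ofHom 0 _, LHom.Agree.eq (LHom.Agree.bot _ _)⟩
  · intro S hS W ih φ
    obtain ⟨j₁, ψ₁, h₁⟩ := ih (φ.res le_sup_left)
    have := hFfp _ W.2.fromSpec
    obtain ⟨j₂, ψ₂, h₂⟩ := affine_surj hc hF W.2.fromSpec W.1 W.2.opensRange_fromSpec
      (φ.res le_sup_right)
    let j := IsFiltered.max j₁ j₂
    let ψ₁' := ψ₁.comp (D.map (IsFiltered.leftToMax j₁ j₂)).hom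
    let ψ₂' := ψ₂.comp (D.map (IsFiltered.rightToMax j₁ j₂)).hom
    have h₁' : ψ₁'.comp (c.ι.app j).hom = φ.res le_sup_left := by
      rw [LHom.comp_comp, comp_ι_map, h₁]
    have h₂' : ψ₂'.comp (c.ι.app j).hom = φ.res le_sup_right := by
      rw [LHom.comp_comp, comp_ι_map, h₂]
    have hSW : IsCompact ((S ⊓ W.1 : X.Opens) : Set X) :=
      QuasiSeparatedSpace.inter_isCompact _ _ S.2 hS W.1.2 W.2.isCompact
    obtain ⟨k, u, hu⟩ := qc_inj hc hF (fun R f _ ↦ (hFfp R f).1.elim fun s hs ↦ ⟨s, hs.1⟩) ψ₁' ψ₂'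
      (S ⊓ W.1) hSW inf_le_left inf_le_right (by
        rw [h₁', h₂']
        intro A hA hA1 hA2 x
        rfl)
    obtain ⟨Φ, hΦ₁, hΦ₂⟩ := LHom.exists_glue _ _ hu
    refine ⟨k, Φ, LHom.Agree.eq (LHom.Agree.sup ?_ ?_)⟩
    · refine LHom.Agree.of_res (hV := le_sup_left) (hV' := le_sup_left) ?_
      rw [LHom.res_comp, hΦ₁, LHom.comp_comp, comp_ι_map, h₁']
    · refine LHom.Agree.of_res (hV := le_sup_right) (hV' := le_sup_right) ?_
      rw [LHom.res_comp, hΦ₂, LHom.comp_comp, comp_ι_map, h₂']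

end colim

attribute [local instance] Cardinal.fact_isRegular_aleph0

/-- A finitely presented module on a qcqs scheme is a finitely presentable object of the category
of quasi-coherent modules. -/
theorem isFinitelyPresentable_of_isFinitePresentation [CompactSpace X] [QuasiSeparatedSpace X]
    (F : QCohCat.QCoh X) (hF : SheafOfModules.IsFinitePresentation.{u, u, u} (R := X.ringCatSheaf) F.obj) :
    IsFinitelyPresentable.{u} F := by
  have hFfp (R : CommRingCat.{u}) (f : Spec R ⟶ X) [IsOpenImmersion f] :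
      Module.FinitePresentation R ((moduleSpecΓFunctor (R := R)).obj (F.obj.restrict f)) :=
    finitePresentation_sections F.obj (hM := hF) f
  have hFfin (R : CommRingCat.{u}) (f : Spec R ⟶ X) [IsOpenImmersion f] :
      Module.Finite R ((moduleSpecΓFunctor (R := R)).obj (F.obj.restrict f)) :=
    haveI := hFfp R f
    inferInstance
  rw [isFinitelyPresentable_iff_preservesFilteredColimitsOfSize]
  refine ⟨fun J _ _ ↦ ⟨fun {D} ↦ ⟨fun {c} hc ↦ ⟨?_⟩⟩⟩⟩
  refine Types.FilteredColimit.isColimitOf' _ _ (fun (f : F ⟶ c.pt) ↦ ?_)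
    (fun j (f₁ f₂ : F ⟶ D.obj j) hf ↦ ?_)
  · obtain ⟨j, ψ, hψ⟩ := qc_surj hc F.property hFfp ⊤ isCompact_univ (LHom.ofHom f.hom ⊤)
    refine ⟨j, ObjectProperty.homMk ψ.toHom, ?_⟩
    apply ObjectProperty.hom_ext
    ext W x
    exact congr(($hψ).app W le_top x).symm
  · obtain ⟨k, u, hu⟩ := qc_inj hc F.property hFfin (LHom.ofHom f₁.hom ⊤) (LHom.ofHom f₂.hom ⊤)
      ⊤ isCompact_univ le_top le_top (by
        intro W _ _ _ x
        exact congr(($hf).hom.app W x))
    refine ⟨k, u, ?_⟩
    apply ObjectProperty.hom_ext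
    ext W x
    exact hu W le_top le_top le_top x

end

end Groth.Agent.Models2.FiltHom
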