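import Groth.Agent.Localalg.FibreReg
import Mathlib.RingTheory.Regular.Flat
import Mathlib.RingTheory.Flat.Equalizer

/-!
# Weakly regular sequences with flat successive quotients

`FlatSeq A rs M`: `rs` is a sequence of elements of an `A`-algebra `S` which is weakly regular on
the `S`-module `M` and such that `M` and all the successive quotients `M/(x_1, .., x_i)M` are flat
over `A`.  This notion is stable under base change in `A`.
-/

set_option autoImplicit false
universe u

open TensorProduct RingTheory.Sequence Pointwise

namespace Groth.Agent.Models2.FlatReg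

variable (A : Type u) {S : Type u} [CommRing A] [CommRing S] [Algebra A S]

/-- weakly regular sequence on `M` with `A`-flat successive quotients -/
def FlatSeq : List S → ∀ (M : Type u) [AddCommGroup M] [Module A M] [Module S M]
    [IsScalarTower A S M], Prop
  | [], M, _, _, _, _ => Module.Flat A M
  | x :: rs, M, _, _, _, _ => Module.Flat A M ∧ IsSMulRegular M x ∧ FlatSeq rs (QuotSMulTop x M)

variable {A}

theorem FlatSeq.flat : ∀ {rs : List S} {M : Type u} [AddCommGroup M] [Module A M] [Module S M]
    [IsScalarTower A S M], FlatSeq A rs M → Module.Flat A M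
  | [], _, _, _, _, _, h => h
  | _ :: _, _, _, _, _, _, h => h.1

theorem FlatSeq.isWeaklyRegular : ∀ {rs : List S} {M : Type u} [AddCommGroup M] [Module A M]
    [Module S M] [IsScalarTower A S M], FlatSeq A rs M → IsWeaklyRegular M rs
  | [], _, _, _, _, _, _ => IsWeaklyRegular.nil S _
  | _ :: _, _, _, _, _, _, h => IsWeaklyRegular.cons h.2.1 (FlatSeq.isWeaklyRegular h.2.2)

theorem flat_congr {M N : Type u} [AddCommGroup M] [Module A M] [Module S M] [IsScalarTower A S M]
    [AddCommGroup N] [Module A N] [Module S N] [IsScalarTower A S N] (e : M ≃ₗ[S] N)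
    (h : Module.Flat A M) : Module.Flat A N :=
  Module.Flat.of_linearEquiv (e.restrictScalars A).symm

theorem FlatSeq.congr : ∀ {rs : List S} {M N : Type u} [AddCommGroup M] [Module A M] [Module S M]
    [IsScalarTower A S M] [AddCommGroup N] [Module A N] [Module S N] [IsScalarTower A S N]
    (_ : M ≃ₗ[S] N), FlatSeq A rs M → FlatSeq A rs N
  | [], _, _, _, _, _, _, _, _, _, _, e, h => flat_congr e h
  | x :: _, _, _, _, _, _, _, _, _, _, _, e, h =>
    ⟨flat_congr e h.1, (e.isSMulRegular_congr x).1 h.2.1,
      FlatSeq.congr (QuotSMulTop.congr x e) h.2.2⟩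

/-- restriction of scalars along a flat `A → A₁` -/
theorem FlatSeq.restrictScalars (A₁ : Type u) [CommRing A₁] [Algebra A A₁] [Module.Flat A A₁]
    [Algebra A₁ S] : ∀ {rs : List S} {M : Type u} [AddCommGroup M]
    [Module A M] [Module A₁ M] [Module S M] [IsScalarTower A A₁ M] [IsScalarTower A S M]
    [IsScalarTower A₁ S M], FlatSeq A₁ rs M → FlatSeq A rs M
  | [], M, _, _, _, _, _, _, _, h => by
    have : Module.Flat A₁ M := h
    exact Module.Flat.trans A A₁ M
  | x :: rs, M, _, _, _, _, _, _, _, h => by
    have : Module.Flat A₁ M := h.1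
    exact ⟨Module.Flat.trans A A₁ M, h.2.1, FlatSeq.restrictScalars A₁ h.2.2⟩

/-- the total quotient is flat -/
theorem FlatSeq.flat_quotient : ∀ {rs : List S} {M : Type u} [AddCommGroup M] [Module A M]
    [Module S M] [IsScalarTower A S M], FlatSeq A rs M →
      Module.Flat A (M ⧸ (Ideal.ofList rs • ⊤ : Submodule S M))
  | [], M, _, _, _, _, h => by
    refine flat_congr (S := S) ?_ h
    refine (Submodule.quotEquivOfEqBot _ ?_).symm
    rw [Ideal.ofList_nil, Submodule.bot_smul]
  | x :: rs, M, _, _, _, _, h =>
    flat_congr (Submodule.quotOfListConsSMulTopEquivQuotSMulTopInner M x rs).symm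
      (FlatSeq.flat_quotient h.2.2)

/-- the total quotient is flat, ring version -/
theorem FlatSeq.flat_quotient_self {rs : List S} (h : FlatSeq A rs S) :
    Module.Flat A (S ⧸ Ideal.ofList rs) := by
  refine flat_congr (S := S) (Submodule.quotEquivOfEq _ _ ?_) h.flat_quotient
  simp

/-- Base change: weakly regular after any base change. -/
theorem FlatSeq.isWeaklyRegular_tensor {K : Type u} [AddCommGroup K] [Module A K] :
    ∀ {rs : List S} {M : Type u} [AddCommGroup M] [Module A M]
    [Module S M] [IsScalarTower A S M], FlatSeq A rs M → IsWeaklyRegular (M ⊗[A] K) rs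
  | [], _, _, _, _, _, _ => IsWeaklyRegular.nil S _
  | x :: rs, M, _, _, _, _, h => by
    obtain ⟨-, h2, h3⟩ := h
    obtain ⟨e⟩ := Groth.Agent.Localalg.FibreReg.quotSMulTop_tensor_equiv (R := A) (M := M)
      (N := QuotSMulTop x M) (K := K) x
      (Submodule.mkQ _) (Submodule.mkQ_surjective _) (Submodule.ker_mkQ _)
    refine IsWeaklyRegular.cons ?_ ((e.isWeaklyRegular_congr rs).2 h3.isWeaklyRegular_tensor)
    have hflat : Module.Flat A (QuotSMulTop x M) := h3.flat
    let u : M →ₗ[A] M := (LinearMap.lsmul S M x).restrictScalars A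
    let p : M →ₗ[A] QuotSMulTop x M := (Submodule.mkQ _).restrictScalars A
    have hex : Function.Exact u p := by
      intro z
      constructor
      · intro hz
        have : z ∈ x • (⊤ : Submodule S M) := (Submodule.Quotient.mk_eq_zero _).1 hz
        obtain ⟨w, -, hw⟩ := (Submodule.mem_smul_pointwise_iff_exists _ _ _).1 this
        exact ⟨w, hw⟩
      · rintro ⟨w, rfl⟩
        exact (Submodule.Quotient.mk_eq_zero _).2
          ((Submodule.mem_smul_pointwise_iff_exists _ _ _).2 ⟨w, trivial, rfl⟩)
    have hinj := LinearMap.lTensor_injective_of_exact_of_flat p (Submodule.mkQ_surjective _) u h2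
      hex K
    have h1 : Function.Injective (LinearMap.rTensor K u) :=
      (LinearMap.lTensor_inj_iff_rTensor_inj K u).1 hinj
    have h4 : ∀ z : M ⊗[A] K, LinearMap.rTensor K u z = x • z := by
      intro z
      induction z with
      | zero => simp
      | add a b ha hb => rw [map_add, ha, hb, smul_add]
      | tmul a b => rw [LinearMap.rTensor_tmul, TensorProduct.smul_tmul']; rfl
    intro a b hab
    have hab' : x • a = x • b := hab
    rw [← h4, ← h4] at hab'
    exact h1 hab'

section NoetherianLocal

variable [IsLocalRing A] [IsLocalRing S] [IsNoetherianRing S] [IsLocalHom (algebraMap A S)]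

/-- Local criterion: `M` finite over `S`, flat over `A`, and the sequence weakly regular on the
closed fibre: then it is weakly regular on `M` with flat successive quotients. -/
theorem flatReg_of_fibre (rs : List S) : ∀ {M : Type u} [AddCommGroup M] [Module A M]
    [Module S M] [IsScalarTower A S M] [Module.Finite S M] [Module.Flat A M],
    IsWeaklyRegular (M ⊗[A] IsLocalRing.ResidueField A) rs → FlatSeq A rs M := by
  induction rs with
  | nil => intro M _ _ _ _ _ h _; exact h
  | cons x rs ih =>
    intro M _ _ _ _ _ _ h
    rw [isWeaklyRegular_cons_iff] at h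
    obtain ⟨h1, h2⟩ := Groth.Agent.Localalg.FibreReg.regular_and_flat x h.1
    refine ⟨inferInstance, h1, ?_⟩
    obtain ⟨e⟩ := Groth.Agent.Localalg.FibreReg.quotSMulTop_tensor_equiv (R := A) (M := M)
      (N := QuotSMulTop x M) (K := IsLocalRing.ResidueField A) x
      (Submodule.mkQ _) (Submodule.mkQ_surjective _) (Submodule.ker_mkQ _)
    exact ih ((e.isWeaklyRegular_congr rs).1 h.2)

/-- Local criterion, ring version with the fibre ring `S ⧸ m_A S`. -/
theorem flatReg_self_of_fibre [Module.Flat A S] (rs : List S)
    (h : IsWeaklyRegular (S ⧸ (IsLocalRing.maximalIdeal A).map (algebraMap A S))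
      (rs.map (Ideal.Quotient.mk ((IsLocalRing.maximalIdeal A).map (algebraMap A S))))) :
    FlatSeq A rs S := by
  apply flatReg_of_fibre
  have e := (Algebra.TensorProduct.quotIdealMapEquivTensorQuot S
    (IsLocalRing.maximalIdeal A)).toLinearEquiv
  refine (e.isWeaklyRegular_congr rs).1 ?_
  exact (isWeaklyRegular_map_algebraMap_iff (R := S) _ _ rs).1 h

end NoetherianLocal

end Groth.Agent.Models2.FlatReg
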