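import Mathlib.Algebra.Category.ModuleCat.Abelian
import Mathlib.Algebra.Category.ModuleCat.Biproducts
import Mathlib.Algebra.Homology.ShortComplex.ShortExact
import Mathlib.Algebra.Homology.ShortComplex.ExactFunctor

/-!
# Modules with a finite free resolution of length `≤ m`
-/

set_option autoImplicit false

universe v u w

open CategoryTheory CategoryTheory.Limits

namespace Groth.Agent.Models2.FreeRes

/-- `N` has a resolution of length `≤ m` by finite free modules. -/
inductive FreeRes {A : Type u} [CommRing A] : ℕ → ModuleCat.{u} A → Prop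
  | free (m : ℕ) (N : ModuleCat.{u} A) (k : ℕ) (e : N ≅ ModuleCat.of A (Fin k → A)) : FreeRes m N
  | step (m : ℕ) (S : ShortComplex (ModuleCat.{u} A)) (hS : S.ShortExact) (k : ℕ)
      (e : S.X₂ ≅ ModuleCat.of A (Fin k → A)) (h : FreeRes m S.X₁) : FreeRes (m + 1) S.X₃

variable {A : Type u} [CommRing A]

theorem FreeRes.mono {m m' : ℕ} (h : m ≤ m') {N : ModuleCat.{u} A} (hN : FreeRes m N) :
    FreeRes m' N := by
  induction hN generalizing m' with
  | free m N k e => exact .free m' N k e
  | step m S hS k e h' ih =>
    obtain ⟨m', rfl⟩ : ∃ m₁, m' = m₁ + 1 := ⟨m' - 1, by omega⟩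
    exact .step m' S hS k e (ih (by omega))

theorem FreeRes.of_iso {m : ℕ} {N N' : ModuleCat.{u} A} (e : N ≅ N') (hN : FreeRes m N) :
    FreeRes m N' := by
  cases hN with
  | free m N k e' => exact .free m N' k (e.symm ≪≫ e')
  | step m S hS k e' h' =>
    let S' : ShortComplex (ModuleCat.{u} A) := ShortComplex.mk S.f (S.g ≫ e.hom) (by simp)
    have i : S ≅ S' := ShortComplex.isoMk (Iso.refl _) (Iso.refl _) e (by simp [S']) (by simp [S'])
    exact FreeRes.step m S' (ShortComplex.shortExact_of_iso i hS) k e' h'

/-- Induction principle: a property of modules closed under isomorphism and finite sums of `A` and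
a shift-by-one rule for short exact sequences holds for all modules with finite free
resolutions. -/
theorem FreeRes.induction {P : ℕ → ModuleCat.{u} A → Prop}
    (hfree : ∀ (m k : ℕ) (N : ModuleCat.{u} A) (_ : N ≅ ModuleCat.of A (Fin k → A)), P m N)
    (hstep : ∀ (m : ℕ) (S : ShortComplex (ModuleCat.{u} A)) (_ : S.ShortExact)
      (_ : ∀ m', P m' S.X₂) (_ : P m S.X₁), P (m + 1) S.X₃)
    {m : ℕ} {N : ModuleCat.{u} A} (hN : FreeRes m N) : P m N := by
  induction hN with
  | free m N k e => exact hfree m k N e
  | step m S hS k e h' ih => exact hstep m S hS (fun m' => hfree m' k _ e) ih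

end Groth.Agent.Models2.FreeRes
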