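import Groth.Agent.Models2.ArtinInj
import Groth.Prelude.Def_CAlg
import Mathlib.RingTheory.Spectrum.Prime.Noetherian
import Mathlib.RingTheory.Spectrum.Prime.Topology
import Mathlib.LinearAlgebra.Dual.Lemmas

/-!
# Finite algebras over a field: Gorenstein iff there is a nondegenerate functional
-/

universe u

open CategoryTheory CategoryTheory.Abelian

namespace Groth.Agent.Models2.Frobenius

/-- A functional is nondegenerate when its kernel contains no nonzero ideal. -/
def IsFrob {k C : Type u} [CommRing k] [CommRing C] [Algebra k C] (l : C →ₗ[k] k) : Prop :=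
  ∀ x : C, (∀ y, l (x * y) = 0) → x = 0

section Field

variable {k C : Type u} [Field k] [CommRing C] [Algebra k C]

theorem IsFrob.exists_eq [FiniteDimensional k C] {l : C →ₗ[k] k} (hl : IsFrob l)
    (φ : C →ₗ[k] k) : ∃ c, ∀ x, φ x = l (c * x) := by
  let F : C →ₗ[k] (C →ₗ[k] k) := (LinearMap.mul k C).compr₂ l
  have hF : Function.Injective F := by
    rw [← LinearMap.ker_eq_bot, LinearMap.ker_eq_bot']
    intro x hx
    exact hl x fun y => by simpa [F] using congr($hx y)
  have hsurj : Function.Surjective F :=
    (LinearMap.injective_iff_surjective_of_finrank_eq_finrank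
      (Subspace.dual_finrank_eq (K := k) (V := C)).symm).1 hF
  obtain ⟨c, hc⟩ := hsurj φ
  exact ⟨c, fun x => by rw [← hc]; simp [F]⟩

theorem isFrob_of_forall_exists [FiniteDimensional k C] {l : C →ₗ[k] k}
    (h : ∀ φ : C →ₗ[k] k, ∃ c, ∀ x, φ x = l (c * x)) : IsFrob l := by
  intro x hx
  rw [← Module.forall_dual_apply_eq_zero_iff k x]
  intro φ
  obtain ⟨c, hc⟩ := h φ
  rw [hc, mul_comm]
  exact hx c

theorem IsFrob.baer [FiniteDimensional k C] {l : C →ₗ[k] k} (hl : IsFrob l) :
    Module.Baer C C := by
  intro I g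
  obtain ⟨φ, hφ⟩ := LinearMap.exists_extend (p := I.restrictScalars k) (l ∘ₗ g.restrictScalars k)
  obtain ⟨c, hc⟩ := hl.exists_eq φ
  refine ⟨LinearMap.mulLeft C c, fun x hx => ?_⟩
  rw [LinearMap.mulLeft_apply, ← sub_eq_zero]
  apply hl
  intro y
  have h1 : φ (x * y) = l (g ⟨x * y, I.mul_mem_right y hx⟩) := by
    exact congr($hφ ⟨x * y, I.mul_mem_right y hx⟩)
  have h2 : g ⟨x * y, I.mul_mem_right y hx⟩ = g ⟨x, hx⟩ * y := by
    have : (⟨x * y, I.mul_mem_right y hx⟩ : I) = y • ⟨x, hx⟩ := by
      ext
      simp [mul_comm]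
    rw [this, map_smul, smul_eq_mul, mul_comm]
  rw [sub_mul, map_sub, mul_assoc, ← hc, h1, h2, sub_self]

theorem IsFrob.injective [FiniteDimensional k C] {l : C →ₗ[k] k} (hl : IsFrob l) :
    Module.Injective C C :=
  Module.Baer.iff_injective.1 hl.baer

end Field

/-- A self-injective Noetherian ring is Gorenstein. -/
theorem isGorensteinRing_of_injective (C : Type u) [CommRing C] [IsNoetherianRing C]
    [Module.Injective C C] : LocCoh.IsGorensteinRing C where
  isGorensteinLocalRing_localization p hp := by
    have : Module.Injective (Localization.AtPrime p) (Localization.AtPrime p) :=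
      Module.injective_of_isLocalizedModule p.primeCompl
        (Algebra.linearMap C (Localization.AtPrime p))
    have h2 : IsNoetherianRing (Localization.AtPrime p) :=
      IsLocalization.isNoetherianRing p.primeCompl _ inferInstance
    have h3 : CategoryTheory.Injective (ModuleCat.of (Localization.AtPrime p)
      (Localization.AtPrime p)) := Module.injective_object_of_injective_module _ _
    exact { exists_hasInjectiveDimensionLT := ⟨1, inferInstance⟩ }

section Local

variable {k L : Type u} [Field k] [CommRing L] [Algebra k L] [IsLocalRing L]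

open IsLocalRing

theorem exists_mul_socle [IsArtinianRing L] (x : L) (hx : x ≠ 0) :
    ∃ y, x * y ≠ 0 ∧ ∀ m ∈ maximalIdeal L, m * (x * y) = 0 := by
  classical
  obtain ⟨n, hn⟩ := ArtinInj.isNilpotent_maximalIdeal (L := L)
  have hex : ∃ n, ∀ y ∈ (maximalIdeal L) ^ n, x * y = 0 :=
    ⟨n, fun y hy => by rw [hn] at hy; rw [(Submodule.mem_bot L).1 hy, mul_zero]⟩
  have hpos : Nat.find hex ≠ 0 := by
    intro h0
    have := Nat.find_spec hex
    rw [h0, pow_zero, Ideal.one_eq_top] at this
    exact hx (by simpa using this 1 Submodule.mem_top)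
  obtain ⟨m, hm⟩ := Nat.exists_eq_succ_of_ne_zero hpos
  have hm' := Nat.find_min hex (m := m) (by omega)
  push Not at hm'
  obtain ⟨y, hy, hxy⟩ := hm'
  refine ⟨y, hxy, fun z hz => ?_⟩
  have : z * y ∈ (maximalIdeal L) ^ (m + 1) := by
    rw [pow_succ']
    exact Ideal.mul_mem_mul hz hy
  have h2 := Nat.find_spec hex
  rw [hm] at h2
  rw [mul_left_comm]
  exact h2 _ this

theorem socle_unique [Module.Injective L L] (a b : L) (ha0 : a ≠ 0)
    (ha : ∀ m ∈ maximalIdeal L, m * a = 0)
    (hb : ∀ m ∈ maximalIdeal L, m * b = 0) : ∃ c, b = a * c := by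
  let f : (L ⧸ maximalIdeal L) →ₗ[L] L :=
    Submodule.liftQ _ (LinearMap.toSpanSingleton L L a) (fun m hm => by simpa using ha m hm)
  let g : (L ⧸ maximalIdeal L) →ₗ[L] L :=
    Submodule.liftQ _ (LinearMap.toSpanSingleton L L b) (fun m hm => by simpa using hb m hm)
  have hf : Function.Injective f := by
    rw [← LinearMap.ker_eq_bot, Submodule.ker_liftQ_eq_bot]
    intro m hm
    rw [LinearMap.mem_ker, LinearMap.toSpanSingleton_apply, smul_eq_mul] at hm
    by_contra hcon
    have : IsUnit m := by
      by_contra h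
      exact hcon ((mem_maximalIdeal m).2 h)
    exact ha0 (this.mul_right_eq_zero.1 hm)
  obtain ⟨F, hF⟩ := Module.Injective.out f hf g
  refine ⟨F 1, ?_⟩
  have h1 := hF (Submodule.Quotient.mk 1)
  have e1 : f (Submodule.Quotient.mk 1) = a := by
    rw [Submodule.liftQ_apply]; simp
  have e2 : g (Submodule.Quotient.mk 1) = b := by
    rw [Submodule.liftQ_apply]; simp
  rw [e1, e2] at h1
  rw [← h1]
  conv_lhs => rw [show a = a • (1 : L) by simp, map_smul, smul_eq_mul]

theorem exists_isFrob_of_local [FiniteDimensional k L] [Module.Injective L L] :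
    ∃ l : L →ₗ[k] k, IsFrob l := by
  have : IsArtinianRing L := IsArtinianRing.of_finite k L
  obtain ⟨a, ha0, ha⟩ := ArtinInj.exists_socle (L := L)
  obtain ⟨l, hl⟩ := Module.Projective.exists_dual_ne_zero k ha0
  refine ⟨l, fun x hx => ?_⟩
  by_contra hx0
  obtain ⟨y, hy0, hy⟩ := exists_mul_socle x hx0
  obtain ⟨c, hc⟩ := socle_unique (x * y) a hy0 hy ha
  apply hl
  rw [hc, mul_assoc]
  exact hx _

end Local

section Field

variable {k C : Type u} [Field k] [CommRing C] [Algebra k C] [FiniteDimensional k C]

theorem exists_isFrob_of_isGorensteinRing [LocCoh.IsGorensteinRing C] :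
    ∃ l : C →ₗ[k] k, IsFrob l := by
  have hart : IsArtinianRing C := IsArtinianRing.of_finite k C
  have hfin (p : PrimeSpectrum C) : FiniteDimensional k (Localization.AtPrime p.asIdeal) :=
    Module.Finite.of_surjective
      (IsScalarTower.toAlgHom k C (Localization.AtPrime p.asIdeal)).toLinearMap
      (IsArtinianRing.localization_surjective p.asIdeal.primeCompl _)
  have hinj (p : PrimeSpectrum C) : Module.Injective (Localization.AtPrime p.asIdeal)
      (Localization.AtPrime p.asIdeal) := by
    have := LocCoh.IsGorensteinRing.isGorensteinLocalRing_localization p.asIdeal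
    obtain ⟨n, hn⟩ := this.exists_hasInjectiveDimensionLT
    exact ArtinInj.injective_of_hasInjectiveDimensionLT n hn
  choose l hl using fun p : PrimeSpectrum C =>
    exists_isFrob_of_local (k := k) (L := Localization.AtPrime p.asIdeal)
  have : Finite (PrimeSpectrum C) := inferInstance
  have := Fintype.ofFinite (PrimeSpectrum C)
  refine ⟨∑ p, (l p) ∘ₗ (IsScalarTower.toAlgHom k C (Localization.AtPrime p.asIdeal)).toLinearMap,
    fun x hx => ?_⟩
  have hdisc : DiscreteTopology (PrimeSpectrum C) := inferInstance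
  apply (PrimeSpectrum.toPiLocalization_bijective (R := C)).1
  rw [map_zero]
  funext p
  apply hl p
  intro y
  classical
  obtain ⟨z, hz⟩ := (PrimeSpectrum.toPiLocalization_bijective (R := C)).2 (Pi.single p y)
  have h1 := hx z
  have h2 (q : PrimeSpectrum C) : algebraMap C (Localization.AtPrime q.asIdeal) z =
      (Pi.single p y : PrimeSpectrum.PiLocalization C) q := congr($hz q)
  rw [LinearMap.sum_apply, Finset.sum_eq_single p] at h1
  · have h3 := h2 p
    rw [Pi.single_eq_same] at h3
    rw [← h3]
    change l p (algebraMap C (Localization.AtPrime p.asIdeal) x *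
      algebraMap C (Localization.AtPrime p.asIdeal) z) = 0
    simpa using h1
  · intro q _ hq
    have h3 := h2 q
    rw [Pi.single_eq_of_ne hq] at h3
    simp [h3]
  · simp

end Field

end Groth.Agent.Models2.Frobenius
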