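import Groth.Agent.PerfC.ExtZero2
import Groth.Agent.PerfA.ExtZero
import Groth.Agent.Models2.ExtMVAbs

/-!
# The functor `U ↦ T_U = j_! j^*` on the opens of a scheme

* `TT X : X.Opens ⥤ (X.Modules ⥤ X.Modules)`; `(TT X).obj U` is exact and additive.
* `isIso_inc_top`, `isZero_T_bot`, `mvSC_shortExact` (Mayer-Vietoris).
* `isoTT h N : T V (T W N) ≅ T V N` and `isoTOU h : OU V ≅ T V (OU W)` for `V ≤ W`.
-/

set_option autoImplicit false

universe u

open CategoryTheory CategoryTheory.Limits AlgebraicGeometry Opposite TopologicalSpace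

namespace Groth.Agent.Models2.TOpen

open Groth.Agent.PerfC.ExtZero Groth.Agent.PerfA.ExtZero Groth.Agent.Models2.ExtMVAbs

variable {X : Scheme.{u}}

lemma LocZero.of_le {U V : X.Opens} (h : V ≤ U) {N : X.Modules} {W : X.Opens} {s : Γ(N, W)}
    (hs : LocZero V N W s) : LocZero U N W s :=
  fun x hx hxU => hs x hx (fun hxV => hxU (h hxV))

/-- The inclusion `T_U N ⟶ N`. -/
noncomputable def inc (U : X.Opens) (N : X.Modules) : (TF U).obj N ⟶ N := incl U N

instance mono_inc (U : X.Opens) (N : X.Modules) : Mono (inc U N) := mono_incl U N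

@[reassoc]
lemma map_inc (U : X.Opens) {M N : X.Modules} (φ : M ⟶ N) :
    (TF U).map φ ≫ inc U N = inc U M ≫ φ := TF_map_incl U φ

lemma inc_app_injective (U : X.Opens) (N : X.Modules) (V : X.Opens) :
    Function.Injective ((inc U N).app V) := incl_app_injective U N V

lemma inc_app_mem (U : X.Opens) (N : X.Modules) (V : X.Opens) (s : Γ((TF U).obj N, V)) :
    LocZero U N V ((inc U N).app V s) := incl_app_mem U N V s

lemma exists_inc_app {U : X.Opens} {N : X.Modules} {V : X.Opens} {s : Γ(N, V)}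
    (hs : LocZero U N V s) : ∃ t : Γ((TF U).obj N, V), (inc U N).app V t = s :=
  exists_incl_app U hs

lemma inc_app_bijective_of_le (U : X.Opens) (N : X.Modules) {V : X.Opens} (hV : V ≤ U) :
    Function.Bijective ((inc U N).app V) := incl_app_bijective_of_le U N hV

/-- A morphism `M ⟶ N` whose values vanish near the points outside `U` factors through `T_U N`. -/
noncomputable def liftT {U : X.Opens} {M N : X.Modules} (φ : M ⟶ N) (h : Fac U φ) :
    M ⟶ (TF U).obj N := lift φ h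

@[reassoc (attr := simp)]
lemma liftT_inc {U : X.Opens} {M N : X.Modules} (φ : M ⟶ N) (h : Fac U φ) :
    liftT φ h ≫ inc U N = φ := lift_incl φ h

lemma fac_inc_of_le {U V : X.Opens} (h : V ≤ U) (N : X.Modules) : Fac U (inc V N) :=
  fun W s => LocZero.of_le h (inc_app_mem V N W s)

lemma fac_inc (U : X.Opens) (N : X.Modules) : Fac U (inc U N) := fac_inc_of_le le_rfl N

/-- The inclusion `T_V N ⟶ T_U N` for `V ≤ U`. -/
noncomputable def tr {U V : X.Opens} (h : V ≤ U) (N : X.Modules) :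
    (TF V).obj N ⟶ (TF U).obj N :=
  liftT (inc V N) (fac_inc_of_le h N)

@[reassoc (attr := simp)]
lemma tr_inc {U V : X.Opens} (h : V ≤ U) (N : X.Modules) : tr h N ≫ inc U N = inc V N :=
  liftT_inc _ _

instance mono_tr {U V : X.Opens} (h : V ≤ U) (N : X.Modules) : Mono (tr h N) := by
  have : Mono (tr h N ≫ inc U N) := by
    rw [tr_inc]
    infer_instance
  exact mono_of_mono _ (inc U N)

@[reassoc]
lemma tr_naturality {U V : X.Opens} (h : V ≤ U) {M N : X.Modules} (φ : M ⟶ N) :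
    (TF V).map φ ≫ tr h N = tr h M ≫ (TF U).map φ := by
  rw [← cancel_mono (inc U N), Category.assoc, tr_inc, Category.assoc, map_inc, map_inc,
    tr_inc_assoc]

lemma tr_refl (U : X.Opens) (N : X.Modules) : tr (le_refl U) N = 𝟙 _ := by
  rw [← cancel_mono (inc U N), tr_inc, Category.id_comp]

@[reassoc (attr := simp)]
lemma tr_tr {U V W : X.Opens} (h : V ≤ U) (h' : W ≤ V) (N : X.Modules) :
    tr h' N ≫ tr h N = tr (h'.trans h) N := by
  rw [← cancel_mono (inc U N), Category.assoc, tr_inc, tr_inc, tr_inc]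

variable (X) in
/-- The functor `U ↦ T_U`. -/
noncomputable def TT : X.Opens ⥤ (X.Modules ⥤ X.Modules) where
  obj U := TF U
  map {V U} i :=
    { app := fun N => tr (leOfHom i) N
      naturality := fun _ _ φ => tr_naturality (leOfHom i) φ }
  map_id U := NatTrans.ext (funext fun N => tr_refl U N)
  map_comp {U V W} i j := NatTrans.ext (funext fun N => (tr_tr (leOfHom j) (leOfHom i) N).symm)

@[simp]
lemma TT_obj (U : X.Opens) : (TT X).obj U = TF U := rfl

@[simp]
lemma TT_map_app {U V : X.Opens} (i : V ⟶ U) (N : X.Modules) :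
    ((TT X).map i).app N = tr (leOfHom i) N := rfl

instance additive_TF (U : X.Opens) : (TF U).Additive where
  map_add {M N f g} := by
    rw [← cancel_mono (inc U N), Preadditive.add_comp, map_inc, map_inc, map_inc,
      Preadditive.comp_add]

/-- `T_U ≅ j_! j^*`. -/
noncomputable def isoTF {Y : Scheme.{u}} (j : Y ⟶ X) [IsOpenImmersion j] :
    TF j.opensRange ≅ Scheme.Modules.restrictFunctor j ⋙ jShriek j :=
  NatIso.ofComponents (fun N => @asIso _ _ _ _ (tEta j N) (isIso_tEta j N))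
    (fun φ => tEta_naturality j φ)

instance preservesFiniteLimits_TF (U : X.Opens) : PreservesFiniteLimits (TF U) := by
  have h : PreservesFiniteLimits (TF U.ι.opensRange) :=
    preservesFiniteLimits_of_natIso (isoTF U.ι).symm
  rwa [Scheme.Opens.opensRange_ι] at h

instance preservesFiniteColimits_restrictFunctor {Y : Scheme.{u}} (j : Y ⟶ X)
    [IsOpenImmersion j] : PreservesFiniteColimits (Scheme.Modules.restrictFunctor j) := by
  have : (Scheme.Modules.restrictFunctor j).IsLeftAdjoint :=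
    (Scheme.Modules.restrictAdjunction j).isLeftAdjoint
  infer_instance

instance preservesFiniteColimits_TF (U : X.Opens) : PreservesFiniteColimits (TF U) := by
  have h : PreservesFiniteColimits (TF U.ι.opensRange) :=
    preservesFiniteColimits_of_natIso (isoTF U.ι).symm
  rwa [Scheme.Opens.opensRange_ι] at h

instance (U : X.Opens) : ((TT X).obj U).Additive := additive_TF U

instance (U : X.Opens) : PreservesFiniteLimits ((TT X).obj U) := preservesFiniteLimits_TF U

instance (U : X.Opens) : PreservesFiniteColimits ((TT X).obj U) := preservesFiniteColimits_TF U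

/-! ### `T_⊤` and `T_⊥` -/

instance isIso_inc_top (N : X.Modules) : IsIso (inc (⊤ : X.Opens) N) := by
  rw [Scheme.Modules.Hom.isIso_iff_isIso_app]
  intro V
  rw [ConcreteCategory.isIso_iff_bijective]
  exact inc_app_bijective_of_le ⊤ N le_top

/-- `T_⊤ N ≅ N`. -/
noncomputable def isoTop (N : X.Modules) : (TF ⊤).obj N ≅ N := asIso (inc ⊤ N)

@[simp]
lemma isoTop_hom (N : X.Modules) : (isoTop N).hom = inc ⊤ N := rfl

@[reassoc (attr := simp)]
lemma isoTop_inv_inc (N : X.Modules) : (isoTop N).inv ≫ inc ⊤ N = 𝟙 N :=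
  (isoTop N).inv_hom_id

@[reassoc]
lemma tr_isoTop_hom (V : X.Opens) (N : X.Modules) :
    tr (le_top : V ≤ ⊤) N ≫ (isoTop N).hom = inc V N := tr_inc _ N

@[reassoc]
lemma inc_isoTop_inv (V : X.Opens) (N : X.Modules) :
    inc V N ≫ (isoTop N).inv = tr (le_top : V ≤ ⊤) N := by
  rw [← cancel_mono (isoTop N).hom, Category.assoc, Iso.inv_hom_id, Category.comp_id,
    tr_isoTop_hom]

lemma isZero_T_bot (N : X.Modules) : IsZero ((TF (⊥ : X.Opens)).obj N) := by
  rw [IsZero.iff_id_eq_zero, ← cancel_mono (inc ⊥ N), Category.id_comp, zero_comp]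
  ext V s
  refine (?_ : _ = (0 : Γ(N, V)))
  choose W hW hxW e using inc_app_mem ⊥ N V s
  refine TopCat.Sheaf.eq_of_locally_eq' ⟨N.presheaf, N.isSheaf⟩
    (fun x : V => W x.1 x.2 id) V (fun x => homOfLE (hW x.1 x.2 id))
    (fun x hx => Opens.mem_iSup.2 ⟨⟨x, hx⟩, hxW x hx id⟩) _ _ (fun x => ?_)
  rw [map_zero]
  exact e x.1 x.2 id

/-! ### Mayer-Vietoris -/

/-- The functor `U ↦ T_U N`. -/
noncomputable def Φ (N : X.Modules) : X.Opens ⥤ X.Modules := (TT X).flip.obj N

@[simp]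
lemma Φ_obj (N : X.Modules) (U : X.Opens) : (Φ N).obj U = (TF U).obj N := rfl

@[simp]
lemma Φ_map (N : X.Modules) {V U : X.Opens} (i : V ⟶ U) : (Φ N).map i = tr (leOfHom i) N := rfl

lemma isZero_Φ_bot (N : X.Modules) : IsZero ((Φ N).obj ⊥) := isZero_T_bot N

variable (U V : X.Opens) (N : X.Modules)

lemma tr_app_surjective {U V : X.Opens} (h : V ≤ U) (N : X.Modules) {O : X.Opens} (hO : O ≤ V)
    (t : Γ((TF U).obj N, O)) : ∃ t' : Γ((TF V).obj N, O), (tr h N).app O t' = t := by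
  obtain ⟨t', ht'⟩ := (inc_app_bijective_of_le V N hO).2 ((inc U N).app O t)
  refine ⟨t', inc_app_injective U N O ?_⟩
  rw [← ht', ← ConcreteCategory.comp_apply, ← Scheme.Modules.Hom.comp_app, tr_inc]

lemma app_eq_zero_of_tr {U V : X.Opens} (h : V ≤ U) {N M : X.Modules} (c : (TF U).obj N ⟶ M)
    (hc : tr h N ≫ c = 0) {O : X.Opens} (hO : O ≤ V) (t : Γ((TF U).obj N, O)) :
    c.app O t = 0 := by
  obtain ⟨t', rfl⟩ := tr_app_surjective h N hO t
  rw [← ConcreteCategory.comp_apply, ← Scheme.Modules.Hom.comp_app, hc]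
  rfl

lemma mv_hom_ext {M : X.Modules} {a b : (TF (U ⊔ V)).obj N ⟶ M}
    (h₁ : tr (le_sup_left : U ≤ U ⊔ V) N ≫ a = tr (le_sup_left : U ≤ U ⊔ V) N ≫ b)
    (h₂ : tr (le_sup_right : V ≤ U ⊔ V) N ≫ a = tr (le_sup_right : V ≤ U ⊔ V) N ≫ b) : a = b := by
  rw [← sub_eq_zero] at h₁ h₂ ⊢
  rw [← Preadditive.comp_sub] at h₁ h₂
  generalize a - b = c at h₁ h₂
  ext O s
  refine (?_ : _ = (0 : Γ(M, O)))
  have hloc : ∀ x : O, ∃ (W : X.Opens) (h : W ≤ O), x.1 ∈ W ∧
      M.presheaf.map (homOfLE h).op (c.app O s) = 0 := by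
    rintro ⟨x, hx⟩
    by_cases hxU : x ∈ U
    · refine ⟨O ⊓ U, inf_le_left, ⟨hx, hxU⟩, ?_⟩
      rw [app_map]
      exact app_eq_zero_of_tr _ c h₁ inf_le_right _
    · by_cases hxV : x ∈ V
      · refine ⟨O ⊓ V, inf_le_left, ⟨hx, hxV⟩, ?_⟩
        rw [app_map]
        exact app_eq_zero_of_tr _ c h₂ inf_le_right _
      · obtain ⟨W, hW, hxW, e⟩ := suppIn_T (U ⊔ V) N O s x hx (fun h => h.elim hxU hxV)
        exact ⟨W, hW, hxW, by rw [app_map]; exact (congrArg _ e).trans (map_zero' c W)⟩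
  choose W hW hxW e using hloc
  refine TopCat.Sheaf.eq_of_locally_eq' ⟨M.presheaf, M.isSheaf⟩ W O (fun x => homOfLE (hW x))
    (fun x hx => Opens.mem_iSup.2 ⟨⟨x, hx⟩, hxW _⟩) _ _ (fun x => ?_)
  rw [map_zero]
  exact e x

/-- `T_{U ∩ V} N ⟶ T_U N ⊞ T_V N`. -/
noncomputable def mvf : (TF (U ⊓ V)).obj N ⟶ (TF U).obj N ⊞ (TF V).obj N :=
  biprod.lift (tr inf_le_left N) (- tr inf_le_right N)

/-- `T_U N ⊞ T_V N ⟶ T_{U ∪ V} N`. -/
noncomputable def mvg : (TF U).obj N ⊞ (TF V).obj N ⟶ (TF (U ⊔ V)).obj N :=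
  biprod.desc (tr le_sup_left N) (tr le_sup_right N)

lemma mvf_mvg : mvf U V N ≫ mvg U V N = 0 := by
  rw [mvf, mvg, biprod.lift_desc, Preadditive.neg_comp, tr_tr, tr_tr, add_neg_cancel]

instance mono_mvf : Mono (mvf U V N) := by
  have : Mono (mvf U V N ≫ biprod.fst) := by
    rw [mvf, biprod.lift_fst]
    exact mono_tr _ N
  exact mono_of_mono _ biprod.fst

instance epi_mvg : Epi (mvg U V N) := by
  refine ⟨fun {M} a b h => ?_⟩
  have h1 := congrArg (biprod.inl ≫ ·) h
  have h2 := congrArg (biprod.inr ≫ ·) h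
  simp only [mvg, biprod.inl_desc_assoc, biprod.inr_desc_assoc] at h1 h2
  exact mv_hom_ext U V N h1 h2

lemma fac_inf {K : X.Modules} (φ : K ⟶ N) (h₁ : Fac U φ) (h₂ : Fac V φ) : Fac (U ⊓ V) φ := by
  intro W s x hx hxUV
  by_cases hxU : x ∈ U
  · exact h₂ W s x hx (fun hxV => hxUV ⟨hxU, hxV⟩)
  · exact h₁ W s x hx hxU

lemma exists_mvf_lift {K : X.Modules} (k : K ⟶ (TF U).obj N ⊞ (TF V).obj N)
    (hk : k ≫ mvg U V N = 0) : ∃ l : K ⟶ (TF (U ⊓ V)).obj N, l ≫ mvf U V N = k := by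
  obtain ⟨k₁, k₂, rfl⟩ : ∃ (k₁ : K ⟶ (TF U).obj N) (k₂ : K ⟶ (TF V).obj N),
      k = biprod.lift k₁ k₂ :=
    ⟨k ≫ biprod.fst, k ≫ biprod.snd, by
      apply biprod.hom_ext
      · rw [biprod.lift_fst]
      · rw [biprod.lift_snd]⟩
  rw [mvg, biprod.lift_desc] at hk
  have h' : k₁ ≫ inc U N = - (k₂ ≫ inc V N) := by
    have := congrArg (· ≫ inc (U ⊔ V) N) hk
    simp only [Preadditive.add_comp, Category.assoc, tr_inc, zero_comp] at this
    exact eq_neg_of_add_eq_zero_left this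
  have hf₁ : Fac U (k₁ ≫ inc U N) := Fac.precomp k₁ (fac_inc U N)
  have hf₂ : Fac V (k₁ ≫ inc U N) := by
    rw [h', ← Preadditive.neg_comp]
    exact Fac.precomp _ (fac_inc V N)
  refine ⟨liftT (k₁ ≫ inc U N) (fac_inf U V N _ hf₁ hf₂), ?_⟩
  rw [mvf]
  apply biprod.hom_ext
  · rw [Category.assoc, biprod.lift_fst, biprod.lift_fst]
    refine (cancel_mono (inc U N)).1 ?_
    rw [Category.assoc, tr_inc, liftT_inc]
  · rw [Category.assoc, biprod.lift_snd, biprod.lift_snd]
    refine (cancel_mono (inc V N)).1 ?_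
    rw [Category.assoc, Preadditive.neg_comp, tr_inc, Preadditive.comp_neg, liftT_inc, h',
      neg_neg]

theorem mv_shortExact : (ShortComplex.mk (mvf U V N) (mvg U V N) (mvf_mvg U V N)).ShortExact where
  exact := ShortComplex.exact_of_f_is_kernel _ (KernelFork.IsLimit.ofι _ _
    (fun k hk => (exists_mvf_lift U V N k hk).choose)
    (fun k hk => (exists_mvf_lift U V N k hk).choose_spec)
    (fun k hk m hm => (cancel_mono (mvf U V N)).1
      (hm.trans (exists_mvf_lift U V N k hk).choose_spec.symm)))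
  mono_f := mono_mvf U V N
  epi_g := epi_mvg U V N

theorem mvSC_shortExact : (mvSC (Φ N) U V).ShortExact := mv_shortExact U V N

/-! ### `T_V T_W = T_V` for `V ≤ W` -/

lemma isIso_map_inc {V W : X.Opens} (h : V ≤ W) (N : X.Modules) :
    IsIso ((TF V).map (inc W N)) := by
  rw [Scheme.Modules.Hom.isIso_iff_isIso_app]
  intro O
  rw [ConcreteCategory.isIso_iff_bijective]
  constructor
  · have : Function.Injective ((inc V N).app O ∘ ((TF V).map (inc W N)).app O) := by
      have e : (inc V N).app O ∘ ((TF V).map (inc W N)).app O =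
          (inc W N).app O ∘ (inc V _).app O := by
        funext s
        have := congrArg (fun z => z.app O s) (map_inc V (inc W N))
        exact this
      rw [e]
      exact (inc_app_injective W N O).comp (inc_app_injective V _ O)
    exact this.of_comp
  · intro t
    have ht := inc_app_mem V N O t
    obtain ⟨s, hs⟩ := exists_inc_app (LocZero.of_le h ht)
    have hs' : LocZero V ((TF W).obj N) O s := by
      intro x hx hxV
      obtain ⟨O', hO', hxO', e⟩ := ht x hx hxV
      refine ⟨O', hO', hxO', inc_app_injective W N O' ?_⟩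
      rw [← app_map, hs, e]
      exact (map_zero' (inc W N) O').symm
    obtain ⟨r, hr⟩ := exists_inc_app hs'
    refine ⟨r, inc_app_injective V N O ?_⟩
    have := congrArg (fun z => z.app O r) (map_inc V (inc W N))
    refine this.trans ?_
    change (inc W N).app O ((inc V _).app O r) = _
    rw [hr, hs]

/-- `T_V T_W N ≅ T_V N` for `V ≤ W`. -/
noncomputable def isoTT {V W : X.Opens} (h : V ≤ W) (N : X.Modules) :
    (TF V).obj ((TF W).obj N) ≅ (TF V).obj N :=
  @asIso _ _ _ _ ((TF V).map (inc W N)) (isIso_map_inc h N)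

lemma isoTT_hom {V W : X.Opens} (h : V ≤ W) (N : X.Modules) :
    (isoTT h N).hom = (TF V).map (inc W N) := rfl

@[reassoc]
lemma tr_isoTT_hom {V V' W : X.Opens} (h : V ≤ W) (h' : V' ≤ V) (N : X.Modules) :
    tr h' ((TF W).obj N) ≫ (isoTT h N).hom = (isoTT (h'.trans h) N).hom ≫ tr h' N :=
  (tr_naturality h' (inc W N)).symm

/-! ### `T_V (OU W) = OU V` for `V ≤ W` -/

lemma exists_split_inc_OU (V : X.Opens) : ∃ r : OU V ⟶ (TF V).obj (OU V),
    r ≫ inc V (OU V) = 𝟙 (OU V) := by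
  obtain ⟨t, ht⟩ := (inc_app_bijective_of_le V (OU V) (le_refl V)).2 (gen V)
  refine ⟨desc t, ?_⟩
  rw [desc_comp, ht]
  apply Groth.Agent.PerfA.ExtZero.hom_ext
  rw [desc_app_gen]
  rfl

instance isIso_inc_OU (V : X.Opens) : IsIso (inc V (OU V)) := by
  obtain ⟨r, hr⟩ := exists_split_inc_OU V
  refine ⟨r, ?_, hr⟩
  rw [← cancel_mono (inc V (OU V)), Category.assoc, hr, Category.comp_id, Category.id_comp]

lemma bijective_OUF_map_comp {V W : X.Opens} (i : V ⟶ W) (M : X.Modules)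
    (hM : Function.Bijective (M.presheaf.map i.op)) :
    Function.Bijective (fun g : OU W ⟶ M => (OUF X).map i ≫ g) := by
  have : (fun g : OU W ⟶ M => (OUF X).map i ≫ g) =
      (homEquiv V M).symm ∘ (M.presheaf.map i.op) ∘ (homEquiv W M) := by
    funext g
    obtain ⟨s, rfl⟩ := desc_surjective g
    rw [map_desc]
    change _ = (homEquiv V M).symm (M.presheaf.map i.op (homEquiv W M (desc s)))
    rw [homEquiv_apply, desc_app_gen]
    rfl
  rw [this]
  exact (homEquiv V M).symm.bijective.comp (hM.comp (homEquiv W M).bijective)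

lemma isIso_restrict_OUF_map {Y : Scheme.{u}} (j : Y ⟶ X) [IsOpenImmersion j] {V W : X.Opens}
    (i : V ⟶ W) (h : j ⁻¹ᵁ V = j ⁻¹ᵁ W) :
    IsIso ((Scheme.Modules.restrictFunctor j).map ((OUF X).map i)) := by
  rw [isIso_iff_coyoneda_map_bijective]
  intro M
  let adj := Scheme.Modules.restrictAdjunction j
  have hM : Function.Bijective (((Scheme.Modules.pushforward j).obj M).presheaf.map i.op) := by
    rw [← ConcreteCategory.isIso_iff_bijective]
    have e : IsIso (homOfLE (j.preimage_mono (leOfHom i)) : j ⁻¹ᵁ V ⟶ j ⁻¹ᵁ W) :=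
      ⟨homOfLE h.ge, Subsingleton.elim _ _, Subsingleton.elim _ _⟩
    exact inferInstanceAs (IsIso (M.presheaf.map
      (homOfLE (j.preimage_mono (leOfHom i)) : j ⁻¹ᵁ V ⟶ j ⁻¹ᵁ W).op))
  have h1 := bijective_OUF_map_comp i _ hM
  have h2 : (fun g : (Scheme.Modules.restrictFunctor j).obj (OU W) ⟶ M =>
      (Scheme.Modules.restrictFunctor j).map ((OUF X).map i) ≫ g) =
      (adj.homEquiv _ _).symm ∘ (fun g => (OUF X).map i ≫ g) ∘ (adj.homEquiv _ _) := by
    funext g
    change _ = (adj.homEquiv _ _).symm ((OUF X).map i ≫ adj.homEquiv _ _ g)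
    rw [adj.homEquiv_naturality_left_symm, Equiv.symm_apply_apply]
  rw [h2]
  exact (Equiv.bijective _).comp (h1.comp (Equiv.bijective _))

lemma isIso_jShriek_restrict {Y : Scheme.{u}} (j : Y ⟶ X) [IsOpenImmersion j] {M N : X.Modules}
    (f : M ⟶ N) (h : IsIso ((Scheme.Modules.restrictFunctor j).map f)) :
    IsIso ((TF j.opensRange).map f) := by
  have := (NatIso.isIso_map_iff (isoTF j) f).2
    (inferInstanceAs (IsIso ((jShriek j).map ((Scheme.Modules.restrictFunctor j).map f))))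
  exact this

lemma isIso_TF_map_OUF_map {V W : X.Opens} (i : V ⟶ W) : IsIso ((TF V).map ((OUF X).map i)) := by
  have h1 : V.ι ⁻¹ᵁ V = V.ι ⁻¹ᵁ W := by
    rw [Scheme.Opens.ι_preimage_self]
    exact (top_le_iff.1 ((Scheme.Opens.ι_preimage_self V).symm.le.trans
      (V.ι.preimage_mono (leOfHom i)))).symm
  have h := isIso_jShriek_restrict V.ι _ (isIso_restrict_OUF_map V.ι i h1)
  rwa [Scheme.Opens.opensRange_ι] at h

/-- `OU V ≅ T_V (OU W)` for `V ≤ W`. -/
noncomputable def isoTOU {V W : X.Opens} (h : V ≤ W) : OU V ≅ (TF V).obj (OU W) :=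
  (@asIso _ _ _ _ (inc V (OU V)) (isIso_inc_OU V)).symm ≪≫
    @asIso _ _ _ _ ((TF V).map ((OUF X).map (homOfLE h))) (isIso_TF_map_OUF_map _)

@[reassoc]
lemma inc_isoTOU_hom {V W : X.Opens} (h : V ≤ W) :
    inc V (OU V) ≫ (isoTOU h).hom = (TF V).map ((OUF X).map (homOfLE h)) := by
  rw [isoTOU, Iso.trans_hom, Iso.symm_hom, asIso_inv, asIso_hom, IsIso.hom_inv_id_assoc]

@[reassoc (attr := simp)]
lemma isoTOU_hom_inc {V W : X.Opens} (h : V ≤ W) :
    (isoTOU h).hom ≫ inc V (OU W) = (OUF X).map (homOfLE h) := by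
  rw [← cancel_epi (inc V (OU V)), inc_isoTOU_hom_assoc, map_inc]

@[reassoc]
lemma isoTOU_hom_tr {V V' W : X.Opens} (h : V ≤ W) (h' : V' ≤ V) :
    (isoTOU (h'.trans h)).hom ≫ tr h' (OU W) = (OUF X).map (homOfLE h') ≫ (isoTOU h).hom := by
  rw [← cancel_mono (inc V (OU W)), Category.assoc, tr_inc, isoTOU_hom_inc, Category.assoc,
    isoTOU_hom_inc, ← Functor.map_comp]
  rfl

end Groth.Agent.Models2.TOpen
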