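import Groth.Agent.Models2.GermFree
import Groth.Agent.Models2.ExtGerm
import Groth.Agent.Models2.TOpen
import Groth.Agent.Dcoh.FinLocFree
import Groth.Agent.PerfB.TildeExact
import Groth.Agent.PerfB.QCohLocal

/-!
# Germ vanishing of `Ext^n(T_V F, G)` for modules with finite free resolutions near a point
-/

set_option autoImplicit false

universe w u

open CategoryTheory CategoryTheory.Limits AlgebraicGeometry Opposite TopologicalSpace Abelian

namespace Groth.Agent.Models2.GermCoh

open Groth.Agent.Models2.ExtMVAbs Groth.Agent.Models2.FreeRes Groth.Agent.Models2.GermFree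
open Groth.Agent.Models2.ExtGerm Groth.Agent.Models2.TOpen Groth.Agent.PerfA.ExtZero
open Groth.Agent.PerfC.ExtZero

variable {X : Scheme.{u}}

/-- `j_! O_X` for the whole space is the structure module. -/
noncomputable def isoOUtop (X : Scheme.{u}) : OU (⊤ : X.Opens) ≅ Coh.structureModule X where
  hom := desc (Groth.Agent.Dcoh.FinLocFree.unitSec (𝟙 (Coh.structureModule X)))
  inv := Groth.Agent.Dcoh.FinLocFree.ofSec (gen (⊤ : X.Opens))
  hom_inv_id := by
    rw [desc_comp]
    apply Groth.Agent.PerfA.ExtZero.hom_ext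
    rw [desc_app_gen, ← Groth.Agent.Dcoh.FinLocFree.unitSec_comp, Category.id_comp,
      Groth.Agent.Dcoh.FinLocFree.unitSec_ofSec]
    rfl
  inv_hom_id := by
    apply Groth.Agent.Dcoh.FinLocFree.hom_ext_unit
    rw [Groth.Agent.Dcoh.FinLocFree.unitSec_comp, Groth.Agent.Dcoh.FinLocFree.unitSec_ofSec,
      desc_app_gen]

/-- `j_! (A~) ≅ j_! O`. -/
noncomputable def isoOU {R : CommRingCat.{u}} (j : Spec R ⟶ X) [IsOpenImmersion j] :
    (jShriek j).obj ((tilde.functor R).obj (ModuleCat.of R R)) ≅ OU j.opensRange :=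
  (jShriek j).mapIso (Groth.Agent.Dcoh.FinLocFree.unitRes j) ≪≫
    (isoTF j).symm.app (Coh.structureModule X) ≪≫
      (TF j.opensRange).mapIso (isoOUtop X).symm ≪≫ (isoTOU le_top).symm

variable [HasExt.{w} X.Modules]

theorem germZero_OU (W : X.Opens) (x : X) (hx : x ∈ W) (n : ℕ) :
    GermZero (TT X) x (n + 1) (OU W) := by
  intro G V hxV a
  obtain ⟨W', hW', hxW', hW'a⟩ := OU_germ n G (V ⊓ W) x ⟨hxV, hx⟩
    ((Ext.mk₀ ((isoTOU (inf_le_right : V ⊓ W ≤ W)).hom ≫
      tr (inf_le_left : V ⊓ W ≤ V) (OU W))).comp a (zero_add _))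
  refine ⟨W', hW'.trans inf_le_left, hxW', ?_⟩
  change (Ext.mk₀ (tr (hW'.trans inf_le_left) (OU W))).comp a (zero_add _) = 0
  rw [Ext.mk₀_comp_mk₀_assoc, ← isoTOU_hom_tr_assoc, tr_tr] at hW'a
  have e : tr (hW'.trans inf_le_left) (OU W) =
      (isoTOU (hW'.trans (inf_le_right : V ⊓ W ≤ W))).inv ≫
        (isoTOU (hW'.trans (inf_le_right : V ⊓ W ≤ W))).hom ≫
          tr (hW'.trans inf_le_left) (OU W) := by
    rw [Iso.inv_hom_id_assoc]
  rw [e, ← Ext.mk₀_comp_mk₀_assoc, hW'a, Ext.comp_zero]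

/-- If `F` restricted to an affine neighbourhood of `x` has a finite free resolution of length
`≤ m` then the classes in `Ext^n(T_V F, G)`, `n > m`, vanish near `x`. -/
theorem germZero_of_freeRes (F : X.Modules) (hF : Coh.IsQCoh F) {R : CommRingCat.{u}}
    (j : Spec R ⟶ X) [IsOpenImmersion j] (x : X) (hx : x ∈ j.opensRange) {m : ℕ}
    (h : FreeRes m (moduleSpecΓFunctor.obj (F.restrict j))) (n : ℕ) (hn : m < n) :
    GermZero (TT X) x n F := by
  have h1 : GermZero (TT X) x n ((tilde.functor R ⋙ jShriek j).obj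
      (moduleSpecΓFunctor.obj (F.restrict j))) := by
    refine GermFree.germZero_of_freeRes (T := TT X) (tilde.functor R ⋙ jShriek j)
      (fun k => ?_) h n hn
    exact (germZero_OU j.opensRange x hx k).of_iso' (isoOU j)
  have h2 : GermZero (TT X) x n ((TF j.opensRange).obj F) := by
    refine h1.of_iso' ?_
    exact (isoTF j).app F ≪≫ (jShriek j).mapIso
      (Groth.Agent.PerfB.QCohLocal.tildeΓIso (F.restrict j)
        (Groth.Agent.PerfB.QCohLocal.isQCoh_restrict j F hF)).symm
  exact h2.of_iso j.opensRange hx (fun V hV => (isoTT hV F).symm) (fun {V V'} hV h' => by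
    have := tr_isoTT_hom hV h' F
    change tr h' F ≫ (isoTT hV F).inv = (isoTT (h'.trans hV) F).inv ≫ tr h' _
    rw [Iso.comp_inv_eq, Category.assoc, this, Iso.inv_hom_id_assoc])

end Groth.Agent.Models2.GermCoh
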