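import Groth.Agent.Models2.ExtMVAbs
import Groth.Agent.Models2.FreeRes

/-!
# Germ vanishing for modules with finite free resolutions
-/

set_option autoImplicit false

universe w v u t s

open CategoryTheory CategoryTheory.Limits TopologicalSpace Abelian

namespace Groth.Agent.Models2.GermFree

open Groth.Agent.Models2.ExtMVAbs Groth.Agent.Models2.FreeRes

variable {X : Type t} [TopologicalSpace X] {C : Type u} [Category.{v} C] [Abelian C]
  [HasExt.{w} C] {T : Opens X ⥤ (C ⥤ C)} [∀ V, (T.obj V).Additive]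

theorem germZero_free {A : Type s} [CommRing A] (Φ : ModuleCat.{s} A ⥤ C) [Φ.Additive] {x : X}
    {n : ℕ} (h : GermZero T x n (Φ.obj (ModuleCat.of A A))) (k : ℕ) :
    GermZero T x n (Φ.obj (ModuleCat.of A (Fin k → A))) := by
  induction k with
  | zero =>
    apply GermZero.of_isZero
    apply Φ.map_isZero
    exact ModuleCat.isZero_of_subsingleton _
  | succ k ih =>
    refine (h.biprod ih).of_iso' ?_
    haveI : PreservesBinaryBiproducts Φ := preservesBinaryBiproducts_of_preservesBiproducts Φ
    refine Φ.mapIso ?_ ≪≫ Φ.mapBiprod _ _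
    refine ?_ ≪≫ (ModuleCat.biprodIsoProd (ModuleCat.of A A) (ModuleCat.of A (Fin k → A))).symm
    exact (Fin.consLinearEquiv A (fun _ : Fin (k + 1) => A)).symm.toModuleIso

variable [∀ V, PreservesFiniteLimits (T.obj V)] [∀ V, PreservesFiniteColimits (T.obj V)]

/-- If `Φ` is an exact functor from `A`-modules to `C` such that all classes in
`Ext^n(T_V (Φ A), G)`, `n > 0`, vanish near `x`, then the classes in `Ext^n(T_V (Φ N), G)` vanish
near `x` for `n > m`, when `N` has a finite free resolution of length `≤ m`. -/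
theorem germZero_of_freeRes {A : Type s} [CommRing A] (Φ : ModuleCat.{s} A ⥤ C) [Φ.Additive]
    [PreservesFiniteLimits Φ] [PreservesFiniteColimits Φ] {x : X}
    (h : ∀ n : ℕ, GermZero T x (n + 1) (Φ.obj (ModuleCat.of A A)))
    {m : ℕ} {N : ModuleCat.{s} A} (hN : FreeRes m N) :
    ∀ n : ℕ, m < n → GermZero T x n (Φ.obj N) := by
  induction hN with
  | free m N k e =>
    intro n hn
    obtain ⟨n, rfl⟩ : ∃ n', n = n' + 1 := ⟨n - 1, by omega⟩
    exact (germZero_free Φ (h n) k).of_iso' (Φ.mapIso e)
  | step m S hS k e h' ih =>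
    intro n hn
    obtain ⟨n, rfl⟩ : ∃ n', n = n' + 1 := ⟨n - 1, by omega⟩
    exact GermZero.of_shortExact (hS.map_of_exact Φ)
      ((germZero_free Φ (h n) k).of_iso' (Φ.mapIso e)) (ih n (by omega))

end Groth.Agent.Models2.GermFree
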