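import Groth.Agent.PerfA.TensDev
import Groth.Agent.PerfA.BddDev
import Groth.Agent.PerfA.QCohExt
import Groth.Agent.PerfA.CohSerre
import Groth.Agent.PerfC.Supp

/-!
# Derived tensor products with a bounded complex: dévissage in the cohomology sheaves of the complex

* `prop_of_homology`: a triangulated property of `D(O_X)` containing `E ⊗^L G` for all `G` in a class `Q` of
  modules contains `E ⊗^L K` for all complexes `K` with bounded cohomology in `Q`.
* `CohT T`: objects with coherent cohomology sheaves supported in `T`, bounded; it is triangulated.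
-/

set_option autoImplicit false
universe u
open CategoryTheory CategoryTheory.Limits CategoryTheory.Pretriangulated AlgebraicGeometry
attribute [local instance] HasDerivedCategory.standard

namespace Groth.Agent.Models2.KerDev775
open Groth.Agent.Dcoh.CxFun Groth.Agent.PerfC.DInd Groth.Agent.PerfC.DBif Groth.Agent.Dcoh.KFlatAbs
  Groth.Agent.Dcoh.KFlatFlip Groth.Agent.Dcoh Groth.Agent.PerfA Groth.Agent.PerfA.TensDev

variable {X : Scheme.{u}}

/-- Dévissage in the cohomology sheaves of the kernel. -/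
theorem prop_of_homology (S : ObjectProperty (DCoh.D X)) [S.IsTriangulated]
    [S.IsClosedUnderIsomorphisms] (K : CochainComplex X.Modules ℤ) (a b : ℤ)
    (hKa : (DCoh.toD X K).IsGE a) (hKb : (DCoh.toD X K).IsLE b) [DCoh.HasLTensorCx K]
    (Q : ObjectProperty X.Modules) [Q.IsClosedUnderIsomorphisms] [Q.ContainsZero]
    (hKQ : CohomIn.coh Q (DCoh.toD X K)) (E : DCoh.D X)
    (h : ∀ G : X.Modules, Q G → ∀ [DCoh.HasLTensorMod G], S ((DCoh.LTensorMod G).obj E)) :
    S ((DCoh.LTensorCx K).obj E) := by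
  obtain ⟨P, hP, ⟨e⟩⟩ := exists_rep E
  obtain ⟨e1⟩ := nonempty_isoQ K hP
  have := presQis hP
  let F : DCoh.D X ⥤ DCoh.D X := ind (DCoh.tensorCx.obj P)
  have hF : F.IsTriangulated := inferInstance
  let e2 : ∀ L : CochainComplex X.Modules ℤ, F.obj (DerivedCategory.Q.obj L) ≅
      DerivedCategory.Q.obj ((DCoh.tensorCx.obj P).obj L) := fun L =>
    (indFactors (DCoh.tensorCx.obj P)).app L
  have key : S.inverseImage F (DCoh.toD X K) := by
    refine BddDev.devissage Q (S.inverseImage F) ?_ ?_ ?_ (DCoh.toD X K) a b hKQ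
    · intro A B e hA
      exact (S.inverseImage F).prop_of_iso e hA
    · intro G i hG
      have hi : DCoh.HasLTensorMod G := LTMod.hasLTensorMod _
      obtain ⟨e3⟩ := nonempty_single_iso G hP
      have h0 : S (F.obj ((DerivedCategory.singleFunctor X.Modules 0).obj G)) :=
        S.prop_of_iso (e2 ((HomologicalComplex.single X.Modules (ComplexShape.up ℤ) 0).obj G) ≪≫ e3 ≪≫
          (DCoh.LTensorMod G).mapIso e).symm (h G hG)
      have h1 : S ((F.obj ((DerivedCategory.singleFunctor X.Modules 0).obj G))⟦(-i : ℤ)⟧) :=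
        S.le_shift (-i) _ h0
      exact S.prop_of_iso (((F.commShiftIso (-i)).app _).symm ≪≫
        F.mapIso (((DerivedCategory.singleFunctors X.Modules).shiftIso (-i) i 0 (by simp)).app G)) h1
    · intro T hT h1 h3
      exact S.ext_of_isTriangulatedClosed₂ _ (F.map_distinguished T hT) h1 h3
  exact S.prop_of_iso (e2 K ≪≫ e1.symm ≪≫ (DCoh.LTensorCx K).mapIso e) key

/-- Coherent modules supported in `T`. -/
def cohT (T : Set X) : ObjectProperty X.Modules := fun M => Coh.IsCoh M ∧ CohB1.support M ⊆ T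

section

variable (T : Set X)

instance : (cohT T).IsClosedUnderIsomorphisms where
  of_iso e h := ⟨CohSerre.isCoh_of_iso e h.1, by
    rw [← Groth.Agent.CohqB.DevSupport.support_congr e]; exact h.2⟩

instance : (cohT T).ContainsZero where
  exists_zero := ⟨_, isZero_zero _, CohSerre.isCoh_of_isZero (isZero_zero _), by
    rw [Groth.Agent.CohqB.DevSupport.support_eq_empty_of_isZero (isZero_zero _)]
    exact Set.empty_subset _⟩

instance [IsLocallyNoetherian X] : (cohT T).IsClosedUnderKernels where
  kernels_le := by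
    rintro _ ⟨f, k, hk, hf⟩
    have e := IsLimit.conePointUniqueUpToIso (kernelIsKernel f) hk
    exact (cohT T).prop_of_iso e ⟨CohSerre.isCoh_kernel f hf.1.1 hf.2.1.1,
      (Groth.Agent.CohqB.DevSupport.support_subset_of_mono (kernel.ι f)).trans hf.1.2⟩

instance : (cohT T).IsClosedUnderCokernels where
  cokernels_le := by
    rintro _ ⟨f, k, hk, hf⟩
    have e := IsColimit.coconePointUniqueUpToIso (cokernelIsCokernel f) hk
    exact (cohT T).prop_of_iso e ⟨CohSerre.isCoh_cokernel f hf.1.1.1 hf.2.1,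
      (Groth.Agent.CohqB.DevSupport.support_subset_of_epi (cokernel.π f)).trans hf.2.2⟩

instance [IsLocallyNoetherian X] : (cohT T).IsClosedUnderExtensions where
  prop_X₂_of_shortExact hS h1 h3 := ⟨QCohExt.isCoh_ext hS h1.1 h3.1,
    (Groth.Agent.PerfC.Supp.support_exact hS.exact).trans (Set.union_subset h1.2 h3.2)⟩

/-- Bounded objects with coherent cohomology sheaves supported in `T`. -/
def bCohT : ObjectProperty (DCoh.D X) := CohomIn.coh (cohT T) ⊓ DerivedCategory.TStructure.t.bounded

instance : (bCohT T).IsClosedUnderIsomorphisms := by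
  unfold bCohT; infer_instance

instance [IsLocallyNoetherian X] : (bCohT T).IsTriangulated := by
  unfold bCohT; infer_instance

theorem bCohT_iff (K : DCoh.D X) : bCohT T K ↔ DCoh.IsCohD K ∧
    (∀ i, CohB1.support (DCoh.HD K i) ⊆ T) ∧ ∃ a b : ℤ, K.IsGE a ∧ K.IsLE b := by
  constructor
  · rintro ⟨h1, ⟨a, ha⟩, ⟨b, hb⟩⟩
    exact ⟨fun i => (h1 i).1, fun i => (h1 i).2, a, b, ha, hb⟩
  · rintro ⟨h1, h2, a, b, ha, hb⟩
    exact ⟨fun i => ⟨h1 i, h2 i⟩, ⟨a, ha⟩, ⟨b, hb⟩⟩

end

/-- The derived tensor product of `E` with a complex `K` with bounded coherent cohomology supported in `T` is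
bounded coherent with support in `T` if this is so for all coherent modules supported in `T`. -/
theorem bCohT_LTensorCx [IsLocallyNoetherian X] (T : Set X) (K : CochainComplex X.Modules ℤ) (a b : ℤ)
    (hKa : (DCoh.toD X K).IsGE a) (hKb : (DCoh.toD X K).IsLE b) [DCoh.HasLTensorCx K]
    (hcoh : DCoh.IsCohD (DCoh.toD X K))
    (hsupp : ∀ i, CohB1.support (DCoh.HD (DCoh.toD X K) i) ⊆ T) (E : DCoh.D X)
    (h : ∀ G : X.Modules, Coh.IsCoh G → CohB1.support G ⊆ T → ∀ [DCoh.HasLTensorMod G],
      bCohT T ((DCoh.LTensorMod G).obj E)) :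
    bCohT T ((DCoh.LTensorCx K).obj E) :=
  prop_of_homology (bCohT T) K a b hKa hKb (cohT T) (fun i => ⟨hcoh i, hsupp i⟩) E
    (fun G hG => h G hG.1 hG.2)

end Groth.Agent.Models2.KerDev775
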