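import Groth.Prelude.Def_LCI2
import Mathlib.RingTheory.Flat.Basic
import Mathlib.RingTheory.Flat.Stability
import Mathlib.Algebra.Category.ModuleCat.Biproducts
import Mathlib.Algebra.Homology.ShortComplex.ModuleCat

/-!
# Koszul complexes with coefficients, elementary form

For a list `l` of elements of `P` and a `P`-module `M` we consider `K(l) ⊗ M`, where `K(l)` is the
Koszul complex in its mapping cone model. `Gr l k M` says that it is exact in
cohomological degrees `< -k`.
-/

universe u v

open CategoryTheory CategoryTheory.Limits TensorProduct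

namespace Groth.Agent.Models2.KoszulTop

variable {P : Type u} [CommRing P]

instance free_X (l : List P) (i : ℤ) : Module.Free P ((Koszul.koszul P l).X i) := by
  induction l generalizing i with
  | nil =>
    by_cases hi : i = 0
    · subst hi
      exact Module.Free.of_equiv (HomologicalComplex.singleObjXSelf (ComplexShape.up ℤ) 0
        (ModuleCat.of P P)).symm.toLinearEquiv
    · have h := HomologicalComplex.isZero_single_obj_X (ComplexShape.up ℤ) 0
        (ModuleCat.of P P) i hi
      have : Subsingleton ((Koszul.koszul P []).X i) := ModuleCat.subsingleton_of_isZero h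
      exact Module.Free.of_subsingleton _ _
  | cons a l ih =>
    have h1 := ih (i + 1)
    have h2 := ih i
    exact Module.Free.of_equiv
      ((HomologicalComplex.homotopyCofiber.XIsoBiprod (a • 𝟙 (Koszul.koszul P l)) i (i + 1) rfl ≪≫
        ModuleCat.biprodIsoProd _ _).symm.toLinearEquiv)

/-- exactness of `K(l) ⊗ M` in degrees `< -k`. -/
def Gr (l : List P) (k : ℕ) (M : Type v) [AddCommGroup M] [Module P M] : Prop :=
  ∀ i j m : ℤ, i + 1 = j → j + 1 = m → j < -(k : ℤ) →
    Function.Exact (((Koszul.koszul P l).d i j).hom.rTensor M)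
      (((Koszul.koszul P l).d j m).hom.rTensor M)

theorem exact_of_isZero {l : List P} {i j k : ℤ} (hij : i + 1 = j) (hjk : j + 1 = k)
    (h : IsZero ((Koszul.koszul P l).homology j)) :
    Function.Exact ((Koszul.koszul P l).d i j).hom ((Koszul.koszul P l).d j k).hom := by
  rw [← HomologicalComplex.exactAt_iff_isZero_homology,
    HomologicalComplex.exactAt_iff' _ i j k (by subst hij; simp) (by simp [hjk])] at h
  rwa [ShortComplex.moduleCat_exact_iff_range_eq_ker, eq_comm, ← LinearMap.exact_iff] at h

/-- For a Koszul-regular sequence and a flat module. -/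
theorem gr_zero_of_flat {l : List P} (hl : LCI.IsKoszulRegularSeq P l) (M : Type v)
    [AddCommGroup M] [Module P M] [Module.Flat P M] : Gr l 0 M := by
  intro i j k hij hjk hj
  exact Module.Flat.rTensor_exact M (exact_of_isZero hij hjk (hl j (by simpa using hj.ne)))

theorem d_comp_d (l : List P) (M : Type v) [AddCommGroup M] [Module P M] (i j k : ℤ) (x) :
    ((Koszul.koszul P l).d j k).hom.rTensor M (((Koszul.koszul P l).d i j).hom.rTensor M x) = 0 := by
  rw [← LinearMap.comp_apply, ← LinearMap.rTensor_comp, ← ModuleCat.hom_comp,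
    HomologicalComplex.d_comp_d]
  simp

/-- Behaviour in short exact sequences. -/
theorem gr_succ_of_exact {l : List P} {k : ℕ} {M₁ M₂ M₃ : Type*} [AddCommGroup M₁]
    [AddCommGroup M₂] [AddCommGroup M₃] [Module P M₁] [Module P M₂] [Module P M₃]
    (f : M₁ →ₗ[P] M₂) (g : M₂ →ₗ[P] M₃) (hf : Function.Injective f) (hg : Function.Surjective g)
    (hfg : Function.Exact f g) (h₁ : Gr l k M₁) (h₂ : Gr l k M₂) : Gr l (k + 1) M₃ := by
  intro i j m hij hjm hj z
  have hj' : j < -(k : ℤ) := by push_cast at hj; lia
  have hm : m < -(k : ℤ) := by push_cast at hj; lia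
  constructor
  · intro hz
    obtain ⟨x, rfl⟩ := LinearMap.lTensor_surjective ((Koszul.koszul P l).X j) hg z
    have h3 : g.lTensor _ (((Koszul.koszul P l).d j m).hom.rTensor M₂ x) = 0 := by
      rw [← hz, ← LinearMap.comp_apply, ← LinearMap.comp_apply, LinearMap.lTensor_comp_rTensor,
        LinearMap.rTensor_comp_lTensor]
    obtain ⟨y, hy⟩ := (lTensor_exact ((Koszul.koszul P l).X m) hfg hg _).1 h3
    have h4 : ((Koszul.koszul P l).d m (m + 1)).hom.rTensor M₁ y = 0 := by
      apply Module.Flat.lTensor_preserves_injective_linearMap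
        (M := (Koszul.koszul P l).X (m + 1)) f hf
      rw [map_zero, ← LinearMap.comp_apply, LinearMap.lTensor_comp_rTensor,
        ← LinearMap.rTensor_comp_lTensor, LinearMap.comp_apply, hy, d_comp_d]
    obtain ⟨w, hw⟩ := (h₁ j m (m + 1) hjm rfl hm y).1 h4
    have h5 : ((Koszul.koszul P l).d j m).hom.rTensor M₂ (x - f.lTensor _ w) = 0 := by
      rw [map_sub, ← hy, ← hw, ← LinearMap.comp_apply, ← LinearMap.comp_apply,
        LinearMap.lTensor_comp_rTensor, LinearMap.rTensor_comp_lTensor, sub_self]
    obtain ⟨v, hv⟩ := (h₂ i j m hij hjm hj' _).1 h5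
    refine ⟨g.lTensor _ v, ?_⟩
    rw [← LinearMap.comp_apply, LinearMap.rTensor_comp_lTensor, ← LinearMap.lTensor_comp_rTensor,
      LinearMap.comp_apply, hv, map_sub, ← LinearMap.comp_apply, ← LinearMap.lTensor_comp,
      hfg.linearMap_comp_eq_zero]
    simp
  · rintro ⟨w, rfl⟩
    exact d_comp_d _ _ _ _ _ _

/-- The complex vanishes below `-length l`. -/
theorem isZero_X (l : List P) (i : ℤ) (hi : i < -(l.length : ℤ)) :
    IsZero ((Koszul.koszul P l).X i) := by
  induction l generalizing i with
  | nil =>
    exact HomologicalComplex.isZero_single_obj_X _ _ _ _ (by simpa using hi.ne)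
  | cons a l ih =>
    refine (CochainComplex.mappingCone.isZero_X_iff _ _).2 ⟨ih _ ?_, ih _ ?_⟩
    · simp only [List.length_cons] at hi; push_cast at hi; lia
    · simp only [List.length_cons] at hi; push_cast at hi; lia

theorem cone_top (K : CochainComplex (ModuleCat.{u} P) ℤ) (a : P) {I I' : Ideal P} (ha : a ∈ I')
    (hI : I ≤ I') (N : ℤ) (t : K.X (N + 1))
    (ht : (K.d (N + 1) (N + 2)).hom t ∈ I • (⊤ : Submodule P (K.X (N + 2)))) :
    ((CochainComplex.mappingCone (a • 𝟙 K)).d N (N + 1)).hom
      (((CochainComplex.mappingCone.inl (a • 𝟙 K)).v (N + 1) N (by lia)).hom t) ∈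
      I' • (⊤ : Submodule P ((CochainComplex.mappingCone (a • 𝟙 K)).X (N + 1))) := by
  have h1 := CochainComplex.mappingCone.inl_v_d (a • 𝟙 K) (N + 1) N (N + 2) (by lia) (by lia)
  have h2 := congrArg (fun z => z.hom t) h1
  simp only [ModuleCat.hom_comp, LinearMap.comp_apply, ModuleCat.hom_sub,
    LinearMap.sub_apply] at h2
  rw [h2]
  apply Submodule.sub_mem
  · have h3 : ((a • 𝟙 K : K ⟶ K).f (N + 1)).hom t = a • t := by
      simp
    rw [h3, map_smul]
    exact Submodule.smul_mem_smul ha Submodule.mem_top
  · have h4 := Submodule.mem_map_of_mem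
      (f := ((CochainComplex.mappingCone.inl (a • 𝟙 K)).v (N + 2) (N + 1) (by lia)).hom) ht
    rw [Submodule.map_smul''] at h4
    exact Submodule.smul_mono hI le_top h4

/-- The top degree generator. -/
theorem exists_top (l : List P) (N : ℤ) (hN : N = -(l.length : ℤ)) (N' : ℤ) (hN' : N + 1 = N') :
    ∃ (t : (Koszul.koszul P l).X N) (r : (Koszul.koszul P l).X N →ₗ[P] P), r t = 1 ∧
      ((Koszul.koszul P l).d N N').hom t ∈
        (Ideal.ofList l) • (⊤ : Submodule P ((Koszul.koszul P l).X N')) := by
  induction l generalizing N N' with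
  | nil =>
    simp only [List.length_nil, Nat.cast_zero, neg_zero] at hN
    subst hN
    let e := (HomologicalComplex.singleObjXSelf (ComplexShape.up ℤ) 0
        (ModuleCat.of P P)).toLinearEquiv
    refine ⟨e.symm 1, e.toLinearMap, e.apply_symm_apply 1, ?_⟩
    have h0 : (Koszul.koszul P []).d 0 N' = 0 := by
      apply IsZero.eq_of_tgt
      exact HomologicalComplex.isZero_single_obj_X _ _ _ _ (by lia)
    rw [h0]
    simp
  | cons a l ih =>
    obtain ⟨t, r, hrt, ht⟩ := ih (N + 1) (by simp only [List.length_cons] at hN; push_cast at hN; lia)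
      (N + 2) (by ring)
    subst hN'
    let φ := a • 𝟙 (Koszul.koszul P l)
    refine ⟨((CochainComplex.mappingCone.inl φ).v (N + 1) N (by lia)).hom t,
      r ∘ₗ ((CochainComplex.mappingCone.fst φ).1.v N (N + 1) rfl).hom, ?_, ?_⟩
    · have h0 := CochainComplex.mappingCone.inl_v_fst_v φ (N + 1) N rfl
      have h0' := congrArg (fun z => z.hom t) h0
      change r (((CochainComplex.mappingCone.inl φ).v (N + 1) N (by lia) ≫
        (CochainComplex.mappingCone.fst φ).1.v N (N + 1) rfl).hom t) = 1
      rw [h0]
      exact hrt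
    · refine cone_top (Koszul.koszul P l) a (Ideal.subset_span (by simp)) ?_ N t ht
      apply Ideal.span_mono
      intro x hx
      exact List.mem_cons_of_mem _ hx

/-- Vanishing in the top degree means that there is no torsion. -/
theorem eq_zero_of_gr {l : List P} {k : ℕ} (hk : k < l.length) {M : Type v} [AddCommGroup M]
    [Module P M] (h : Gr l k M) (m : M) (hm : ∀ a ∈ l, a • m = 0) : m = 0 := by
  obtain ⟨t, r, hrt, ht⟩ := exists_top l (-(l.length : ℤ)) rfl (-(l.length : ℤ) + 1) rfl
  have h0 : IsZero ((Koszul.koszul P l).X (-(l.length : ℤ) - 1)) := isZero_X l _ (by lia)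
  have hex := h (-(l.length : ℤ) - 1) (-(l.length : ℤ)) _ (by lia) rfl (by lia)
  have hker : ((Koszul.koszul P l).d (-(l.length : ℤ)) (-(l.length : ℤ) + 1)).hom.rTensor M
      (t ⊗ₜ m) = 0 := by
    rw [LinearMap.rTensor_tmul]
    generalize ((Koszul.koszul P l).d (-(l.length : ℤ)) (-(l.length : ℤ) + 1)).hom t = z at ht
    induction ht using Submodule.smul_induction_on' with
    | smul c hc n hn =>
      rw [TensorProduct.smul_tmul]
      have : c • m = 0 := by
        induction hc using Submodule.span_induction with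
        | mem x hx => exact hm x hx
        | zero => simp
        | add x y _ _ hx hy => rw [add_smul, hx, hy, add_zero]
        | smul c x _ hx => rw [smul_assoc, hx, smul_zero]
      rw [this, TensorProduct.tmul_zero]
    | add x _ y _ hx hy => rw [TensorProduct.add_tmul, hx, hy, add_zero]
  obtain ⟨w, hw⟩ := (hex _).1 hker
  have hd : (Koszul.koszul P l).d (-(l.length : ℤ) - 1) (-(l.length : ℤ)) = 0 :=
    h0.eq_of_src _ _
  rw [hd] at hw
  have h6 : t ⊗ₜ[P] m = 0 := by
    rw [← hw]
    simp
  have h7 := congrArg (TensorProduct.lid P M ∘ r.rTensor M) h6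
  simpa [hrt] using h7

end Groth.Agent.Models2.KoszulTop
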