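import Groth.Agent.Models2.FreeRes
import Groth.Agent.Divis.StalkMod
import Groth.Agent.CohqA.AffSec
import Groth.Agent.S0563
import Groth.Prelude.Def_Models
import Mathlib.Algebra.Category.ModuleCat.ChangeOfRings
import Mathlib.Algebra.Category.ModuleCat.Projective
import Mathlib.Algebra.Module.LocalizedModule.Exact
import Mathlib.CategoryTheory.Abelian.Projective.Dimension
import Mathlib.RingTheory.Localization.Free
import Mathlib.RingTheory.LocalRing.Module
import Mathlib.RingTheory.LocalProperties.ProjectiveDimension
import Mathlib.Algebra.Category.ModuleCat.ProjectiveDimension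

/-!
# Local finite free resolutions of coherent modules on regular schemes
-/

set_option autoImplicit false
set_option linter.dupNamespace false

universe u

open CategoryTheory CategoryTheory.Limits AlgebraicGeometry

namespace Groth.Agent.Models2.FreeRes

section Transfer

variable {A B : Type u} [CommRing A] [CommRing B]

/-- Restriction of scalars along a ring isomorphism preserves finite free modules. -/
noncomputable def restrictScalarsFree (f : B →+* A) (g : A →+* B) (h1 : ∀ b, g (f b) = b)
    (h2 : ∀ a, f (g a) = a) (k : ℕ) :
    (ModuleCat.restrictScalars.{u} f).obj (ModuleCat.of A (Fin k → A)) ≅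
      ModuleCat.of B (Fin k → B) :=
  letI := Module.compHom (Fin k → A) f
  let e : (Fin k → A) ≃ₗ[B] (Fin k → B) :=
    { toFun := fun v i => g (v i)
      invFun := fun v i => f (v i)
      left_inv := fun v => by funext i; exact h2 _
      right_inv := fun v => by funext i; exact h1 _
      map_add' := fun v w => by
        funext i
        exact map_add g _ _
      map_smul' := fun b v => by
        funext i
        change g (f b * v i) = b * g (v i)
        rw [map_mul, h1] }
  LinearEquiv.toModuleIso
    (X₁ := (ModuleCat.restrictScalars.{u} f).obj (ModuleCat.of A (Fin k → A)))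
    (X₂ := ModuleCat.of B (Fin k → B)) e

theorem FreeRes.restrictScalars (f : B →+* A) (g : A →+* B) (h1 : ∀ b, g (f b) = b)
    (h2 : ∀ a, f (g a) = a) {m : ℕ} {N : ModuleCat.{u} A} (h : FreeRes m N) :
    FreeRes m ((ModuleCat.restrictScalars.{u} f).obj N) := by
  induction h with
  | free m N k e =>
    exact .free m _ k ((ModuleCat.restrictScalars.{u} f).mapIso e ≪≫
      restrictScalarsFree f g h1 h2 k)
  | step m S hS k e h' ih =>
    have hS' := hS.map_of_exact (ModuleCat.restrictScalars.{u} f)
    exact FreeRes.step m (S.map (ModuleCat.restrictScalars.{u} f)) hS' k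
      ((ModuleCat.restrictScalars.{u} f).mapIso e ≪≫ restrictScalarsFree f g h1 h2 k) ih

end Transfer

section Localize

variable {A : Type u} [CommRing A]

/-- Transfer of `FreeRes` between two models of a localization. -/
theorem FreeRes.of_isLocalizedModule (S : Submonoid A) {B B' : Type u} [CommRing B] [CommRing B']
    [Algebra A B] [Algebra A B'] [IsLocalization S B] [IsLocalization S B']
    {N M M' : Type u} [AddCommGroup N] [Module A N]
    [AddCommGroup M] [Module A M] [Module B M] [IsScalarTower A B M]
    [AddCommGroup M'] [Module A M'] [Module B' M'] [IsScalarTower A B' M']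
    (φ : N →ₗ[A] M) (φ' : N →ₗ[A] M') [IsLocalizedModule S φ] [IsLocalizedModule S φ'] {m : ℕ}
    (h : FreeRes m (ModuleCat.of B M)) : FreeRes m (ModuleCat.of B' M') := by
  let σ : B' ≃ₐ[A] B := IsLocalization.algEquiv S B' B
  let f : B' →+* B := (σ : B' →+* B)
  let g : B →+* B' := (σ.symm : B →+* B')
  have h1 : ∀ b, g (f b) = b := fun b => σ.symm_apply_apply b
  have h2 : ∀ a, f (g a) = a := fun a => σ.apply_symm_apply a
  refine FreeRes.of_iso ?_ (FreeRes.restrictScalars f g h1 h2 h)
  let e : M ≃ₗ[A] M' := IsLocalizedModule.linearEquiv S φ φ'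
  letI : Module B' M := Module.compHom M f
  haveI : IsScalarTower A B' M := ⟨fun a b x => by
    change σ (a • b) • x = a • (σ b • x)
    rw [map_smul, smul_assoc]⟩
  exact LinearEquiv.toModuleIso
    (X₁ := (ModuleCat.restrictScalars.{u} f).obj (ModuleCat.of B M))
    (X₂ := ModuleCat.of B' M') (e.extendScalarsOfIsLocalization S B')

theorem localizedModule_isScalarTower (N : ModuleCat.{u} A) (S : Submonoid A) :
    IsScalarTower A (Localization S) (N.localizedModule S) := inferInstance

theorem localizedModule_isLocalizedModule (N : ModuleCat.{u} A) (S : Submonoid A) :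
    IsLocalizedModule S (N.localizedModuleMkLinearMap S) := inferInstance

/-- Comparison with another model of the localization. -/
noncomputable def localizedModuleIso (S : Submonoid A) (N : ModuleCat.{u} A)
    {M : Type u} [AddCommGroup M] [Module A M] [Module (Localization S) M]
    [IsScalarTower A (Localization S) M] (φ : N →ₗ[A] M) [IsLocalizedModule S φ] :
    N.localizedModule S ≅ ModuleCat.of (Localization S) M :=
  haveI := localizedModule_isScalarTower N S
  haveI := localizedModule_isLocalizedModule N S
  ((IsLocalizedModule.linearEquiv S (N.localizedModuleMkLinearMap S)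
    φ).extendScalarsOfIsLocalization S (Localization S)).toModuleIso

theorem FreeRes.localizedModule_of (S : Submonoid A) (N : ModuleCat.{u} A)
    {B M : Type u} [CommRing B] [Algebra A B] [IsLocalization S B]
    [AddCommGroup M] [Module A M] [Module B M] [IsScalarTower A B M]
    (φ : N →ₗ[A] M) [IsLocalizedModule S φ] {m : ℕ}
    (h : FreeRes m (ModuleCat.of B M)) : FreeRes m (N.localizedModule S) := by
  have := localizedModule_isScalarTower N S
  have := localizedModule_isLocalizedModule N S
  exact FreeRes.of_isLocalizedModule S (B := B) (B' := Localization S) φ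
    (N.localizedModuleMkLinearMap S) h

theorem FreeRes.of_localizedModule (S : Submonoid A) (N : ModuleCat.{u} A)
    {B M : Type u} [CommRing B] [Algebra A B] [IsLocalization S B]
    [AddCommGroup M] [Module A M] [Module B M] [IsScalarTower A B M]
    (φ : N →ₗ[A] M) [IsLocalizedModule S φ] {m : ℕ}
    (h : FreeRes m (N.localizedModule S)) : FreeRes m (ModuleCat.of B M) := by
  have := localizedModule_isScalarTower N S
  have := localizedModule_isLocalizedModule N S
  exact FreeRes.of_isLocalizedModule S (B := Localization S) (B' := B)
    (N.localizedModuleMkLinearMap S) φ h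

/-- `N_f` is finite free over `A_f`. -/
theorem freeRes_of_free {B N : Type u} [CommRing B] [AddCommGroup N] [Module B N]
    [Module.Free B N] [Module.Finite B N] (m : ℕ) : FreeRes m (ModuleCat.of B N) := by
  rcases subsingleton_or_nontrivial B with hB | hB
  · have : Subsingleton N := Module.subsingleton B N
    refine .free m _ 0 (LinearEquiv.toModuleIso (LinearEquiv.ofSubsingleton N (Fin 0 → B)))
  · let b := Module.finBasis B N
    exact .free m _ _ (LinearEquiv.toModuleIso b.equivFun)

/-- **Local resolutions**, `ModuleCat` form: if the localization of a finite module at a prime has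
projective dimension at most `m`, some basic localization has a finite free resolution of length
at most `m`. -/
theorem exists_freeRes_localizedModule [IsNoetherianRing A] (p : Ideal A) [p.IsPrime]
    (m : ℕ) : ∀ (N : ModuleCat.{u} A) [Module.Finite A N]
    (_ : HasProjectiveDimensionLE (N.localizedModule p.primeCompl) m),
    ∃ f : A, f ∉ p ∧ FreeRes m (N.localizedModule (.powers f)) := by
  induction m with
  | zero =>
    intro N _ h
    have hfp := Module.finitePresentation_of_finite A N
    have hproj : Projective (N.localizedModule p.primeCompl) :=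
      projective_iff_hasProjectiveDimensionLT_one.mpr h
    have : Module.Projective (Localization.AtPrime p) (N.localizedModule p.primeCompl) :=
      (IsProjective.iff_projective _).mpr hproj
    have : Module.Finite (Localization.AtPrime p) (N.localizedModule p.primeCompl) :=
      Module.Finite.of_isLocalizedModule p.primeCompl (N.localizedModuleMkLinearMap p.primeCompl)
    have : Module.Free (Localization.AtPrime p) (N.localizedModule p.primeCompl) :=
      Module.free_of_flat_of_isLocalRing
    obtain ⟨f, hf, hfree, -⟩ := Module.FinitePresentation.exists_free_localizedModule_powers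
      p.primeCompl (N.localizedModuleMkLinearMap p.primeCompl) (Localization.AtPrime p)
    refine ⟨f, hf, ?_⟩
    have hfin : Module.Finite (Localization (.powers f)) (LocalizedModule (.powers f) N) :=
      Module.Finite.of_isLocalizedModule (.powers f) (LocalizedModule.mkLinearMap (.powers f) N)
    exact FreeRes.localizedModule_of (.powers f) N (B := Localization (.powers f))
      (LocalizedModule.mkLinearMap (.powers f) N) (freeRes_of_free 0)
  | succ m ih =>
    intro N _ h
    obtain ⟨k, π, hπ⟩ := Module.Finite.exists_fin' A N
    let S := π.shortComplexKer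
    have hS : S.ShortExact := LinearMap.shortExact_shortComplexKer hπ
    have hS2 : S.X₂ = ModuleCat.of A (Fin k → A) := rfl
    have proj : Projective S.X₂ := by
      rw [← IsProjective.iff_projective]
      change Module.Projective A (Fin k → A)
      infer_instance
    let Sp := S.map (ModuleCat.localizedModuleFunctor p.primeCompl)
    have hSp : Sp.ShortExact := hS.map_of_exact (ModuleCat.localizedModuleFunctor p.primeCompl)
    have projp : Projective Sp.X₂ :=
      (ModuleCat.localizedModuleFunctor.{u} p.primeCompl).projective_obj_of_projective proj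
    have hfin : Module.Finite A S.X₁ := by
      change Module.Finite A (LinearMap.ker π)
      infer_instance
    obtain ⟨f, hf, hres⟩ := ih S.X₁ ((hSp.hasProjectiveDimensionLT_X₃_iff m projp).mp h)
    refine ⟨f, hf, ?_⟩
    have hSf := hS.map_of_exact (ModuleCat.localizedModuleFunctor (.powers f))
    have e : (ModuleCat.of A (Fin k → A)).localizedModule (.powers f) ≅
        ModuleCat.of (Localization (.powers f)) (Fin k → Localization (.powers f)) := by
      let φ : (Fin k → A) →ₗ[A] (Fin k → Localization (.powers f)) :=
        LinearMap.pi fun i => (Algebra.linearMap A (Localization (.powers f))).comp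
          (LinearMap.proj i)
      have : IsLocalizedModule (.powers f) φ := IsLocalizedModule.pi (.powers f)
        (fun _ : Fin k => Algebra.linearMap A (Localization (.powers f)))
      exact localizedModuleIso (.powers f) (ModuleCat.of A (Fin k → A)) φ
    exact FreeRes.step m (S.map (ModuleCat.localizedModuleFunctor (.powers f))) hSf k e hres

attribute [local instance] RingHomInvPair.of_ringEquiv in
/-- Transfer of projective dimension between two models of a localization. -/
theorem hasProjectiveDimensionLE_localizedModule (S : Submonoid A) (N : ModuleCat.{u} A)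
    {B M : Type u} [CommRing B] [Algebra A B] [IsLocalization S B]
    [AddCommGroup M] [Module A M] [Module B M] [IsScalarTower A B M]
    (φ : N →ₗ[A] M) [IsLocalizedModule S φ] {m : ℕ}
    (h : HasProjectiveDimensionLE (ModuleCat.of B M) m) :
    HasProjectiveDimensionLE (N.localizedModule S) m := by
  have := localizedModule_isScalarTower N S
  have := localizedModule_isLocalizedModule N S
  let σ : B ≃ₐ[A] Localization S := IsLocalization.algEquiv S B (Localization S)
  let e : M ≃ₗ[A] (N.localizedModule S) :=
    IsLocalizedModule.linearEquiv S φ (N.localizedModuleMkLinearMap S)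
  have key : ∀ (b : B) (x : M), e (b • x) = σ b • e x := by
    let : Module B (N.localizedModule S) := Module.compHom _ (σ : B →+* Localization S)
    have : IsScalarTower A B (N.localizedModule S) := ⟨fun a b x => by
      change σ (a • b) • x = a • (σ b • x)
      rw [map_smul, smul_assoc]⟩
    intro b x
    exact (e.extendScalarsOfIsLocalization S B).map_smul b x
  let e' : (ModuleCat.of B M) ≃ₛₗ[RingHomClass.toRingHom σ.toRingEquiv] (N.localizedModule S) :=
    { toFun := e
      map_add' := e.map_add
      map_smul' := key
      invFun := e.symm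
      left_inv := e.left_inv
      right_inv := e.right_inv }
  exact ModuleCat.hasProjectiveDimensionLE_of_semiLinearEquiv σ.toRingEquiv e' m

/-- **Local resolutions.** -/
theorem exists_freeRes_away [IsNoetherianRing A] (p : Ideal A) [p.IsPrime]
    (m : ℕ) (N : Type u) [AddCommGroup N] [Module A N] [Module.Finite A N]
    {Ap Np : Type u} [CommRing Ap] [Algebra A Ap] [IsLocalization.AtPrime Ap p]
    [AddCommGroup Np] [Module A Np] [Module Ap Np] [IsScalarTower A Ap Np]
    (ψ : N →ₗ[A] Np) [IsLocalizedModule p.primeCompl ψ]
    (h : HasProjectiveDimensionLE (ModuleCat.of Ap Np) m) :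
    ∃ f : A, f ∉ p ∧ ∀ (B : Type u) [CommRing B] [Algebra A B] [IsLocalization.Away f B]
      (M : Type u) [AddCommGroup M] [Module A M] [Module B M] [IsScalarTower A B M]
      (φ : N →ₗ[A] M) [IsLocalizedModule (.powers f) φ], FreeRes m (ModuleCat.of B M) := by
  have h' : HasProjectiveDimensionLE ((ModuleCat.of A N).localizedModule p.primeCompl) m :=
    hasProjectiveDimensionLE_localizedModule p.primeCompl (ModuleCat.of A N) (B := Ap) ψ h
  obtain ⟨f, hf, hres⟩ := exists_freeRes_localizedModule p m (ModuleCat.of A N) h'
  refine ⟨f, hf, ?_⟩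
  intro B _ _ _ M _ _ _ _ φ _
  exact FreeRes.of_localizedModule (.powers f) (ModuleCat.of A N) φ hres

end Localize

section Scheme

open Groth.Agent.Divis.StalkMod Groth.Agent.Fdesc.QCohStalk

variable {X : Scheme.{u}}

/-- If the stalk of a coherent module at `x` has projective dimension at most `m`, then its
sections over some small affine neighbourhood of `x` have a finite free resolution of length at
most `m`. -/
theorem exists_freeRes_sections_of_stalk [IsLocallyNoetherian X] (F : X.Modules)
    (hF : Coh.IsCoh F) (x : X) (m : ℕ)
    (h : HasProjectiveDimensionLE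
      (ModuleCat.of (X.presheaf.stalk x) (F.presheaf.stalk x)) m)
    (V : X.Opens) (hxV : x ∈ V) :
    ∃ W : X.Opens, W ≤ V ∧ IsAffineOpen W ∧ x ∈ W ∧
      FreeRes m (ModuleCat.of Γ(X, W) Γ(F, W)) := by
  obtain ⟨U, hU, hx, hUV⟩ := exists_isAffineOpen_mem_and_subset (x := x) (U := V) hxV
  have hNoeth : IsNoetherianRing Γ(X, U) := IsLocallyNoetherian.component_noetherian ⟨U, hU⟩
  have hfin := finite_sections hF hU
  obtain ⟨f, hf, H⟩ : ∃ f : Γ(X, U), f ∉ (hU.primeIdealOf ⟨x, hx⟩).asIdeal ∧
      ∀ (B : Type u) [CommRing B] [Algebra Γ(X, U) B] [IsLocalization.Away f B]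
      (M : Type u) [AddCommGroup M] [Module Γ(X, U) M] [Module B M] [IsScalarTower Γ(X, U) B M]
      (φ : Γ(F, U) →ₗ[Γ(X, U)] M) [IsLocalizedModule (.powers f) φ],
      FreeRes m (ModuleCat.of B M) := by
    refine stalk_elim F hF.1 hU x hx ?_
    intro _ _ _ _ l _ _ _
    exact exists_freeRes_away (hU.primeIdealOf ⟨x, hx⟩).asIdeal m Γ(F, U) l h
  refine ⟨X.basicOpen f, (X.basicOpen_le f).trans hUV, hU.basicOpen f,
    (mem_basicOpen_iff hU x hx f).mpr hf, ?_⟩
  let := resModule F (X.basicOpen_le f)
  have : IsScalarTower Γ(X, U) Γ(X, X.basicOpen f) Γ(F, X.basicOpen f) :=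
    ⟨fun a b c => mul_smul (X.presheaf.map (homOfLE (X.basicOpen_le f)).op a) b c⟩
  have : IsLocalization.Away f Γ(X, X.basicOpen f) := hU.isLocalization_basicOpen f
  have : IsLocalizedModule.Away f (resₗ F (X.basicOpen_le f)) :=
    isLocalizedModule_res F hU hF.1 f
  exact H Γ(X, X.basicOpen f) Γ(F, X.basicOpen f) (resₗ F (X.basicOpen_le f))

/-- On a regular scheme, a coherent module has finite free resolutions of its sections over small
affine neighbourhoods of a point, of length at most the dimension of the local ring at that
point. -/
theorem exists_freeRes_sections [IsLocallyNoetherian X] (hreg : Models.IsRegularScheme X)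
    (F : X.Modules) (hF : Coh.IsCoh F) (x : X) (m : ℕ)
    (hm : ringKrullDim (X.presheaf.stalk x) ≤ m) (V : X.Opens) (hxV : x ∈ V) :
    ∃ W : X.Opens, W ≤ V ∧ IsAffineOpen W ∧ x ∈ W ∧
      FreeRes m (ModuleCat.of Γ(X, W) Γ(F, W)) := by
  have := hreg x
  refine exists_freeRes_sections_of_stalk F hF x m ?_ V hxV
  obtain ⟨d, hd⟩ : ∃ d : ℕ, ringKrullDim (X.presheaf.stalk x) = d := by
    obtain ⟨e, he⟩ := WithBot.ne_bot_iff_exists.mp
      (ringKrullDim_ne_bot (R := X.presheaf.stalk x))
    rw [← he] at hm ⊢
    have h1 : e ≠ ⊤ := by
      rintro rfl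
      exact absurd (WithBot.coe_le_coe.mp hm) (by simp)
    obtain ⟨d, rfl⟩ := ENat.ne_top_iff_exists.mp h1
    exact ⟨d, rfl⟩
  have h1 := S0563.result (X.presheaf.stalk x) d hd (F.presheaf.stalk x)
  have hdm : d ≤ m := by
    rw [hd] at hm
    exact_mod_cast hm
  exact hasProjectiveDimensionLT_of_ge _ (d + 1) (m + 1) (by omega)

/-- A quasi-coherent module restricted to `Spec Γ(X, W)`, `W` affine open, is the module
associated with its sections over `W`. -/
noncomputable def restrictFromSpecIso (F : X.Modules) (hF : Coh.IsQCoh F) {W : X.Opens}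
    (hW : IsAffineOpen W) :
    F.restrict hW.fromSpec ≅ tilde (R := Γ(X, W)) (ModuleCat.of Γ(X, W) Γ(F, W)) :=
  haveI : IsIso (F.restrict hW.fromSpec).fromTildeΓ :=
    (isQuasicoherent_iff_isIso_fromTildeΓ _).mp (restrict_isQCoh F hF _)
  (asIso (F.restrict hW.fromSpec).fromTildeΓ).symm ≪≫
    (tilde.functor Γ(X, W)).mapIso (LinearEquiv.toModuleIso
      (X₁ := ((modulesSpecToSheaf.obj (F.restrict hW.fromSpec)).presheaf.obj (.op ⊤)))
      (X₂ := ModuleCat.of Γ(X, W) Γ(F, W))
      (Groth.Agent.CohqA.AffSec.secEquiv F hW))

end Scheme

end Groth.Agent.Models2.FreeRes
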