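import Groth.Agent.Models2.LocRes

/-!
# Local finite free resolutions: the form on spectra
-/

set_option autoImplicit false
set_option linter.dupNamespace false

universe u

open CategoryTheory CategoryTheory.Limits AlgebraicGeometry

namespace Groth.Agent.Models2.FreeRes

variable {X : Scheme.{u}}

theorem FreeRes.restrict_fromSpec (F : X.Modules) {W : X.Opens} (hW : IsAffineOpen W) {m : ℕ}
    (h : FreeRes m (ModuleCat.of Γ(X, W) Γ(F, W))) :
    FreeRes m (moduleSpecΓFunctor.obj (F.restrict hW.fromSpec)) :=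
  h.of_iso (LinearEquiv.toModuleIso
      (X₁ := moduleSpecΓFunctor.obj (F.restrict hW.fromSpec))
      (X₂ := ModuleCat.of Γ(X, W) Γ(F, W))
      (Groth.Agent.CohqA.AffSec.secEquiv F hW)).symm

/-- Regular schemes: local finite free resolutions along affine open immersions. -/
theorem exists_freeRes_restrict [IsLocallyNoetherian X] (hreg : Models.IsRegularScheme X)
    (F : X.Modules) (hF : Coh.IsCoh F) (x : X) (m : ℕ)
    (hm : ringKrullDim (X.presheaf.stalk x) ≤ m) (V : X.Opens) (hxV : x ∈ V) :
    ∃ (R : CommRingCat.{u}) (j : Spec R ⟶ X) (_ : IsOpenImmersion j), x ∈ j.opensRange ∧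
      j.opensRange ≤ V ∧ FreeRes m (moduleSpecΓFunctor.obj (F.restrict j)) := by
  obtain ⟨W, hWV, hW, hxW, h⟩ := exists_freeRes_sections hreg F hF x m hm V hxV
  refine ⟨Γ(X, W), hW.fromSpec, inferInstance, ?_, ?_, h.restrict_fromSpec F hW⟩
  · rw [hW.opensRange_fromSpec]
    exact hxW
  · rw [hW.opensRange_fromSpec]
    exact hWV

end Groth.Agent.Models2.FreeRes
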