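import Groth.Prelude.Def_Disc
import Mathlib.RingTheory.Flat.Equalizer
import Mathlib.RingTheory.Flat.Stability
import Mathlib.RingTheory.Kaehler.Basic
import Mathlib.RingTheory.FiniteType
import Mathlib.RingTheory.RingHom.Flat
import Mathlib.LinearAlgebra.TensorProduct.Pi
import Mathlib.Algebra.Algebra.Epi
import Mathlib.RingTheory.Unramified.Locus

/-!
# Annihilators of finitely generated ideals under flat ring maps; the Noether different

* `annihilator_map_of_flat`: if `S → T` is flat and `I ⊆ S` is a finitely generated ideal, then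
  `Ann_T(IT) = Ann_S(I) T`.
* `noetherDifferent_eq_map_of_flat`: an abstract form of the compatibilities of the Noether different
  with flat base change and with open immersions.
-/

set_option autoImplicit false

namespace Groth.Agent.Models2.NoetherDiff

open TensorProduct

/-- If `S → T` is flat and `I` is a finitely generated ideal of `S`, then the annihilator of `I T` is
the extension of the annihilator of `I`. -/
theorem annihilator_map_of_flat {S T : Type*} [CommRing S] [CommRing T] [Algebra S T]
    [Module.Flat S T] {I : Ideal S} (hI : I.FG) :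
    (I.map (algebraMap S T)).annihilator = I.annihilator.map (algebraMap S T) := by
  classical
  obtain ⟨s, rfl⟩ := hI
  apply le_antisymm
  · intro t ht
    -- the map `S → S^s`
    let f : S →ₗ[S] (s → S) := LinearMap.pi fun i => LinearMap.mulRight S (i : S)
    have hf : ∀ x i, f x i = x * i := fun x i => rfl
    have hker : ∀ x ∈ LinearMap.ker f, x ∈ (Ideal.span (s : Set S)).annihilator := by
      intro x hx
      rw [Ideal.span, Submodule.mem_annihilator_span]
      rintro ⟨y, hy⟩
      have := congrFun (LinearMap.mem_ker.1 hx) ⟨y, hy⟩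
      simpa [hf] using this
    have hmem : (t ⊗ₜ[S] (1 : S) : T ⊗[S] S) ∈
        LinearMap.ker (AlgebraTensorModule.lTensor T T f) := by
      rw [LinearMap.mem_ker, AlgebraTensorModule.lTensor_tmul]
      apply (TensorProduct.piScalarRight S T T s).injective
      rw [map_zero]
      ext i
      rw [TensorProduct.piScalarRight_apply, TensorProduct.piScalarRightHom_tmul]
      change f 1 i • t = 0
      rw [hf, one_mul, Algebra.smul_def, mul_comm]
      rw [Submodule.mem_annihilator] at ht
      exact ht _ (Ideal.mem_map_of_mem _ (Ideal.subset_span i.2))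
    rw [Module.Flat.ker_lTensor_eq] at hmem
    obtain ⟨z, hz⟩ := hmem
    have key : ∀ z : T ⊗[S] (LinearMap.ker f),
        TensorProduct.rid S T (AlgebraTensorModule.lTensor T T (LinearMap.ker f).subtype z) ∈
          (Ideal.span (s : Set S)).annihilator.map (algebraMap S T) := by
      intro z
      induction z using TensorProduct.induction_on with
      | zero => simp
      | tmul x y =>
        rw [AlgebraTensorModule.lTensor_tmul, TensorProduct.rid_tmul, Algebra.smul_def, mul_comm]
        exact Ideal.mul_mem_left _ _ (Ideal.mem_map_of_mem _ (hker _ y.2))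
      | add x y hx hy =>
        rw [map_add, map_add]
        exact add_mem hx hy
    have := key z
    rw [hz, TensorProduct.rid_tmul, one_smul] at this
    exact this
  · rw [Ideal.map_le_iff_le_comap]
    intro x hx
    rw [Ideal.mem_comap, Ideal.map_span, Ideal.span, Submodule.mem_annihilator_span]
    rintro ⟨_, y, hy, rfl⟩
    rw [Submodule.mem_annihilator] at hx
    have := hx y (Ideal.subset_span hy)
    rw [smul_eq_mul] at this ⊢
    rw [← map_mul, this, map_zero]

/-- Abstract form of the compatibility of the Noether different with flat base change and open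
immersions. -/
theorem noetherDifferent_eq_map_of_flat {A B A' B' : Type*} [CommRing A] [CommRing B]
    [CommRing A'] [CommRing B'] [Algebra A B] [Algebra A' B'] (g : B →+* B')
    (h : B ⊗[A] B →+* B' ⊗[A'] B') (hflat : h.Flat)
    (hcomm : ∀ x, Algebra.TensorProduct.lmul' (S := B') A' (h x) =
      g (Algebra.TensorProduct.lmul' (S := B) A x))
    (hker : RingHom.ker (Algebra.TensorProduct.lmul' (S := B') A') =
      (RingHom.ker (Algebra.TensorProduct.lmul' (S := B) A)).map h)
    (hfg : (RingHom.ker (Algebra.TensorProduct.lmul' (S := B) A)).FG) :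
    Disc.noetherDifferent A' B' = (Disc.noetherDifferent A B).map g := by
  let := h.toAlgebra
  have : Module.Flat (B ⊗[A] B) (B' ⊗[A'] B') := hflat
  have := annihilator_map_of_flat (T := B' ⊗[A'] B') hfg
  unfold Disc.noetherDifferent
  rw [hker, show h = algebraMap _ _ from rfl, this]
  change Ideal.map (Algebra.TensorProduct.lmul' (S := B') A').toRingHom (Ideal.map h _) =
    Ideal.map g (Ideal.map (Algebra.TensorProduct.lmul' (S := B) A).toRingHom _)
  rw [Ideal.map_map, Ideal.map_map]
  exact congrArg (fun k => Ideal.map k _) (RingHom.ext hcomm)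

/-- The kernel of multiplication is contained in `J` as soon as all `1 ⊗ s - s ⊗ 1` are in `J`. -/
theorem ker_lmul_le_of_forall {A B : Type*} [CommRing A] [CommRing B] [Algebra A B]
    {J : Ideal (B ⊗[A] B)} (h : ∀ s : B, (1 : B) ⊗ₜ[A] s - s ⊗ₜ[A] (1 : B) ∈ J) :
    RingHom.ker (Algebra.TensorProduct.lmul' (S := B) A) ≤ J := by
  change KaehlerDifferential.ideal A B ≤ J
  rw [← KaehlerDifferential.span_range_eq_ideal, Ideal.span_le]
  rintro _ ⟨s, rfl⟩
  exact h s

/-- The elements `1 ⊗ s - s ⊗ 1` are in the kernel of multiplication. -/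
theorem one_tmul_sub_mem_ker {A B : Type*} [CommRing A] [CommRing B] [Algebra A B] (s : B) :
    (1 : B) ⊗ₜ[A] s - s ⊗ₜ[A] (1 : B) ∈ RingHom.ker (Algebra.TensorProduct.lmul' (S := B) A) := by
  simp [RingHom.mem_ker]

/-- The criterion `hker` of `noetherDifferent_eq_map_of_flat`, by an epimorphism type property:
the two maps `B' → (B' ⊗ B') / J` agree if they agree on the image of `B`. -/
theorem ker_lmul_eq_map {A B A' B' : Type*} [CommRing A] [CommRing B]
    [CommRing A'] [CommRing B'] [Algebra A B] [Algebra A' B'] (g : B →+* B')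
    (h : B ⊗[A] B →+* B' ⊗[A'] B')
    (hh : ∀ b c : B, h (b ⊗ₜ c) = g b ⊗ₜ g c)
    (hepi : ∀ J : Ideal (B' ⊗[A'] B'), (∀ b : B, (1 : B') ⊗ₜ[A'] g b - g b ⊗ₜ[A'] (1 : B') ∈ J) →
      ∀ s : B', (1 : B') ⊗ₜ[A'] s - s ⊗ₜ[A'] (1 : B') ∈ J) :
    RingHom.ker (Algebra.TensorProduct.lmul' (S := B') A') =
      (RingHom.ker (Algebra.TensorProduct.lmul' (S := B) A)).map h := by
  apply le_antisymm
  · refine ker_lmul_le_of_forall (hepi _ fun b => ?_)
    have := Ideal.mem_map_of_mem h (one_tmul_sub_mem_ker (A := A) b)
    rwa [map_sub, hh, hh, map_one] at this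
  · rw [Ideal.map_le_iff_le_comap]
    refine ker_lmul_le_of_forall fun s => ?_
    rw [Ideal.mem_comap, map_sub, hh, hh, map_one]
    exact one_tmul_sub_mem_ker _

/-- Compatibility of the Noether different with flat base change (Stacks 0BVM (2)). -/
theorem noetherDifferent_flat_baseChange {A B A' B' : Type*} [CommRing A] [CommRing B]
    [CommRing A'] [CommRing B'] [Algebra A B] [Algebra A A'] [Algebra A B'] [Algebra B B']
    [Algebra A' B'] [IsScalarTower A B B'] [IsScalarTower A A' B']
    [Algebra.IsPushout A B A' B'] [Algebra.EssFiniteType A B] [Module.Flat A A'] :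
    Disc.noetherDifferent A' B' = (Disc.noetherDifferent A B).map (algebraMap B B') := by
  have hflat : Module.Flat B B' :=
    Module.Flat.isBaseChange A B A' B' (‹Algebra.IsPushout A B A' B'›).out
  let φ : B ⊗[A] B →ₐ[B] B' ⊗[A'] B' :=
    (Algebra.IsPushout.cancelBaseChangeAlg A B A' B' B').symm.toAlgHom.comp
      (Algebra.TensorProduct.lTensor B (IsScalarTower.toAlgHom A B B'))
  have hφ : ∀ b c : B, φ (b ⊗ₜ c) = algebraMap B B' b ⊗ₜ algebraMap B B' c := by
    intro b c
    simp [φ]
  refine noetherDifferent_eq_map_of_flat (algebraMap B B') φ.toRingHom ?_ ?_ ?_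
    (KaehlerDifferential.ideal_fg A B)
  · refine RingHom.Flat.comp ?_ (.of_bijective (AlgEquiv.bijective _))
    exact RingHom.Flat.lTensor (R := A) B (RingHom.flat_algebraMap_iff.2 hflat)
  · intro x
    induction x using TensorProduct.induction_on with
    | zero => simp
    | tmul x y =>
      change Algebra.TensorProduct.lmul' A' (φ (x ⊗ₜ y)) = _
      rw [hφ]; simp
    | add x y hx hy => simp only [map_add, hx, hy]
  · refine ker_lmul_eq_map _ _ hφ ?_
    intro J hJ s
    let i1 : B' →ₐ[A'] (B' ⊗[A'] B') ⧸ J :=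
      (Ideal.Quotient.mkₐ A' J).comp Algebra.TensorProduct.includeRight
    let i2 : B' →ₐ[A'] (B' ⊗[A'] B') ⧸ J :=
      (Ideal.Quotient.mkₐ A' J).comp Algebra.TensorProduct.includeLeft
    have : i1.restrictScalars A = i2.restrictScalars A := by
      apply Algebra.IsPushout.algHom_ext (R := A) (S := B) (R' := A')
      · ext x
        change i1 (algebraMap _ _ x) = i2 (algebraMap _ _ x)
        rw [AlgHom.commutes, AlgHom.commutes]
      · ext x
        change Ideal.Quotient.mk J _ = Ideal.Quotient.mk J _
        rw [Ideal.Quotient.eq]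
        exact hJ x
    have h2 := DFunLike.congr_fun this s
    change Ideal.Quotient.mk J _ = Ideal.Quotient.mk J _ at h2
    rw [Ideal.Quotient.eq] at h2
    exact h2

/-- Compatibility of the Noether different with flat epimorphisms (Stacks 0BVN (2)). -/
theorem noetherDifferent_flat_epi {A B' B : Type*} [CommRing A] [CommRing B']
    [CommRing B] [Algebra A B'] [Algebra A B] [Algebra B' B] [IsScalarTower A B' B]
    [Algebra.EssFiniteType A B'] [Module.Flat B' B] (hepi : Algebra.IsEpi B' B) :
    Disc.noetherDifferent A B = (Disc.noetherDifferent A B').map (algebraMap B' B) := by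
  let φ : B' ⊗[A] B' →ₐ[A] B ⊗[A] B :=
    Algebra.TensorProduct.map (IsScalarTower.toAlgHom A B' B) (IsScalarTower.toAlgHom A B' B)
  have hφ : ∀ b c : B', φ (b ⊗ₜ c) = algebraMap B' B b ⊗ₜ algebraMap B' B c := by
    intro b c
    simp [φ]
  have hfl : (IsScalarTower.toAlgHom A B' B).Flat := RingHom.flat_algebraMap_iff.2 ‹_›
  refine noetherDifferent_eq_map_of_flat (algebraMap B' B) φ.toRingHom ?_ ?_ ?_
    (KaehlerDifferential.ideal_fg A B')
  · exact RingHom.Flat.tensorProductMap hfl hfl
  · intro x
    induction x using TensorProduct.induction_on with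
    | zero => simp
    | tmul x y =>
      change Algebra.TensorProduct.lmul' A (φ (x ⊗ₜ y)) = _
      rw [hφ]; simp
    | add x y hx hy => simp only [map_add, hx, hy]
  · refine ker_lmul_eq_map _ _ hφ ?_
    intro J hJ s
    let f : B →+ B →+ (B ⊗[A] B) ⧸ J := AddMonoidHom.mk'
      (fun x => AddMonoidHom.mk' (fun y => Ideal.Quotient.mk J (x ⊗ₜ y))
        (fun y y' => by rw [TensorProduct.tmul_add, map_add]))
      (fun x x' => by
        ext y
        change Ideal.Quotient.mk J _ = Ideal.Quotient.mk J _ + Ideal.Quotient.mk J _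
        rw [TensorProduct.add_tmul, map_add])
    have hf : ∀ x y, f x y = Ideal.Quotient.mk J (x ⊗ₜ y) := fun _ _ => rfl
    have hbal : ∀ (r : B') (x y : B), f (r • x) y = f x (r • y) := by
      intro r x y
      rw [hf, hf, eq_comm, Ideal.Quotient.eq]
      have := J.mul_mem_left (x ⊗ₜ y) (hJ r)
      rw [mul_sub, Algebra.TensorProduct.tmul_mul_tmul, Algebra.TensorProduct.tmul_mul_tmul,
        mul_one, mul_one, mul_comm y, mul_comm x, ← Algebra.smul_def, ← Algebra.smul_def] at this
      exact this
    have h1 := congrArg (TensorProduct.liftAddHom f hbal)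
      ((Algebra.isEpi_iff_forall_one_tmul_eq B' B).1 hepi s)
    rw [TensorProduct.liftAddHom_tmul, TensorProduct.liftAddHom_tmul, hf, hf,
      Ideal.Quotient.eq] at h1
    exact h1

/-- A prime `q` contains the Noether different iff `q` is in the support of `Ω[B⁄A]`. -/
theorem noetherDifferent_le_iff_mem_support {A B : Type*} [CommRing A] [CommRing B]
    [Algebra A B] [Algebra.EssFiniteType A B] (q : PrimeSpectrum B) :
    Disc.noetherDifferent A B ≤ q.asIdeal ↔ q ∈ Module.support B (Ω[B⁄A]) := by
  set I := KaehlerDifferential.ideal A B with hI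
  have hfgI : I.FG := KaehlerDifferential.ideal_fg A B
  have : Module.Finite (B ⊗[A] B) I := Module.Finite.iff_fg.2 hfgI
  let Q : PrimeSpectrum (B ⊗[A] B) :=
    PrimeSpectrum.comap (Algebra.TensorProduct.lmul' (S := B) A).toRingHom q
  have hQ : ∀ z, z ∈ Q.asIdeal ↔ Algebra.TensorProduct.lmul' (S := B) A z ∈ q.asIdeal :=
    fun z => Iff.rfl
  have h1 : Disc.noetherDifferent A B ≤ q.asIdeal ↔ Q ∈ Module.support (B ⊗[A] B) I := by
    rw [Module.mem_support_iff_of_finite]
    unfold Disc.noetherDifferent
    rw [Ideal.map_le_iff_le_comap]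
    rfl
  have hz : Q ∈ PrimeSpectrum.zeroLocus (I : Set (B ⊗[A] B)) := by
    intro z hz
    rw [SetLike.mem_coe, hQ]
    have : Algebra.TensorProduct.lmul' (S := B) A z = 0 := hz
    rw [this]
    exact zero_mem _
  have h2 : Q ∈ Module.support (B ⊗[A] B) I ↔ Q ∈ Module.support (B ⊗[A] B) (Ω[B⁄A]) := by
    have := Module.support_quotient (M := I) I
    have h3 : Module.support (B ⊗[A] B) (Ω[B⁄A]) = Module.support (B ⊗[A] B) I ∩
      PrimeSpectrum.zeroLocus I := this
    rw [h3]
    exact ⟨fun h => ⟨h, hz⟩, fun h => h.1⟩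
  have hfin : Module.Finite (B ⊗[A] B) (Ω[B⁄A]) := Module.Finite.of_restrictScalars_finite B _ _
  rw [h1, h2, Module.mem_support_iff_of_finite, Module.mem_support_iff_of_finite]
  have hIkill : ∀ z ∈ I, ∀ w : Ω[B⁄A], z • w = 0 := by
    intro z hz w
    obtain ⟨w, rfl⟩ := Ideal.toCotangent_surjective _ w
    change z • (Ideal.toCotangent I) w = 0
    rw [← map_smul, Ideal.toCotangent_eq_zero]
    rw [pow_two]
    exact Ideal.mul_mem_mul hz w.2
  have hleft : ∀ (b : B) (w : Ω[B⁄A]), (b ⊗ₜ[A] (1 : B)) • w = b • w := by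
    intro b w
    have : (b ⊗ₜ[A] (1 : B)) = b • (1 : B ⊗[A] B) := by
      rw [Algebra.TensorProduct.one_def, TensorProduct.smul_tmul', smul_eq_mul, mul_one]
    rw [this, smul_assoc, one_smul]
  constructor
  · intro h b hb
    have h4 : (b ⊗ₜ[A] (1 : B)) ∈ Q.asIdeal := by
      apply h
      rw [Module.mem_annihilator] at hb ⊢
      intro w
      rw [hleft, hb]
    rw [hQ] at h4
    simpa using h4
  · intro h z hz
    rw [hQ]
    apply h
    rw [Module.mem_annihilator] at hz ⊢
    intro w
    have h5 : (Algebra.TensorProduct.lmul' (S := B) A z) ⊗ₜ[A] (1 : B) - z ∈ I := by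
      change Algebra.TensorProduct.lmul' (S := B) A _ = 0
      simp
    have h6 := hIkill _ h5 w
    rw [sub_smul, hz, sub_zero, hleft] at h6
    exact h6

/-- Stacks 0BVU. -/
theorem zeroLocus_noetherDifferent {A B : Type*} [CommRing A] [CommRing B]
    [Algebra A B] [Algebra.EssFiniteType A B] :
    {q : PrimeSpectrum B | Disc.noetherDifferent A B ≤ q.asIdeal} =
      (Algebra.unramifiedLocus A B)ᶜ := by
  rw [Algebra.unramifiedLocus_eq_compl_support, compl_compl]
  ext q
  exact noetherDifferent_le_iff_mem_support q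

end Groth.Agent.Models2.NoetherDiff
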