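import Groth.Prelude.Def_Disc
import Mathlib.RingTheory.PicardGroup
import Mathlib.LinearAlgebra.Matrix.NonsingularInverse
import Mathlib.LinearAlgebra.Basis.Basic

/-!
# The dualizing module `Hom_A(B, A)` of a finite free algebra
-/

universe u v

open TensorProduct Disc Disc.Omega

namespace Groth.Agent.Models2.OmegaFree

/-- A criterion for invertibility: `M` is a generator and all its endomorphisms are homotheties. -/
theorem invertible_of_end {R : Type u} {M : Type v} [CommRing R] [AddCommGroup M] [Module R M]
    (hend : ∀ g : M →ₗ[R] M, ∃ r : R, ∀ m, g m = r • m)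
    (hgen : Function.Surjective (contractLeft R M)) : Module.Invertible R M := by
  refine ⟨⟨?_, hgen⟩⟩
  refine (injective_iff_map_eq_zero _).2 fun z hz => ?_
  obtain ⟨w, hw⟩ := hgen 1
  -- `key w' z' : contract w' • z' = contract z' • w'`
  have key : ∀ (w z : Module.Dual R M ⊗[R] M),
      contractLeft R M w • z = contractLeft R M z • w := by
    intro w z
    induction w with
    | zero => simp
    | add x y hx hy => rw [map_add, add_smul, hx, hy, smul_add]
    | tmul f m =>
      induction z with
      | zero => simp
      | add x y hx hy => rw [map_add, add_smul, smul_add, hx, hy]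
      | tmul g x =>
        rw [contractLeft_apply, contractLeft_apply]
        obtain ⟨r, hr⟩ := hend (f.smulRight x)
        have h1 : f m • x = r • m := by simpa using hr m
        have h2 : r • g = g x • f := by
          ext y
          have := congrArg g (hr y)
          simp only [LinearMap.smulRight_apply, map_smul, smul_eq_mul] at this
          simp only [LinearMap.smul_apply, smul_eq_mul]
          rw [← this, mul_comm]
        rw [← tmul_smul, h1, tmul_smul, smul_tmul', h2, smul_tmul']
  have := key w z
  rw [hw, one_smul, hz, zero_smul] at this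
  exact this

variable {A : Type u} {B : Type v} [CommRing A] [CommRing B] [Algebra A B]

/-- the coordinate functional as an element of `ω` -/
noncomputable def coord {ι : Type*} (b : Module.Basis ι A B) (i : ι) : Omega A B := ⟨b.coord i⟩

theorem sum_toLinearMap {ι : Type*} (s : Finset ι) (f : ι → Omega A B) :
    (∑ i ∈ s, f i).toLinearMap = ∑ i ∈ s, (f i).toLinearMap := by
  classical
  induction s using Finset.induction_on with
  | empty => simp
  | insert a s ha ih => rw [Finset.sum_insert ha, Finset.sum_insert ha, add_toLinearMap, ih]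

theorem eq_sum_coord {ι : Type*} [Fintype ι] (b : Module.Basis ι A B) (φ : Omega A B) :
    φ = ∑ i, algebraMap A B (φ.toLinearMap (b i)) • coord b i := by
  apply toLinearMap_injective
  rw [sum_toLinearMap]
  apply b.ext
  intro j
  rw [LinearMap.sum_apply, Finset.sum_eq_single j]
  · rw [smul_toLinearMap_apply, ← Algebra.smul_def, map_smul]
    simp [coord]
  · intro i _ hij
    rw [smul_toLinearMap_apply, ← Algebra.smul_def, map_smul]
    simp [coord, Finsupp.single_eq_of_ne hij]
  · simp

/-- Endomorphisms of `ω` are homotheties. -/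
theorem exists_smul_of_end {ι : Type*} [Fintype ι] (b : Module.Basis ι A B)
    (g : Omega A B →ₗ[B] Omega A B) : ∃ r : B, ∀ φ, g φ = r • φ := by
  refine ⟨∑ i, (g (coord b i)).toLinearMap 1 • b i, fun φ => ?_⟩
  have key : ∀ φ : Omega A B, (g φ).toLinearMap 1 =
      φ.toLinearMap (∑ i, (g (coord b i)).toLinearMap 1 • b i) := by
    intro φ
    conv_lhs => rw [eq_sum_coord b φ]
    rw [map_sum, sum_toLinearMap, LinearMap.sum_apply, map_sum]
    refine Finset.sum_congr rfl fun i _ => ?_
    rw [map_smul, smul_toLinearMap_apply, ← Algebra.smul_def, map_smul, map_smul]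
    simp [mul_comm]
  apply toLinearMap_injective
  ext x
  have h1 : (g φ).toLinearMap x = (g (x • φ)).toLinearMap 1 := by
    rw [map_smul, smul_toLinearMap_apply, mul_one]
  rw [h1, key, smul_toLinearMap_apply, smul_toLinearMap_apply, mul_comm]

section Gram

variable {ι : Type*} [Fintype ι] [DecidableEq ι] (b : Module.Basis ι A B) (l : Omega A B)

/-- the Gram matrix of `(x, y) ↦ l (x y)` -/
noncomputable def gram : Matrix ι ι A := Matrix.of fun i j => l.toLinearMap (b i * b j)

omit [DecidableEq ι] in
theorem gram_mulVec (u : ι → A) (i : ι) :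
    (gram b l).mulVec u i = ((∑ j, u j • b j) • l).toLinearMap (b i) := by
  rw [smul_toLinearMap_apply, Finset.sum_mul, map_sum, Matrix.mulVec]
  refine Finset.sum_congr rfl fun j _ => ?_
  simp [gram, mul_comm]

/-- a set-theoretic section up to `d` of `x ↦ x • l`, where `d` is the Gram determinant. -/
noncomputable def adjFun (φ : Omega A B) : B :=
  ∑ i, ((gram b l).adjugate.mulVec fun j => φ.toLinearMap (b j)) i • b i

theorem adjFun_smul (φ : Omega A B) :
    adjFun b l φ • l = algebraMap A B (gram b l).det • φ := by
  apply toLinearMap_injective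
  apply b.ext
  intro i
  rw [adjFun, ← gram_mulVec, Matrix.mulVec_mulVec, Matrix.mul_adjugate, Matrix.smul_mulVec,
    Matrix.one_mulVec, smul_toLinearMap_apply, ← Algebra.smul_def, map_smul]
  rfl

theorem det_smul_eq_zero (x : B) (hx : x • l = 0) : (gram b l).det • x = 0 := by
  have h1 : (gram b l).mulVec (b.repr x) = 0 := by
    ext i
    rw [gram_mulVec, b.sum_repr, hx]
    rfl
  have h2 : (gram b l).adjugate.mulVec ((gram b l).mulVec (b.repr x)) = 0 := by
    rw [h1, Matrix.mulVec_zero]
  rw [Matrix.mulVec_mulVec, Matrix.adjugate_mul, Matrix.smul_mulVec, Matrix.one_mulVec] at h2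
  apply b.repr.injective
  ext i
  simpa using congrFun h2 i

/-- The `B`-linear map `ω → B`, `x • l ↦ d² x`. -/
noncomputable def adjLin : Omega A B →ₗ[B] B where
  toFun φ := (gram b l).det • adjFun b l φ
  map_add' φ ψ := by
    rw [← sub_eq_zero, ← smul_add, ← smul_sub]
    apply det_smul_eq_zero
    rw [sub_smul, add_smul, adjFun_smul, adjFun_smul, adjFun_smul, smul_add, sub_self]
  map_smul' x φ := by
    rw [RingHom.id_apply, ← sub_eq_zero, smul_comm, ← smul_sub]
    apply det_smul_eq_zero
    rw [sub_smul, adjFun_smul, smul_assoc, adjFun_smul, smul_comm, sub_self]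

theorem adjLin_self : adjLin b l l = algebraMap A B ((gram b l).det ^ 2) := by
  have h : (gram b l).det • (adjFun b l l - algebraMap A B (gram b l).det) = 0 := by
    apply det_smul_eq_zero
    rw [sub_smul, adjFun_smul, sub_self]
  rw [smul_sub, sub_eq_zero] at h
  change (gram b l).det • adjFun b l l = _
  rw [h, Algebra.smul_def, ← map_mul, sq]

end Gram

section BaseChange

variable (A') [CommRing A'] [Algebra A A']

/-- Base change of functionals. -/
noncomputable def bc (φ : Omega A B) : Omega A' (A' ⊗[A] B) :=
  ⟨(TensorProduct.AlgebraTensorModule.rid A A' A').toLinearMap ∘ₗ φ.toLinearMap.baseChange A'⟩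

theorem bc_tmul (φ : Omega A B) (x : A') (y : B) :
    (bc A' φ).toLinearMap (x ⊗ₜ y) = algebraMap A A' (φ.toLinearMap y) * x := by
  simp [bc, Algebra.smul_def]

theorem bc_add (φ ψ : Omega A B) : bc A' (φ + ψ) = bc A' φ + bc A' ψ := by
  apply toLinearMap_injective
  ext y
  simp [bc_tmul]

theorem bc_smul (b : B) (φ : Omega A B) :
    bc A' (b • φ) = (Algebra.TensorProduct.includeRight (R := A) (A := A') b) • bc A' φ := by
  apply toLinearMap_injective
  ext y
  simp [bc_tmul]

theorem eq_sum_bc {ι : Type*} [Fintype ι] (b : Module.Basis ι A B) (φ : Omega A' (A' ⊗[A] B)) :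
    φ = ∑ i, algebraMap A' (A' ⊗[A] B) (φ.toLinearMap (1 ⊗ₜ b i)) • bc A' (coord b i) := by
  have h := eq_sum_coord (Algebra.TensorProduct.basis A' b) φ
  conv_lhs => rw [h]
  refine Finset.sum_congr rfl fun i _ => ?_
  rw [Algebra.TensorProduct.basis_apply]
  congr 1
  apply toLinearMap_injective
  apply (Algebra.TensorProduct.basis A' b).ext
  intro j
  rw [Algebra.TensorProduct.basis_apply, bc_tmul]
  rw [← Algebra.TensorProduct.basis_apply]
  classical
  simp [coord, Finsupp.single_apply]

/-- The gram matrix of a base changed functional -/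
theorem gram_bc {ι : Type*} (b : Module.Basis ι A B) (l : Omega A B) :
    gram (Algebra.TensorProduct.basis A' b) (bc A' l) = (gram b l).map (algebraMap A A') := by
  ext i j
  simp [gram, Algebra.TensorProduct.basis_apply, bc_tmul]

end BaseChange

end Groth.Agent.Models2.OmegaFree
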