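import Groth.Prelude.Def_DCoh3
import Groth.Agent.PerfA.CohSerre
import Groth.Agent.Dcoh.LocalD

/-!
# Perfect complexes have quasi-coherent cohomology
-/

set_option autoImplicit false
universe u
open CategoryTheory CategoryTheory.Limits AlgebraicGeometry
attribute [local instance] HasDerivedCategory.standard

namespace Groth.Agent.Models2.PerfQCoh

variable {X : Scheme.{u}}

open Groth.Agent.PerfA in
/-- The cohomology sheaves of a complex with quasi-coherent terms are quasi-coherent. -/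
theorem isQCoh_homology (F : CochainComplex X.Modules ℤ) (hF : ∀ i, Coh.IsQCoh (F.X i)) (i : ℤ) :
    Coh.IsQCoh (F.homology i) := by
  have h2 := (QCohSerre.qcoh X).prop_kernel (F.sc i).g (hF _) (hF _)
  have h3 := (QCohSerre.qcoh X).prop_cokernel
    (kernel.lift (F.sc i).g (F.sc i).f (F.sc i).zero) (hF _) h2
  exact (QCohSerre.qcoh X).prop_of_iso
    (ShortComplex.LeftHomologyData.ofHasKernelOfHasCokernel (F.sc i)).homologyIso.symm h3

open Groth.Agent.PerfA in
/-- The cohomology sheaves of a complex with coherent terms are coherent. -/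
theorem isCoh_homology [IsLocallyNoetherian X] (F : CochainComplex X.Modules ℤ)
    (hF : ∀ i, Coh.IsCoh (F.X i)) (i : ℤ) : Coh.IsCoh (F.homology i) := by
  have h2 := (CohSerre.cohp X).prop_kernel (F.sc i).g (hF _) (hF _)
  have h3 := (CohSerre.cohp X).prop_cokernel
    (kernel.lift (F.sc i).g (F.sc i).f (F.sc i).zero) (hF _) h2
  exact (CohSerre.cohp X).prop_of_iso
    (ShortComplex.LeftHomologyData.ofHasKernelOfHasCokernel (F.sc i)).homologyIso.symm h3

theorem isQCohD_Q (F : CochainComplex X.Modules ℤ) (hF : ∀ i, Coh.IsQCoh (F.X i)) :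
    DCoh.IsQCohD (DerivedCategory.Q.obj F) := fun i =>
  PerfA.QCohSerre.isQCoh_of_iso ((DerivedCategory.homologyFunctorFactors _ i).app F).symm
    (isQCoh_homology F hF i)

theorem isCohD_Q [IsLocallyNoetherian X] (F : CochainComplex X.Modules ℤ)
    (hF : ∀ i, Coh.IsCoh (F.X i)) : DCoh.IsCohD (DerivedCategory.Q.obj F) := fun i =>
  PerfA.CohSerre.isCoh_of_iso ((DerivedCategory.homologyFunctorFactors _ i).app F).symm
    (isCoh_homology F hF i)

/-- `D_QCoh` is local. -/
theorem isQCohD_of_local (K : DCoh.D X)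
    (h : ∀ x : X, ∃ V : X.Opens, x ∈ V ∧ DCoh.IsQCohD ((DCoh.restrictD V.ι).obj K)) :
    DCoh.IsQCohD K := fun i =>
  PerfA.QCohSerre.isQCoh_of_restrict_opens _ fun x => by
    obtain ⟨V, hx, hV⟩ := h x
    exact ⟨V, hx, PerfA.QCohSerre.isQCoh_of_iso (Dcoh.LocalD.HDRestrict V.ι K i) (hV i)⟩

/-- Coherence of the cohomology is local. -/
theorem isCohD_of_local (K : DCoh.D X)
    (h : ∀ x : X, ∃ V : X.Opens, x ∈ V ∧ DCoh.IsCohD ((DCoh.restrictD V.ι).obj K)) :
    DCoh.IsCohD K := fun i =>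
  PerfA.CohSerre.isCoh_of_restrict _ fun x => by
    obtain ⟨V, hx, hV⟩ := h x
    exact ⟨V, hx, PerfA.CohSerre.isCoh_of_iso (Dcoh.LocalD.HDRestrict V.ι K i) (hV i)⟩

theorem isQCohD_of_iso {K L : DCoh.D X} (e : K ≅ L) (h : DCoh.IsQCohD K) : DCoh.IsQCohD L :=
  fun i => PerfA.QCohSerre.isQCoh_of_iso ((DerivedCategory.homologyFunctor _ i).mapIso e) (h i)

theorem isCohD_of_iso {K L : DCoh.D X} (e : K ≅ L) (h : DCoh.IsCohD K) : DCoh.IsCohD L :=
  fun i => PerfA.CohSerre.isCoh_of_iso ((DerivedCategory.homologyFunctor _ i).mapIso e) (h i)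

/-- A perfect complex has quasi-coherent cohomology sheaves. -/
theorem isQCohD_of_isPerfect (E : DCoh.D X) (hE : DCoh.IsPerfect E) : DCoh.IsQCohD E := by
  refine isQCohD_of_local E fun x => ?_
  obtain ⟨V, hxV, F, hF, ⟨e⟩⟩ := (Dcoh.LocalD.isPerfect_iff_locally E).1 hE x
  exact ⟨V, hxV, isQCohD_of_iso e.symm
    (isQCohD_Q F fun j => (PerfA.CohSerre.isCoh_of_isFinLocFree (hF.2 j)).1)⟩

end Groth.Agent.Models2.PerfQCoh
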