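import Groth.Prelude.Def_DCoh3
import Groth.Agent.Ega3B.FlatRestrict

/-!
# Tor dimension relative to an open immersion

`isFlatOver_iff`: for an open immersion `j : U ⟶ X`, a module on `U` is flat over `X` iff it is flat.
`locHasFiniteTorDim_iff_rel`: `LocHasFiniteRelTorDim (𝟙 X) K ↔ LocHasFiniteTorDim K`.
-/

set_option autoImplicit false
universe u
open CategoryTheory CategoryTheory.Limits AlgebraicGeometry
attribute [local instance] HasDerivedCategory.standard

namespace Groth.Agent.Models2.TorDimRel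

variable {X U : Scheme.{u}}

theorem isFlatOverAt_iff (j : U ⟶ X) [IsOpenImmersion j] (G : U.Modules) (x : U) :
    FlatMod.IsFlatOverAt j G x ↔ FlatMod.IsFlatAt G x := by
  let _ := FlatMod.moduleStalkOver j G x
  refine Ega3B.FlatRestrict.flat_iff_of_semilinear (R := X.presheaf.stalk (j x))
    (R' := U.presheaf.stalk x)
    (asIso (j.stalkMap x)).commRingCatIsoToRingEquiv (AddEquiv.refl _) fun r m => ?_
  rfl

theorem isFlatOver_iff (j : U ⟶ X) [IsOpenImmersion j] (G : U.Modules) :
    FlatMod.IsFlatOver j G ↔ FlatMod.IsFlat G :=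
  forall_congr' fun x => isFlatOverAt_iff j G x

theorem hasFlatAmplitudeIn_iff_rel (j : U ⟶ X) [IsOpenImmersion j] (a b : ℤ) (K : DCoh.D U) :
    DCoh.HasRelFlatAmplitudeIn j a b K ↔ DCoh.HasFlatAmplitudeIn a b K := by
  simp only [DCoh.HasRelFlatAmplitudeIn, DCoh.HasFlatAmplitudeIn, isFlatOver_iff]

theorem locHasFiniteTorDim_iff_rel (K : DCoh.D X) :
    DCoh.LocHasFiniteRelTorDim (𝟙 X) K ↔ DCoh.LocHasFiniteTorDim K := by
  simp only [DCoh.LocHasFiniteRelTorDim, DCoh.LocHasFiniteTorDim, hasFlatAmplitudeIn_iff_rel]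

end Groth.Agent.Models2.TorDimRel
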