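import Groth.Agent.Dcoh.LTMod
import Groth.Agent.Dcoh.DerSch
import Groth.Agent.PerfC.RpushTrunc

/-!
# `- ⊗^L G` and `Rf_* (- ⊗^L G)`: shifts and triangles
-/

set_option autoImplicit false
universe u
open CategoryTheory CategoryTheory.Limits AlgebraicGeometry Pretriangulated
attribute [local instance] HasDerivedCategory.standard

namespace Groth.Agent.Models2.TensTri

open Groth.Agent.Dcoh

variable {X Y : Scheme.{u}}

/-- `K[n] ⊗^L G ≅ (K ⊗^L G)[n]`. -/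
theorem exists_shiftIso (G : X.Modules) [DCoh.HasLTensorMod G] (K : DCoh.D X) (n : ℤ) :
    Nonempty ((DCoh.LTensorMod G).obj (K⟦n⟧) ≅ ((DCoh.LTensorMod G).obj K)⟦n⟧) := by
  obtain ⟨P, hP, ⟨e⟩⟩ := LDer.exists_iso (LTMod.adapted G) K
  have hP' : DCoh.IsKFlat (P⟦n⟧) := KFlatMod.isKFlat_shift hP n
  exact ⟨(DCoh.LTensorMod G).mapIso ((shiftFunctor _ n).mapIso e.symm ≪≫
      ((DerivedCategory.Q.commShiftIso n).app P).symm) ≪≫ LTMod.isoQ G hP' ≪≫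
    DerivedCategory.Q.mapIso
      ((((DCoh.tensorRightMod G).mapHomologicalComplex (ComplexShape.up ℤ)).commShiftIso n).app P) ≪≫
    (DerivedCategory.Q.commShiftIso n).app _ ≪≫
    (shiftFunctor _ n).mapIso ((LTMod.isoQ G hP).symm ≪≫ (DCoh.LTensorMod G).mapIso e)⟩

/-- `- ⊗^L G` sends distinguished triangles to distinguished triangles. -/
theorem exists_triangle (G : X.Modules) [DCoh.HasLTensorMod G] (T : Triangle (DCoh.D X))
    (hT : T ∈ distinguishedTriangles) :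
    ∃ c, Triangle.mk ((DCoh.LTensorMod G).map T.mor₁) ((DCoh.LTensorMod G).map T.mor₂) c ∈
      distTriang (DCoh.D X) := by
  obtain ⟨T', hT', e₁, e₂, e₃, h1, h2⟩ :=
    LDer.exists_triangle (LTMod.adapted G) (DCoh.LTensorMod G) (LTMod.counit G) T hT
  refine ⟨e₃.hom ≫ T'.mor₃ ≫ e₁.inv⟦(1 : ℤ)⟧', isomorphic_distinguished _ hT' _ ?_⟩
  refine Triangle.isoMk _ _ e₁ e₂ e₃ h1 h2 ?_
  have h3 : e₁.inv⟦(1 : ℤ)⟧' ≫ e₁.hom⟦(1 : ℤ)⟧' = 𝟙 _ := by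
    rw [← Functor.map_comp, e₁.inv_hom_id, CategoryTheory.Functor.map_id]
  change (e₃.hom ≫ T'.mor₃ ≫ e₁.inv⟦(1 : ℤ)⟧') ≫ e₁.hom⟦(1 : ℤ)⟧' = e₃.hom ≫ T'.mor₃
  rw [Category.assoc, Category.assoc, h3, Category.comp_id]

/-- `Rf_* (K[n] ⊗^L G) ≅ Rf_* (K ⊗^L G)[n]`. -/
theorem exists_push_shiftIso (f : X ⟶ Y) (G : X.Modules) [DCoh.HasLTensorMod G] [DCoh.HasRpush f]
    (K : DCoh.D X) (n : ℤ) :
    Nonempty ((DCoh.Rpush f).obj ((DCoh.LTensorMod G).obj (K⟦n⟧)) ≅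
      ((DCoh.Rpush f).obj ((DCoh.LTensorMod G).obj K))⟦n⟧) := by
  obtain ⟨i⟩ := exists_shiftIso G K n
  let _ := DerSch.rpushCommShift f
  exact ⟨(DCoh.Rpush f).mapIso i ≪≫ ((DCoh.Rpush f).commShiftIso n).app _⟩

theorem exists_push_triangle (f : X ⟶ Y) (G : X.Modules) [DCoh.HasLTensorMod G] [DCoh.HasRpush f]
    (T : Triangle (DCoh.D X)) (hT : T ∈ distinguishedTriangles) :
    ∃ c, Triangle.mk ((DCoh.Rpush f).map ((DCoh.LTensorMod G).map T.mor₁))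
      ((DCoh.Rpush f).map ((DCoh.LTensorMod G).map T.mor₂)) c ∈ distTriang (DCoh.D Y) := by
  obtain ⟨c, hc⟩ := exists_triangle G T hT
  exact PerfC.RpushTrunc.exists_triangle f _ _ _ hc

end Groth.Agent.Models2.TensTri
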