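import Mathlib.AlgebraicGeometry.Modules.Tilde
import Mathlib.RingTheory.LocalProperties.FinitePresentation
import Groth.Prelude.Def_QCohCat

/-!
# Locality of quasi-coherence and finite presentation of `O_X`-modules
-/

set_option autoImplicit false
universe u
open CategoryTheory AlgebraicGeometry Limits TopologicalSpace

namespace Groth.Agent.Models2.QCohLoc

open AlgebraicGeometry.Scheme.Modules

noncomputable section

variable {X : Scheme.{u}}

/-- The structure sheaf corresponds to the structure sheaf under `overEquiv`. -/
def unitIsoOver (U : X.Opens) :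
    SheafOfModules.unit (X.ringCatSheaf.over U) ≅
      (Scheme.Modules.overEquiv U).inverse.obj (SheafOfModules.unit U.toScheme.ringCatSheaf) :=
  (Scheme.Modules.overEquiv U).unitIso.app _ ≪≫
    (Scheme.Modules.overEquiv U).inverse.mapIso
      ((Scheme.Modules.overFunctorEquiv U).app (SheafOfModules.unit X.ringCatSheaf) ≪≫
        Scheme.Modules.restrictUnitIso U.ι)

/-- A presentation of the restriction of `M` to the open subscheme `U` gives a presentation of
`M.over U`. -/
def presentationOver (M : X.Modules) (U : X.Opens)
    (P : (M.restrict U.ι).Presentation) :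
    (SheafOfModules.over (R := X.ringCatSheaf) M U).Presentation :=
  SheafOfModules.Presentation.ofIsIso.{u, u, u}
    ((Scheme.Modules.overEquiv U).inverse.mapIso ((Scheme.Modules.overFunctorEquiv U).app M).symm ≪≫
      ((Scheme.Modules.overEquiv U).unitIso.app _).symm).hom
    (P.map (Scheme.Modules.overEquiv U).inverse (unitIsoOver U))

instance presentationOver_isFinite (M : X.Modules) (U : X.Opens)
    (P : (M.restrict U.ι).Presentation) [P.IsFinite] : (presentationOver M U P).IsFinite := by
  have : (P.map (Scheme.Modules.overEquiv U).inverse (unitIsoOver U)).IsFinite := by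
    constructor
    · constructor
      have := SheafOfModules.GeneratingSections.IsFiniteType.finite (σ := P.generators)
      exact this
    · constructor
      have := SheafOfModules.GeneratingSections.IsFiniteType.finite (σ := P.relations)
      exact this
  unfold presentationOver
  infer_instance

/-- Restriction along `f` then along an isomorphism onto the image is the restriction to the
open range. -/
def restrictRangeIso {Y : Scheme.{u}} (f : Y ⟶ X) [IsOpenImmersion f] (M : X.Modules) :
    (M.restrict f).restrict f.isoOpensRange.inv ≅ M.restrict f.opensRange.ι :=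
  ((restrictFunctorComp f.isoOpensRange.inv f).app M).symm ≪≫
    (restrictFunctorCongr (by simp)).app M

/-- A presentation of the restriction of `M` along an open immersion `f` gives a presentation of
`M.over f.opensRange`. -/
def presentationOverRange (M : X.Modules) {Y : Scheme.{u}} (f : Y ⟶ X) [IsOpenImmersion f]
    (P : (M.restrict f).Presentation) :
    (SheafOfModules.over (R := X.ringCatSheaf) M f.opensRange).Presentation :=
  presentationOver M f.opensRange
    (SheafOfModules.Presentation.ofIsIso.{u, u, u} (restrictRangeIso f M).hom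
      (presentationRestrict f.isoOpensRange.inv P))

instance presentationRestrict_isFinite {M : X.Modules} {Y : Scheme.{u}} (f : Y ⟶ X)
    [IsOpenImmersion f] (P : M.Presentation) [P.IsFinite] :
    (presentationRestrict f P).IsFinite := by
  constructor
  · constructor
    have := SheafOfModules.GeneratingSections.IsFiniteType.finite (σ := P.generators)
    exact this
  · constructor
    have := SheafOfModules.GeneratingSections.IsFiniteType.finite (σ := P.relations)
    exact this

instance presentationOverRange_isFinite (M : X.Modules) {Y : Scheme.{u}} (f : Y ⟶ X)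
    [IsOpenImmersion f] (P : (M.restrict f).Presentation) [P.IsFinite] :
    (presentationOverRange M f P).IsFinite := by
  unfold presentationOverRange
  infer_instance

/-- Quasi-coherence can be checked on an open cover (presentation version). -/
theorem isQuasicoherent_of_presentation (M : X.Modules) {ι : Type u} (Y : ι → Scheme.{u})
    (f : ∀ i, Y i ⟶ X) [∀ i, IsOpenImmersion (f i)]
    (hf : IsOpenCover fun i ↦ (f i).opensRange)
    (h : ∀ i, Nonempty (M.restrict (f i)).Presentation) :
    SheafOfModules.IsQuasicoherent.{u, u, u} (R := X.ringCatSheaf) M :=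
  let σ : SheafOfModules.QuasicoherentData.{u, u, u, u} (R := X.ringCatSheaf) M :=
    { I := ι
      X := fun i ↦ (f i).opensRange
      coversTop := (Opens.coversTop_iff _ (fun i ↦ (f i).opensRange)).2 hf
      presentation := fun i ↦ presentationOverRange M (f i) (h i).some }
  σ.isQuasicoherent

/-- Finite presentation can be checked on an open cover (presentation version). -/
theorem isFinitePresentation_of_presentation (M : X.Modules) {ι : Type u} (Y : ι → Scheme.{u})
    (f : ∀ i, Y i ⟶ X) [∀ i, IsOpenImmersion (f i)]
    (hf : IsOpenCover fun i ↦ (f i).opensRange)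
    (h : ∀ i, ∃ P : (M.restrict (f i)).Presentation, P.IsFinite) :
    SheafOfModules.IsFinitePresentation.{u, u, u} (R := X.ringCatSheaf) M := by
  choose P hP using h
  let σ : SheafOfModules.QuasicoherentData.{u, u, u, u} (R := X.ringCatSheaf) M :=
    { I := ι
      X := fun i ↦ (f i).opensRange
      coversTop := (Opens.coversTop_iff _ (fun i ↦ (f i).opensRange)).2 hf
      presentation := fun i ↦ presentationOverRange M (f i) (P i) }
  have hσ : SheafOfModules.QuasicoherentData.IsFinitePresentation.{u, u, u, u} σ :=
    SheafOfModules.QuasicoherentData.IsFinitePresentation.mk.{u, u, u, u}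
      fun i ↦ presentationOverRange_isFinite M (f i) (P i)
  exact SheafOfModules.IsFinitePresentation.mk.{u, u, u} ⟨σ, hσ⟩

variable {R : CommRingCat.{u}}

/-- A quasi-coherent module on an affine scheme has a presentation. -/
theorem nonempty_presentation (M : (Spec R).Modules) [M.IsQuasicoherent] :
    Nonempty M.Presentation :=
  ⟨SheafOfModules.Presentation.ofIsIso.{u, u, u} (asIso M.fromTildeΓ).hom
    (presentationTilde.{u} _ .univ (by simp) _ (Submodule.span_eq _))⟩

/-- A quasi-coherent module on an affine scheme whose module of global sections is finitely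
presented has a finite presentation. -/
theorem exists_finite_presentation (M : (Spec R).Modules) [M.IsQuasicoherent]
    [Module.FinitePresentation R ((modulesSpecToSheaf.obj M).presheaf.obj (.op ⊤))] :
    ∃ P : M.Presentation, P.IsFinite := by
  obtain ⟨s, hs, t, ht⟩ :=
    ‹Module.FinitePresentation R ((modulesSpecToSheaf.obj M).presheaf.obj (.op ⊤))›
  let P := presentationTilde.{u} ((modulesSpecToSheaf.obj M).presheaf.obj (.op ⊤))
    (s : Set ((modulesSpecToSheaf.obj M).presheaf.obj (.op ⊤))) hs (t : Set (s →₀ R)) ht
  have hP : P.IsFinite := by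
    constructor
    · exact ⟨inferInstanceAs (Finite (s : Set ((modulesSpecToSheaf.obj M).presheaf.obj (.op ⊤))))⟩
    · exact ⟨inferInstanceAs (Finite (t : Set (s →₀ R)))⟩
  exact ⟨SheafOfModules.Presentation.ofIsIso.{u, u, u} (asIso M.fromTildeΓ).hom P, inferInstance⟩

set_option backward.isDefEq.respectTransparency false in
/-- Global sections of a finitely presented module on an affine scheme (with a global finite
presentation) form a finitely presented module. -/
theorem finitePresentation_of_presentation (M : (Spec R).Modules) (P : M.Presentation)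
    [P.IsFinite] :
    Module.FinitePresentation R (moduleSpecΓFunctor.obj M) := by
  let g := (tilde.functor R).preimage <| (tildeFinsupp _).hom ≫ P.relations.π ≫ kernel.ι _ ≫
    (tildeFinsupp _).inv
  let iso : cokernel ((tilde.functor R).map g) ≅ cokernel (P.relations.π ≫ kernel.ι _) := by
    refine cokernel.mapIso _ _ (tildeFinsupp _) (tildeFinsupp _) ?_
    simp only [g, (tilde.functor R).map_preimage]
    simp
  let e : (tilde.functor R).obj (cokernel g) ≅ M := PreservesCokernel.iso (tilde.functor R) g ≪≫
    iso ≪≫ IsColimit.coconePointUniqueUpToIso (colimit.isColimit _) P.isColimit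
  let e' : cokernel g ≅ moduleSpecΓFunctor.obj M :=
    tilde.toTildeΓNatIso.app _ ≪≫ moduleSpecΓFunctor.mapIso e
  have h1 : Finite P.relations.I := inferInstance
  have h2 : Finite P.generators.I := inferInstance
  have : Module.FinitePresentation R (cokernel g : ModuleCat R) := by
    refine Module.finitePresentation_of_surjective (cokernel.π g).hom
      ((ModuleCat.epi_iff_surjective _).1 inferInstance) ?_
    have hr : LinearMap.ker (cokernel.π g).hom = LinearMap.range g.hom := by
      have := (ShortComplex.exact_cokernel g)
      rw [ShortComplex.moduleCat_exact_iff_range_eq_ker] at this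
      exact this.symm
    rw [hr, LinearMap.range_eq_map]
    exact (Module.Finite.fg_top (R := R) (M := (P.relations.I →₀ R))).map g.hom
  exact Module.FinitePresentation.of_equiv e'.toLinearEquiv

/-- Restriction of sections as an `R`-linear map. -/
def resₗ (M : (Spec R).Modules) {U V : (Spec R).Opens} (h : U ≤ V) : Γ(M, V) →ₗ[R] Γ(M, U) where
  toFun := M.presheaf.map (homOfLE h).op
  map_add' x y := map_add _ x y
  map_smul' r x := map_smul_Spec _ r x

lemma isLocalizedModule_resₗ (M : (Spec R).Modules) [M.IsQuasicoherent] (a : R) :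
    IsLocalizedModule (.powers a) (resₗ M (le_top : PrimeSpectrum.basicOpen a ≤ ⊤)) :=
  (isIso_fromTildeΓ_iff_isLocalizing M).1 inferInstance a

/-- Sections of the restriction along an open immersion `Spec S → Spec R` with image `V`. -/
def restrictTopEquiv (M : (Spec R).Modules) {S : CommRingCat.{u}} (φ : R ⟶ S)
    [IsOpenImmersion (Spec.map φ)] (V : (Spec R).Opens) (hV : Spec.map φ ''ᵁ ⊤ = V) :
    Γ(M, V) ≃+ Γ(M.restrict (Spec.map φ), ⊤) :=
  ((M.restrictAppIso (Spec.map φ) ⊤) ≪≫
    M.presheaf.mapIso (eqToIso hV.symm).op).addCommGroupIsoToAddEquiv.symm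

lemma restrictTopEquiv_symm_smul (M : (Spec R).Modules) {S : CommRingCat.{u}} (φ : R ⟶ S)
    [IsOpenImmersion (Spec.map φ)] (V : (Spec R).Opens) (hV : Spec.map φ ''ᵁ ⊤ = V)
    (r : R) (x : Γ(M.restrict (Spec.map φ), ⊤)) :
    (restrictTopEquiv M φ V hV).symm (φ r • x) = r • (restrictTopEquiv M φ V hV).symm x := by
  have h1 := restrictAppIso_smul_Spec (M := M) φ r x
  change M.presheaf.map _ ((M.restrictAppIso (Spec.map φ) ⊤).hom _) = _
  refine (congrArg _ h1).trans ?_
  exact map_smul_Spec _ r _

lemma restrictTopEquiv_smul (M : (Spec R).Modules) {S : CommRingCat.{u}} (φ : R ⟶ S)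
    [IsOpenImmersion (Spec.map φ)] (V : (Spec R).Opens) (hV : Spec.map φ ''ᵁ ⊤ = V)
    (r : R) (x : Γ(M, V)) :
    (restrictTopEquiv M φ V hV) (r • x) = φ r • (restrictTopEquiv M φ V hV) x := by
  apply (restrictTopEquiv M φ V hV).symm.injective
  rw [restrictTopEquiv_symm_smul, AddEquiv.symm_apply_apply, AddEquiv.symm_apply_apply]

/-- Finite presentation of the module of global sections can be checked on basic opens. -/
theorem finitePresentation_of_locally' (M : (Spec R).Modules) [M.IsQuasicoherent]
    (s : Set R) (hs : Ideal.span s = ⊤) (S : s → CommRingCat.{u}) [∀ a, Algebra R (S a)]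
    [∀ a, IsOpenImmersion (Spec.map (CommRingCat.ofHom (algebraMap R (S a))))]
    (hφ : ∀ a, Spec.map (CommRingCat.ofHom (algebraMap R (S a))) ''ᵁ ⊤ =
      PrimeSpectrum.basicOpen (a : R))
    [∀ a : s, IsLocalization.Away (a : R) (S a)]
    (h : ∀ a, Module.FinitePresentation (S a)
      Γ(M.restrict (Spec.map (CommRingCat.ofHom (algebraMap R (S a)))), ⊤)) :
    Module.FinitePresentation R Γ(M, ⊤) := by
  let φ (a : s) : R ⟶ S a := CommRingCat.ofHom (algebraMap R (S a))
  let (a : s) : Module R Γ(M.restrict (Spec.map (φ a)), ⊤) :=
    Module.compHom _ (φ a).hom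
  have (a : s) : IsScalarTower R (S a) Γ(M.restrict (Spec.map (φ a)), ⊤) :=
    IsScalarTower.of_compHom _ _ _
  have key (a : s) : ∃ ϕ : Γ(M, ⊤) →ₗ[R] Γ(M.restrict (Spec.map (φ a)), ⊤),
      IsLocalizedModule (Submonoid.powers (a : R)) ϕ := by
    have := isLocalizedModule_resₗ M (a : R)
    let e : Γ(M, PrimeSpectrum.basicOpen (a : R)) ≃ₗ[R] Γ(M.restrict (Spec.map (φ a)), ⊤) :=
      { restrictTopEquiv M (φ a) _ (hφ a) with
        map_smul' := fun r x ↦ restrictTopEquiv_smul M (φ a) _ (hφ a) r x }
    exact ⟨_, IsLocalizedModule.of_linearEquiv (.powers (a : R))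
      (resₗ M (le_top : PrimeSpectrum.basicOpen (a : R) ≤ ⊤)) e⟩
  choose ϕ hϕ using key
  exact Module.FinitePresentation.of_localizationSpan' (Rₚ := fun a : s ↦ S a) s hs ϕ h

set_option backward.isDefEq.respectTransparency false in
/-- A finitely presented module has finite presentations over an affine open cover. -/
theorem exists_isOpenCover_finite_presentation (M : X.Modules)
    [hM : SheafOfModules.IsFinitePresentation.{u, u, u} (R := X.ringCatSheaf) M] :
    ∃ (ι : Type u) (U : ι → X.Opens),
      (∀ i, ∃ P : (M.restrict (U i).ι).Presentation, P.IsFinite) ∧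
      IsOpenCover U ∧ (∀ i, IsAffineOpen (U i)) := by
  obtain ⟨⟨I, W, cov, pres⟩, hp⟩ := hM.exists_quasicoherentData
  choose κ hsub heq using fun i ↦ Opens.isBasis_iff_cover.mp X.isBasis_affineOpens (W i)
  refine ⟨Σ (i : I), κ i, fun j ↦ j.2, fun i ↦ ?_, ?_, ?_⟩
  · let u := X.homOfLE (U := i.2) (V := W i.1) (by simp [heq, le_sSup])
    have : PreservesColimitsOfSize.{u, u} (restrictFunctor u) := inferInstance
    let F := (overEquiv (W i.1)).functor ⋙ restrictFunctor u
    let iso : SheafOfModules.overFunctor X.ringCatSheaf _ ⋙ F ≅ restrictFunctor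
      (Scheme.Opens.ι i.2.1) := (Functor.associator _ _ _).symm ≪≫
        Functor.isoWhiskerRight (Scheme.Modules.overFunctorEquiv _) _ ≪≫
        (restrictFunctorComp _ _).symm ≪≫ (restrictFunctorCongr (by simp [u]))
    let Q := (pres i.1).map F (Scheme.Modules.restrictUnitIso _).symm
    have hQ0 : (pres i.1).IsFinite := hp.isFinite_presentation i.1
    have hQ : Q.IsFinite := by
      constructor
      · constructor
        have := SheafOfModules.GeneratingSections.IsFiniteType.finite (σ := (pres i.1).generators)
        exact this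
      · constructor
        have := SheafOfModules.GeneratingSections.IsFiniteType.finite (σ := (pres i.1).relations)
        exact this
    exact ⟨SheafOfModules.Presentation.ofIsIso.{u, u, u} (iso.app M).hom Q, inferInstance⟩
  · rw [Opens.coversTop_iff, IsOpenCover] at cov
    rw [IsOpenCover, iSup_sigma, ← cov]
    refine iSup_congr fun i ↦ ?_
    rw [heq i, sSup_eq_iSup']
  · intro j
    exact hsub _ j.2.2

/-- Sections of a finitely presented module over an affine open are finitely presented. -/
theorem finitePresentation_sections (M : X.Modules)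
    [hM : SheafOfModules.IsFinitePresentation.{u, u, u} (R := X.ringCatSheaf) M]
    (f : Spec R ⟶ X) [IsOpenImmersion f] :
    Module.FinitePresentation R Γ(M.restrict f, ⊤) := by
  obtain ⟨ι, U, hP, hU, -⟩ := exists_isOpenCover_finite_presentation M
  have : M.IsQuasicoherent := inferInstance
  let s : Set R := {a : R | ∃ i, f ''ᵁ PrimeSpectrum.basicOpen a ≤ U i}
  have hs : Ideal.span s = ⊤ := by
    rw [← PrimeSpectrum.iSup_basicOpen_eq_top_iff', eq_top_iff]
    intro x _
    obtain ⟨i, hi⟩ := hU.exists_mem (f x)
    obtain ⟨_, ⟨_, ⟨a, rfl⟩, rfl⟩, hxa, haU⟩ :=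
      PrimeSpectrum.isBasis_basic_opens.exists_subset_of_mem_open
        (show x ∈ ((f ⁻¹ᵁ (U i) : (Spec R).Opens) : Set (Spec R)) from hi) (f ⁻¹ᵁ (U i)).2
    simp only [Opens.mem_iSup]
    refine ⟨a, ⟨i, ?_⟩, hxa⟩
    rintro _ ⟨y, hy, rfl⟩
    exact haU hy
  let S : s → CommRingCat.{u} := fun a ↦ .of (Localization.Away (a : R))
  let (a : s) : Algebra R (S a) := inferInstanceAs (Algebra R (Localization.Away (a : R)))
  have (a : s) : IsLocalization.Away (a : R) (S a) :=
    inferInstanceAs (IsLocalization.Away (a : R) (Localization.Away (a : R)))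
  have (a : s) : IsOpenImmersion (Spec.map (CommRingCat.ofHom (algebraMap R (S a)))) :=
    inferInstanceAs (IsOpenImmersion
      (Spec.map (CommRingCat.ofHom (algebraMap R (Localization.Away (a : R))))))
  refine finitePresentation_of_locally' (M.restrict f) s hs S ?_ ?_
  · intro a
    change Spec.map (CommRingCat.ofHom (algebraMap R (Localization.Away (a : R)))) ''ᵁ ⊤ = _
    simp
  · intro a
    obtain ⟨i, hi⟩ := a.2
    let ψ := Spec.map (CommRingCat.ofHom (algebraMap R (Localization.Away (a : R))))
    have hr : Set.range (ψ ≫ f) ⊆ Set.range (U i).ι := by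
      simp only [Scheme.Opens.range_ι]
      rintro _ ⟨y, rfl⟩
      refine hi ⟨ψ y, ?_, rfl⟩
      have := (show ψ ''ᵁ ⊤ = PrimeSpectrum.basicOpen (a : R) by simp [ψ])
      rw [← this]
      exact ⟨y, trivial, rfl⟩
    let g := IsOpenImmersion.lift (U i).ι (ψ ≫ f) hr
    have hg : g ≫ (U i).ι = ψ ≫ f := IsOpenImmersion.lift_fac _ _ _
    have : IsOpenImmersion (g ≫ (U i).ι) := by rw [hg]; infer_instance
    have : IsOpenImmersion g := .of_comp g (U i).ι
    obtain ⟨P, hP⟩ := hP i
    let e : (M.restrict (U i).ι).restrict g ≅ (M.restrict f).restrict ψ :=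
      ((restrictFunctorComp g (U i).ι).app M).symm ≪≫
        (restrictFunctorCongr hg).app M ≪≫ (restrictFunctorComp ψ f).app M
    exact finitePresentation_of_presentation _
      (SheafOfModules.Presentation.ofIsIso.{u, u, u} e.hom (presentationRestrict g P))

end

end Groth.Agent.Models2.QCohLoc
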