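import Groth.Agent.Models2.FiltHom
import Groth.Agent.Ega1.QcqsPush
import Mathlib.CategoryTheory.Adjunction.Restrict
import Mathlib.CategoryTheory.Presentable.Adjunction

/-!
# Pushforward of quasi-coherent modules commutes with filtered colimits
-/

set_option autoImplicit false
universe u
open CategoryTheory AlgebraicGeometry Limits TopologicalSpace

namespace Groth.Agent.Models2.QCohPush

open AlgebraicGeometry.Scheme.Modules Groth.Agent.Models2.QCohLoc Groth.Agent.Models2.QCohColim
  Groth.Agent.Models2.LocHom Groth.Agent.Models2.FiltHom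

noncomputable section

variable {X Y : Scheme.{u}} {R : CommRingCat.{u}}

/-- The structure sheaf. -/
abbrev O (X : Scheme.{u}) : X.Modules := SheafOfModules.unit X.ringCatSheaf

/-- Global sections of the structure sheaf of an affine open. -/
def ΓOIso (f : Spec R ⟶ X) [IsOpenImmersion f] :
    (moduleSpecΓFunctor (R := R)).obj ((O X).restrict f) ≅ ModuleCat.of R R :=
  (moduleSpecΓFunctor (R := R)).mapIso (restrictUnitIso f) ≪≫
    ((tilde.toTildeΓNatIso (R := R)).app (ModuleCat.of R R)).symm

lemma finitePresentation_O (f : Spec R ⟶ X) [IsOpenImmersion f] :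
    Module.FinitePresentation R ((moduleSpecΓFunctor (R := R)).obj ((O X).restrict f)) :=
  Module.FinitePresentation.of_equiv (ΓOIso f).symm.toLinearEquiv

lemma isQC_O : IsQC (O X) := by
  refine isQC_of_restrict _ _ _ (isOpenCover_affineOpenCover X) fun i ↦ ?_
  have h : IsQC (tilde (R := X.affineOpenCover.X i) (ModuleCat.of (X.affineOpenCover.X i)
    (X.affineOpenCover.X i))) := inferInstance
  exact isQC_of_iso (restrictUnitIso (X.affineOpenCover.f i)).symm h

/-- A section over `V` as a local homomorphism out of the structure sheaf. -/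
def ofSection {G : X.Modules} {V : X.Opens} (x : Γ(G, V)) : LHom (O X) G V where
  app W hW := AddMonoidHom.mk' (fun (r : Γ(X, W)) ↦ (r • G.presheaf.map (homOfLE hW).op x : Γ(G, W)))
    (fun (r s : Γ(X, W)) ↦ add_smul r s _)
  nat W W' h hW (r : Γ(X, W)) := by
    change (X.presheaf.map (homOfLE h).op r) • G.presheaf.map (homOfLE (h.trans hW)).op x =
      G.presheaf.map (homOfLE h).op (r • G.presheaf.map (homOfLE hW).op x)
    rw [map_smul, map_map_apply]
  smul W hW (r : Γ(X, W)) (s : Γ(X, W)) := mul_smul r s _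

lemma ofSection_app {G : X.Modules} {V : X.Opens} (x : Γ(G, V)) (W : X.Opens) (hW : W ≤ V)
    (r : Γ(X, W)) : (ofSection x).app W hW r = r • G.presheaf.map (homOfLE hW).op x := rfl

lemma ofSection_comp {G H : X.Modules} {V : X.Opens} (x : Γ(G, V)) (g : G ⟶ H) :
    (ofSection x).comp g = ofSection (g.app V x) := by
  refine LHom.ext_apply fun W hW (r : Γ(X, W)) ↦ ?_
  rw [LHom.comp_app, ofSection_app, ofSection_app, Hom.app_smul, hom_naturality_apply]

lemma ofSection_one {G : X.Modules} {V : X.Opens} (x : Γ(G, V)) :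
    (ofSection x).app V le_rfl (1 : Γ(X, V)) = x := by
  rw [ofSection_app, one_smul, map_id_apply]

section

variable {J : Type u} [SmallCategory J] [IsFiltered J] {D : J ⥤ QCohCat.QCoh X} {c : Cocone D}

/-- Sections over a quasi-compact open which agree in the colimit agree at some stage. -/
theorem sections_inj (hc : IsColimit c) (V : X.Opens) (hV : IsCompact (V : Set X)) {j : J}
    (x y : Γ((D.obj j).obj, V)) (h : (c.ι.app j).hom.app V x = (c.ι.app j).hom.app V y) :
    ∃ (k : J) (u : j ⟶ k), (D.map u).hom.app V x = (D.map u).hom.app V y := by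
  obtain ⟨k, u, hu⟩ := qc_inj hc isQC_O (fun R f _ ↦
      haveI := finitePresentation_O (X := X) f
      inferInstance) (ofSection x) (ofSection y) V hV le_rfl le_rfl (by
    rw [ofSection_comp, ofSection_comp, h]
    intro W _ _ _ _
    rfl)
  refine ⟨k, u, ?_⟩
  have := hu V le_rfl le_rfl le_rfl (1 : Γ(X, V))
  rwa [ofSection_comp, ofSection_comp, ofSection_one, ofSection_one] at this

/-- Sections over a quasi-compact open of a quasi-separated scheme commute with filtered colimits
of quasi-coherent modules. -/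
theorem sections_surj [QuasiSeparatedSpace X] (hc : IsColimit c) (V : X.Opens)
    (hV : IsCompact (V : Set X)) (x : Γ(c.pt.obj, V)) :
    ∃ (j : J) (y : Γ((D.obj j).obj, V)), (c.ι.app j).hom.app V y = x := by
  obtain ⟨j, ψ, hψ⟩ := qc_surj hc isQC_O (fun R f _ ↦ finitePresentation_O (X := X) f) V hV
    (ofSection x)
  refine ⟨j, ψ.app V le_rfl (1 : Γ(X, V)), ?_⟩
  have := congr(($hψ).app V le_rfl (1 : Γ(X, V)))
  rwa [ofSection_one] at this

end

lemma isIso_of_affine {M N : X.Modules} (φ : M ⟶ N)
    (h : ∀ U : X.affineOpens, Function.Bijective (φ.app U.1)) : IsIso φ := by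
  rw [← isIso_iff_of_reflects_iso _ (toPresheaf X)]
  let F : TopCat.Sheaf Ab.{u} X := ⟨M.presheaf, M.isSheaf⟩
  let G : TopCat.Sheaf Ab.{u} X := ⟨N.presheaf, N.isSheaf⟩
  let ψ : F ⟶ G := ⟨φ.mapPresheaf⟩
  have : IsIso ψ := TopCat.Sheaf.isIso_iff_isIso_basis (B := fun U : X.affineOpens ↦ U.1)
      (by simpa using X.isBasis_affineOpens) (φ := ψ) fun i ↦ by
    rw [ConcreteCategory.isIso_iff_bijective]
    exact h i
  exact @Functor.map_isIso _ _ _ _ _ _ (TopCat.Sheaf.forget Ab.{u} X) ψ this

lemma isIso_of_isIso_hom {M N : QCohCat.QCoh X} (φ : M ⟶ N) [IsIso φ.hom] : IsIso φ :=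
  haveI : IsIso ((QCohCat.isQCoh X).ι.map φ) := ‹_›
  isIso_of_reflects_iso φ (QCohCat.isQCoh X).ι

section

variable {J : Type u} [SmallCategory J] [IsFiltered J] {D : J ⥤ QCohCat.QCoh X}

/-- A cocone of quasi-coherent modules is a colimit as soon as sections over affine opens
form a colimit. -/
theorem isColimit_of_sections [QuasiSeparatedSpace X] (c : Cocone D)
    (hsurj : ∀ (V : X.affineOpens) (x : Γ(c.pt.obj, V.1)), ∃ (j : J) (y : Γ((D.obj j).obj, V.1)),
      (c.ι.app j).hom.app V.1 y = x)
    (hinj : ∀ (V : X.affineOpens) (j : J) (x y : Γ((D.obj j).obj, V.1)),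
      (c.ι.app j).hom.app V.1 x = (c.ι.app j).hom.app V.1 y →
      ∃ (k : J) (u : j ⟶ k), (D.map u).hom.app V.1 x = (D.map u).hom.app V.1 y) :
    Nonempty (IsColimit c) := by
  let c₀ := colimit.cocone D
  let hc₀ : IsColimit c₀ := colimit.isColimit D
  let d : c₀.pt ⟶ c.pt := hc₀.desc c
  have hd (j : J) (V : X.Opens) (x : Γ((D.obj j).obj, V)) :
      d.hom.app V ((c₀.ι.app j).hom.app V x) = (c.ι.app j).hom.app V x := by
    have := hc₀.fac c j
    exact congr(($this).hom.app V x)
  have hw (j k : J) (u : j ⟶ k) (V : X.Opens) (x : Γ((D.obj j).obj, V)) :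
      (c₀.ι.app k).hom.app V ((D.map u).hom.app V x) = (c₀.ι.app j).hom.app V x := by
    have := c₀.w u
    exact congr(($this).hom.app V x)
  have : IsIso d.hom := by
    refine isIso_of_affine _ fun V ↦ ⟨fun x y hxy ↦ ?_, fun x ↦ ?_⟩
    · obtain ⟨j₁, x', hx⟩ := sections_surj hc₀ V.1 V.2.isCompact x
      obtain ⟨j₂, y', hy⟩ := sections_surj hc₀ V.1 V.2.isCompact y
      obtain ⟨k, u, hu⟩ := hinj V (IsFiltered.max j₁ j₂)
        ((D.map (IsFiltered.leftToMax j₁ j₂)).hom.app V.1 x')
        ((D.map (IsFiltered.rightToMax j₁ j₂)).hom.app V.1 y') (by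
          rw [← hd, ← hd, hw, hw, hx, hy]
          exact hxy)
      rw [← hx, ← hy, ← hw _ _ (IsFiltered.leftToMax j₁ j₂), ← hw _ _ (IsFiltered.rightToMax j₁ j₂),
        ← hw _ _ u, hu, hw]
    · obtain ⟨j, y, hy⟩ := hsurj V x
      exact ⟨(c₀.ι.app j).hom.app V.1 y, by rw [hd, hy]⟩
  have : IsIso d := isIso_of_isIso_hom d
  exact ⟨IsColimit.ofPointIso hc₀ (i := this)⟩

end

/-- Restriction of quasi-coherent modules along an open immersion. -/
def restrictQ (f : Y ⟶ X) [IsOpenImmersion f] : QCohCat.QCoh X ⥤ QCohCat.QCoh Y :=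
  ObjectProperty.lift _ ((QCohCat.isQCoh X).ι ⋙ restrictFunctor f)
    fun M ↦ isQC_restrict f _ M.property

/-- Pushforward of quasi-coherent modules along a quasi-compact quasi-separated morphism. -/
def pushQ (f : Y ⟶ X) [QuasiCompact f] [QuasiSeparated f] : QCohCat.QCoh Y ⥤ QCohCat.QCoh X :=
  ObjectProperty.lift _ ((QCohCat.isQCoh Y).ι ⋙ pushforward f)
    fun M ↦ Groth.Agent.Ega1.QcqsPush.isQCoh_pushforward f _ M.property

/-- Restriction is left adjoint to pushforward. -/
def adjQ (f : Y ⟶ X) [IsOpenImmersion f] [QuasiCompact f] : restrictQ f ⊣ pushQ f :=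
  (restrictAdjunction f).restrictFullyFaithful (QCohCat.isQCoh X).fullyFaithfulι
    (QCohCat.isQCoh Y).fullyFaithfulι (Iso.refl _) (Iso.refl _)

instance (f : Y ⟶ X) [QuasiCompact f] [QuasiSeparated f] [QuasiSeparatedSpace X]
    [QuasiSeparatedSpace Y] (J : Type u) [SmallCategory J] [IsFiltered J] :
    PreservesColimitsOfShape J (pushQ f) where
  preservesColimit {D} := ⟨fun {c} hc ↦ by
    refine isColimit_of_sections _ (fun V x ↦ ?_) (fun V j x y h ↦ ?_)
    · exact sections_surj hc (f ⁻¹ᵁ V.1) (QuasiCompact.isCompact_preimage (f := f) V.1.1 V.1.2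
        V.2.isCompact) x
    · exact sections_inj hc (f ⁻¹ᵁ V.1) (QuasiCompact.isCompact_preimage (f := f) V.1.1 V.1.2
        V.2.isCompact) x y h⟩

attribute [local instance] Cardinal.fact_isRegular_aleph0

instance (f : Y ⟶ X) [QuasiCompact f] [QuasiSeparated f] [QuasiSeparatedSpace X]
    [QuasiSeparatedSpace Y] : Functor.IsFinitelyAccessible.{u} (pushQ f) := by
  rw [Functor.IsFinitelyAccessible_iff_preservesFilteredColimitsOfSize]
  exact ⟨fun J _ _ ↦ inferInstance⟩

/-- Quasi-coherent modules on `Spec R` are the same as `R`-modules. -/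
def tildeQ (R : CommRingCat.{u}) : ModuleCat.{u} R ≌ QCohCat.QCoh (Spec R) := tildeEquiv

/-- The restriction of a compact object of `QCoh X` to an affine open is finitely presented. -/
theorem finitePresentation_of_isFinitelyPresentable [QuasiSeparatedSpace X]
    (F : QCohCat.QCoh X) [IsFinitelyPresentable.{u} F] (f : Spec R ⟶ X) [IsOpenImmersion f] :
    Module.FinitePresentation R ((moduleSpecΓFunctor (R := R)).obj (F.obj.restrict f)) := by
  have : QuasiCompact f := inferInstance
  have : IsFinitelyPresentable.{u} ((restrictQ f).obj F) :=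
    (adjQ f).isCardinalPresentable_leftAdjoint_obj _ F
  have h : IsFinitelyPresentable.{u} ((tildeQ R).inverse.obj ((restrictQ f).obj F)) :=
    isCardinalPresentable_of_equivalence ((restrictQ f).obj F) _ (tildeQ R).symm
  exact @ModuleFP.finitePresentation_of_isFinitelyPresentable R _
    ((tildeQ R).inverse.obj ((restrictQ f).obj F)) h

theorem isFinitePresentation_of_isFinitelyPresentable [QuasiSeparatedSpace X]
    (F : QCohCat.QCoh X) [IsFinitelyPresentable.{u} F] :
    SheafOfModules.IsFinitePresentation.{u, u, u} (R := X.ringCatSheaf) F.obj := by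
  refine isFinitePresentation_of_presentation F.obj _ _ (isOpenCover_affineOpenCover X) fun i ↦ ?_
  have := finitePresentation_of_isFinitelyPresentable F (X.affineOpenCover.f i)
  have := isQC_restrict (X.affineOpenCover.f i) F.obj F.property
  exact @exists_finite_presentation _ (F.obj.restrict (X.affineOpenCover.f i)) this
    (finitePresentation_of_isFinitelyPresentable F (X.affineOpenCover.f i))

end

end Groth.Agent.Models2.QCohPush
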