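import Groth.Prelude.Def_DRing2
import Groth.Prelude.Def_FlatCA
import Mathlib.RingTheory.Nakayama
import Mathlib.Algebra.Homology.ShortComplex.ModuleCat

/-!
# Towers of complexes of modules, elementwise (for the derived limit of pseudo-coherent complexes)

* `dl`, `Ex`: differentials and exactness elementwise;
* `SMap φ K K'`: semilinear chain maps; `BC s`: elementwise form of "`S ⊗ K → K'` is a
  quasi-isomorphism" for a surjective `s`;
* `exists_split`: a bounded above complex of projectives, exact above, has split top cocycles;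
* `generates`: Nakayama; `exists_cocycle_lift`: surjectivity on top cocycles;
* `IsLim`: elementwise limits of towers; the Milnor lemmas `exists_lift_zero`, `ex_of_isLim`;
* `cone`: explicit mapping cones and their towers.
-/

set_option autoImplicit false

universe u

open CategoryTheory CategoryTheory.Limits

namespace Groth.Agent.Models2.RlimPC

/-- Cochain complexes of modules. -/
abbrev Cx (R : Type u) [CommRing R] := CochainComplex (ModuleCat.{u} R) ℤ

section Basic

variable {R S : Type u} [CommRing R] [CommRing S]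

/-- The differential as a linear map. -/
noncomputable def dl (K : Cx R) (i : ℤ) : K.X i →ₗ[R] K.X (i + 1) := (K.d i (i + 1)).hom

lemma dl_dl (K : Cx R) (i : ℤ) (x : K.X i) : dl K (i + 1) (dl K i x) = 0 :=
  congr($(K.d_comp_d i (i + 1) (i + 1 + 1)) x)

/-- `K` is exact in degree `i + 1`. -/
def Ex (K : Cx R) (i : ℤ) : Prop :=
  ∀ z : K.X (i + 1), dl K (i + 1) z = 0 → ∃ x : K.X i, dl K i x = z

lemma exactAt_iff (K : Cx R) (i : ℤ) : K.ExactAt (i + 1) ↔ Ex K i := by
  rw [HomologicalComplex.exactAt_iff' K i (i + 1) (i + 1 + 1) (by simp) (by simp),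
    ShortComplex.moduleCat_exact_iff]
  rfl

/-- Semilinear chain maps. -/
structure SMap (φ : R →+* S) (K : Cx R) (K' : Cx S) where
  /-- the components -/
  f : ∀ i, K.X i →ₛₗ[φ] K'.X i
  comm : ∀ i x, f (i + 1) (dl K i x) = dl K' i (f i x)

variable {φ : R →+* S} {K : Cx R} {K' : Cx S}

/-- Termwise surjective semilinear chain maps. -/
def SMap.Surj (s : SMap φ K K') : Prop := ∀ i, Function.Surjective (s.f i)

/-- The complex `ker s / I K` is acyclic, `I = ker φ`. For `s` surjective this says that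
`S ⊗ K → K'` is a quasi-isomorphism. -/
def BC (s : SMap φ K K') : Prop :=
  ∀ i (x : K.X (i + 1)), s.f (i + 1) x = 0 →
    dl K (i + 1) x ∈ RingHom.ker φ • (⊤ : Submodule R (K.X (i + 1 + 1))) →
    ∃ y : K.X i, s.f i y = 0 ∧ x - dl K i y ∈ RingHom.ker φ • (⊤ : Submodule R (K.X (i + 1)))

/-- Terms finite projective. -/
def FP (K : Cx R) : Prop := ∀ i, Module.Finite R (K.X i) ∧ Module.Projective R (K.X i)

/-- Bounded above. -/
def BddAb (K : Cx R) : Prop := ∃ c : ℤ, ∀ i, c < i → Subsingleton (K.X i)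

lemma map_smul_top_le {M N : Type u} [AddCommGroup M] [Module R M] [AddCommGroup N] [Module R N]
    (I : Ideal R) (f : M →ₗ[R] N) {x : M} (hx : x ∈ I • (⊤ : Submodule R M)) :
    f x ∈ I • (⊤ : Submodule R N) := by
  have h : (I • (⊤ : Submodule R M)).map f ≤ I • (⊤ : Submodule R N) := by
    rw [Submodule.map_smul'']
    exact Submodule.smul_mono le_rfl le_top
  exact h ⟨x, hx, rfl⟩

lemma map_ker_smul_top {M N : Type u} [AddCommGroup M] [Module R M] [AddCommGroup N] [Module S N]
    (f : M →ₛₗ[φ] N) {x : M} (hx : x ∈ RingHom.ker φ • (⊤ : Submodule R M)) : f x = 0 := by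
  induction hx using Submodule.smul_induction_on' with
  | smul r hr n hn => rw [LinearMap.map_smulₛₗ, (RingHom.mem_ker).1 hr, zero_smul]
  | add x hx y hy h1 h2 => rw [map_add, h1, h2, add_zero]

/-- The top cocycles of a bounded above complex of projectives, exact above, split off. -/
theorem exists_split (hP : FP K) (hb : BddAb K) (i : ℤ) (hex : ∀ j, i < j → Ex K j) :
    ∃ σ : K.X (i + 1 + 1) →ₗ[R] K.X (i + 1), ∀ x, dl K (i + 1) (σ (dl K (i + 1) x)) =
      dl K (i + 1) x := by
  obtain ⟨c, hc⟩ := hb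
  suffices H : ∀ (n : ℕ) (i : ℤ), c ≤ i + n → (∀ j, i < j → Ex K j) →
      ∃ σ : K.X (i + 1 + 1) →ₗ[R] K.X (i + 1), ∀ x, dl K (i + 1) (σ (dl K (i + 1) x)) =
        dl K (i + 1) x from
    H (c - i).toNat i (by have := Int.self_le_toNat (c - i); omega) hex
  intro n
  induction n with
  | zero =>
    intro i hi _
    refine ⟨0, fun x => ?_⟩
    have := hc (i + 1 + 1) (by simp only [Nat.cast_zero] at hi; omega)
    exact Subsingleton.elim _ _
  | succ n ih =>
    intro i hi hex
    obtain ⟨τ, hτ⟩ := ih (i + 1) (by push_cast at hi ⊢; omega)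
      (fun j hj => hex j (by omega))
    -- `ρ = 1 - τ d` projects onto the cocycles in degree `i + 2`
    let ρ : K.X (i + 1 + 1) →ₗ[R] LinearMap.ker (dl K (i + 1 + 1)) :=
      LinearMap.codRestrict _ (LinearMap.id - τ ∘ₗ dl K (i + 1 + 1)) (fun x => by
        simp only [LinearMap.mem_ker, LinearMap.sub_apply, LinearMap.id_apply,
          LinearMap.comp_apply, map_sub]
        rw [hτ, sub_self])
    have hρ : ∀ z : LinearMap.ker (dl K (i + 1 + 1)), ρ z = z := by
      intro z
      apply Subtype.ext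
      change (z : K.X (i + 1 + 1)) - τ (dl K (i + 1 + 1) z) = z
      rw [LinearMap.mem_ker.1 z.2, map_zero, sub_zero]
    have := (hP (i + 1 + 1)).2
    have hproj : Module.Projective R (LinearMap.ker (dl K (i + 1 + 1))) :=
      Module.Projective.of_split (Submodule.subtype _) ρ (LinearMap.ext hρ)
    let δ : K.X (i + 1) →ₗ[R] LinearMap.ker (dl K (i + 1 + 1)) :=
      LinearMap.codRestrict _ (dl K (i + 1)) (fun x => dl_dl K (i + 1) x)
    have hδ : Function.Surjective δ := by
      rintro ⟨z, hz⟩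
      obtain ⟨x, hx⟩ := hex (i + 1) (by omega) z hz
      exact ⟨x, Subtype.ext hx⟩
    obtain ⟨σ, hσ⟩ := Module.projective_lifting_property δ LinearMap.id hδ
    refine ⟨σ ∘ₗ ρ, fun x => ?_⟩
    have h1 : ρ (dl K (i + 1) x) = δ x := by
      rw [← hρ (δ x)]
      rfl
    have h2 : δ (σ (δ x)) = δ x := LinearMap.congr_fun hσ (δ x)
    rw [LinearMap.comp_apply, h1]
    exact congrArg Subtype.val h2

/-- Surjectivity on top cocycles. -/
theorem exists_cocycle_lift (hP : FP K) (hb : BddAb K) (i : ℤ) (hex : ∀ j, i < j → Ex K j)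
    (s : SMap φ K K') (hs : s.Surj) (hbc : BC s) (y : K'.X (i + 1)) (hy : dl K' (i + 1) y = 0) :
    ∃ x : K.X (i + 1), dl K (i + 1) x = 0 ∧ s.f (i + 1) x = y := by
  obtain ⟨σ, hσ⟩ := exists_split hP hb i hex
  obtain ⟨x₀, rfl⟩ := hs (i + 1) y
  obtain ⟨v, hv, hv'⟩ := hbc (i + 1) (dl K (i + 1) x₀) (by rw [s.comm, hy])
    (by rw [dl_dl]; exact Submodule.zero_mem _)
  rw [← map_sub] at hv'
  refine ⟨(x₀ - v) - σ (dl K (i + 1) (x₀ - v)), ?_, ?_⟩
  · rw [map_sub, hσ, sub_self]
  · rw [map_sub, map_sub, hv, sub_zero, map_ker_smul_top _ (map_smul_top_le _ σ hv'), sub_zero]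

lemma ker_le_jacobson (hnil : ∀ x ∈ RingHom.ker φ, IsNilpotent x) :
    RingHom.ker φ ≤ (⊥ : Ideal R).jacobson := by
  intro x hx
  have h : x ∈ nilradical R := (hnil x hx)
  exact Ideal.radical_le_jacobson h

/-- Nakayama for top cohomology: cocycles generating the top cohomology of `K'` generate that of
`K`. -/
theorem generates (hP : FP K) (hb : BddAb K) (i : ℤ) (hex : ∀ j, i < j → Ex K j)
    (s : SMap φ K K') (hφ : Function.Surjective φ) (hs : s.Surj) (hbc : BC s)
    (hnil : ∀ x ∈ RingHom.ker φ, IsNilpotent x) {r : ℕ}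
    (z : Fin r → K.X (i + 1)) (hz : ∀ j, dl K (i + 1) (z j) = 0)
    (H : ∀ y : K'.X (i + 1), dl K' (i + 1) y = 0 → ∃ (g : Fin r → S) (w : K'.X i),
      y = ∑ j, g j • s.f (i + 1) (z j) + dl K' i w)
    (x : K.X (i + 1)) (hx : dl K (i + 1) x = 0) :
    ∃ (g : Fin r → R) (w : K.X i), x = ∑ j, g j • z j + dl K i w := by
  obtain ⟨σ, hσ⟩ := exists_split hP hb i hex
  let Z : Submodule R (K.X (i + 1)) := LinearMap.ker (dl K (i + 1))
  let N : Submodule R (K.X (i + 1)) := Submodule.span R (Set.range z) ⊔ LinearMap.range (dl K i)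
  let ρ : K.X (i + 1) →ₗ[R] K.X (i + 1) := LinearMap.id - σ ∘ₗ dl K (i + 1)
  have hρZ : ∀ x, ρ x ∈ Z := by
    intro x
    simp only [ρ, Z, LinearMap.mem_ker, LinearMap.sub_apply, LinearMap.id_apply,
      LinearMap.comp_apply, map_sub]
    rw [hσ, sub_self]
  have hρ : ∀ x ∈ Z, ρ x = x := by
    intro x hx
    simp only [ρ, LinearMap.sub_apply, LinearMap.id_apply, LinearMap.comp_apply]
    rw [LinearMap.mem_ker.1 hx, map_zero, sub_zero]
  have hZfg : Z.FG := by
    have h1 : Z = LinearMap.range ρ := by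
      apply le_antisymm
      · intro x hx
        exact ⟨x, hρ x hx⟩
      · rintro _ ⟨x, rfl⟩
        exact hρZ x
    rw [h1]
    have := (hP (i + 1)).1
    exact Submodule.fg_top _ |>.1 (Module.Finite.fg_top)
  have hle : Z ≤ N ⊔ (RingHom.ker φ) • Z := by
    intro x hx
    obtain ⟨g, w, h⟩ := H (s.f (i + 1) x) (by rw [← s.comm, LinearMap.mem_ker.1 hx, map_zero])
    choose g' hg' using fun j => hφ (g j)
    obtain ⟨w', hw'⟩ := hs i w
    have h1 : s.f (i + 1) (x - ∑ j, g' j • z j - dl K i w') = 0 := by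
      rw [map_sub, map_sub, s.comm, hw', map_sum, h]
      simp only [LinearMap.map_smulₛₗ, hg']
      abel
    have h2 : dl K (i + 1) (x - ∑ j, g' j • z j - dl K i w') = 0 := by
      rw [map_sub, map_sub, dl_dl, LinearMap.mem_ker.1 hx, map_sum]
      simp only [map_smul, hz, smul_zero, Finset.sum_const_zero, sub_zero]
    obtain ⟨y, hy, hy'⟩ := hbc i _ h1 (by rw [h2]; exact Submodule.zero_mem _)
    set e := x - ∑ j, g' j • z j - dl K i w' - dl K i y with he
    have heZ : e ∈ Z := by
      rw [LinearMap.mem_ker, he, map_sub, h2, dl_dl, sub_zero]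
    have heI : e ∈ RingHom.ker φ • Z := by
      rw [← hρ e heZ]
      have h3 : (RingHom.ker φ • (⊤ : Submodule R (K.X (i + 1)))).map ρ ≤ RingHom.ker φ • Z := by
        rw [Submodule.map_smul'']
        refine Submodule.smul_mono le_rfl ?_
        rintro _ ⟨x, -, rfl⟩
        exact hρZ x
      exact h3 ⟨e, hy', rfl⟩
    have hx' : x = (∑ j, g' j • z j + dl K i (w' + y)) + e := by
      rw [he, map_add]; abel
    rw [hx']
    refine Submodule.add_mem_sup (Submodule.add_mem_sup ?_ ⟨_, rfl⟩) heI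
    exact Submodule.sum_mem _ fun j _ => Submodule.smul_mem _ _ (Submodule.subset_span ⟨j, rfl⟩)
  have hNZ : N ≤ Z := by
    refine sup_le (Submodule.span_le.2 ?_) ?_
    · rintro _ ⟨j, rfl⟩
      exact hz j
    · rintro _ ⟨x, rfl⟩
      exact dl_dl K i x
  have hle2 : Z ≤ N :=
    Submodule.le_of_le_smul_of_le_jacobson_bot hZfg (ker_le_jacobson hnil) hle
  obtain ⟨a, ha, b, hb, hab⟩ := Submodule.mem_sup.1 (hle2 (LinearMap.mem_ker.2 hx))
  obtain ⟨w, rfl⟩ := hb
  obtain ⟨g, rfl⟩ := (Submodule.mem_span_range_iff_exists_fun R).1 ha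
  exact ⟨g, w, hab.symm⟩

/-- Exactness in the top degree lifts. -/
theorem ex_of_ex (hP : FP K) (hb : BddAb K) (i : ℤ) (hex : ∀ j, i < j → Ex K j)
    (s : SMap φ K K') (hφ : Function.Surjective φ) (hs : s.Surj) (hbc : BC s)
    (hnil : ∀ x ∈ RingHom.ker φ, IsNilpotent x) (h : Ex K' i) : Ex K i := by
  intro x hx
  obtain ⟨g, w, hw⟩ := generates hP hb i hex s hφ hs hbc hnil (r := 0) (fun j => j.elim0)
    (fun j => j.elim0) (fun y hy => by
      obtain ⟨w, hw⟩ := h y hy
      exact ⟨fun j => j.elim0, w, by simp [hw]⟩) x hx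
  exact ⟨w, by simpa using hw.symm⟩

/-- Exactness above a given degree lifts. -/
theorem ex_above_of_ex_above (hP : FP K) (hb : BddAb K) (i : ℤ)
    (s : SMap φ K K') (hφ : Function.Surjective φ) (hs : s.Surj) (hbc : BC s)
    (hnil : ∀ x ∈ RingHom.ker φ, IsNilpotent x) (h : ∀ j, i < j → Ex K' j) :
    ∀ j, i < j → Ex K j := by
  have hb' := hb
  obtain ⟨c, hc⟩ := hb
  suffices H : ∀ (n : ℕ) (j : ℤ), c ≤ j + n → i ≤ j → (∀ k, j < k → Ex K k) from
    H (c - i).toNat i (by have := Int.self_le_toNat (c - i); omega) le_rfl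
  intro n
  induction n with
  | zero =>
    intro j hj _ k hk z hz
    have := hc (k + 1) (by simp only [Nat.cast_zero] at hj; omega)
    exact ⟨0, Subsingleton.elim _ _⟩
  | succ n ih =>
    intro j hj hij k hk
    by_cases hk' : k = j + 1
    · subst hk'
      exact ex_of_ex hP hb' (j + 1) (ih (j + 1) (by push_cast at hj ⊢; omega) (by omega)) s hφ hs
        hbc hnil (h _ (by omega))
    · exact ih (j + 1) (by push_cast at hj ⊢; omega) (by omega) k (by omega)

end Basic

end Groth.Agent.Models2.RlimPC
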