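import Groth.Agent.Models2.RlimPCA
import Mathlib.Algebra.Homology.HomologySequence
import Mathlib.Algebra.Homology.QuasiIso

/-!
# Elementwise quasi-isomorphisms, cones and towers
-/

set_option autoImplicit false

universe u

open CategoryTheory CategoryTheory.Limits

namespace Groth.Agent.Models2.RlimPC

section QI

variable {R : Type u} [CommRing R] {K L : Cx R}

/-- chain maps commute with `dl` -/
lemma hom_dl (f : K ⟶ L) (i : ℤ) (x : K.X i) :
    (f.f (i + 1)).hom (dl K i x) = dl L i ((f.f i).hom x) :=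
  (congr($(f.comm i (i + 1)) x)).symm

lemma exists_toCycles (K : Cx R) (i : ℤ) (c : K.cycles (i + 1))
    (hc : (K.homologyπ (i + 1)).hom c = 0) : ∃ x : K.X i, (K.toCycles i (i + 1)).hom x = c := by
  have h : (ShortComplex.mk (K.toCycles i (i + 1)) (K.homologyπ (i + 1))
      (K.toCycles_comp_homologyπ i (i + 1))).Exact :=
    ShortComplex.exact_of_g_is_cokernel _ (K.homologyIsCokernel i (i + 1) (by simp))
  exact (ShortComplex.moduleCat_exact_iff _).1 h c hc

lemma exists_cycle (K : Cx R) (i : ℤ) (z : K.X (i + 1)) (hz : dl K (i + 1) z = 0) :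
    ∃ c : K.cycles (i + 1), (K.iCycles (i + 1)).hom c = z := by
  have h : (ShortComplex.mk (K.iCycles (i + 1)) (K.d (i + 1) (i + 1 + 1))
      (K.iCycles_d (i + 1) (i + 1 + 1))).Exact :=
    ShortComplex.exact_of_f_is_kernel _ (K.cyclesIsKernel (i + 1) (i + 1 + 1) (by simp))
  exact (ShortComplex.moduleCat_exact_iff _).1 h z hz

lemma iCycles_injective (K : Cx R) (i : ℤ) : Function.Injective (K.iCycles i).hom :=
  (ModuleCat.mono_iff_injective _).1 inferInstance

lemma homologyπ_surjective (K : Cx R) (i : ℤ) : Function.Surjective (K.homologyπ i).hom :=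
  (ModuleCat.epi_iff_surjective _).1 inferInstance

lemma dl_iCycles (K : Cx R) (i : ℤ) (c : K.cycles i) : dl K i ((K.iCycles i).hom c) = 0 :=
  congr($(K.iCycles_d i (i + 1)) c)

/-- elementwise criterion for quasi-isomorphisms in one degree -/
theorem quasiIsoAt_iff_elem (f : K ⟶ L) (i : ℤ) : QuasiIsoAt f (i + 1) ↔
    ((∀ (z : K.X (i + 1)), dl K (i + 1) z = 0 → ∀ w : L.X i, (f.f (i + 1)).hom z = dl L i w →
      ∃ v, z = dl K i v) ∧
    (∀ (y : L.X (i + 1)), dl L (i + 1) y = 0 → ∃ z, dl K (i + 1) z = 0 ∧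
      ∃ w, y = (f.f (i + 1)).hom z + dl L i w)) := by
  have hπ : ∀ c : K.cycles (i + 1), (HomologicalComplex.homologyMap f (i + 1)).hom
      ((K.homologyπ (i + 1)).hom c) = (L.homologyπ (i + 1)).hom
        ((HomologicalComplex.cyclesMap f (i + 1)).hom c) := fun c =>
    congr($(HomologicalComplex.homologyπ_naturality f (i + 1)) c)
  have hi : ∀ c : K.cycles (i + 1), (L.iCycles (i + 1)).hom
      ((HomologicalComplex.cyclesMap f (i + 1)).hom c) =
        (f.f (i + 1)).hom ((K.iCycles (i + 1)).hom c) := fun c =>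
    congr($(HomologicalComplex.cyclesMap_i f (i + 1)) c)
  have hK : ∀ x : K.X i, (K.iCycles (i + 1)).hom ((K.toCycles i (i + 1)).hom x) = dl K i x :=
    fun x => congr($(K.toCycles_i i (i + 1)) x)
  have hL : ∀ x : L.X i, (L.iCycles (i + 1)).hom ((L.toCycles i (i + 1)).hom x) = dl L i x :=
    fun x => congr($(L.toCycles_i i (i + 1)) x)
  have hπK : ∀ x : K.X i, (K.homologyπ (i + 1)).hom ((K.toCycles i (i + 1)).hom x) = 0 :=
    fun x => congr($(K.toCycles_comp_homologyπ i (i + 1)) x)
  have hπL : ∀ x : L.X i, (L.homologyπ (i + 1)).hom ((L.toCycles i (i + 1)).hom x) = 0 :=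
    fun x => congr($(L.toCycles_comp_homologyπ i (i + 1)) x)
  rw [quasiIsoAt_iff_isIso_homologyMap, ConcreteCategory.isIso_iff_bijective]
  constructor
  · rintro ⟨h1, h2⟩
    constructor
    · intro z hz w hw
      obtain ⟨c, rfl⟩ := exists_cycle K i z hz
      have h3 : (HomologicalComplex.cyclesMap f (i + 1)).hom c = (L.toCycles i (i + 1)).hom w := by
        apply iCycles_injective
        rw [hi, hL, hw]
      have h4 : (K.homologyπ (i + 1)).hom c = 0 := by
        apply h1
        change (HomologicalComplex.homologyMap f (i + 1)).hom _ =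
          (HomologicalComplex.homologyMap f (i + 1)).hom _
        rw [hπ, h3, hπL, map_zero]
      obtain ⟨v, hv⟩ := exists_toCycles K i c h4
      exact ⟨v, by rw [← hK, hv]⟩
    · intro y hy
      obtain ⟨c, rfl⟩ := exists_cycle L i y hy
      obtain ⟨x, hx⟩ := h2 ((L.homologyπ (i + 1)).hom c)
      obtain ⟨c', rfl⟩ := homologyπ_surjective K (i + 1) x
      change (HomologicalComplex.homologyMap f (i + 1)).hom _ = _ at hx
      rw [hπ] at hx
      obtain ⟨w, hw⟩ := exists_toCycles L i (c - (HomologicalComplex.cyclesMap f (i + 1)).hom c')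
        (by rw [map_sub, hx, sub_self])
      refine ⟨(K.iCycles (i + 1)).hom c', dl_iCycles K _ _, w, ?_⟩
      rw [← hi, ← hL, hw, map_sub, add_sub_cancel]
  · rintro ⟨h1, h2⟩
    constructor
    · intro x y hxy
      obtain ⟨c, rfl⟩ := homologyπ_surjective K (i + 1) x
      obtain ⟨c', rfl⟩ := homologyπ_surjective K (i + 1) y
      change (HomologicalComplex.homologyMap f (i + 1)).hom _ =
        (HomologicalComplex.homologyMap f (i + 1)).hom _ at hxy
      rw [hπ, hπ, ← sub_eq_zero, ← map_sub, ← map_sub] at hxy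
      obtain ⟨w, hw⟩ := exists_toCycles L i _ hxy
      obtain ⟨v, hv⟩ := h1 ((K.iCycles (i + 1)).hom (c - c')) (dl_iCycles K _ _) w
        (by rw [← hi, ← hL, hw])
      have h5 : c - c' = (K.toCycles i (i + 1)).hom v := by
        apply iCycles_injective
        rw [hK, hv]
      rw [← sub_eq_zero, ← map_sub, h5, hπK]
    · intro y
      obtain ⟨c, rfl⟩ := homologyπ_surjective L (i + 1) y
      obtain ⟨z, hz, w, hw⟩ := h2 ((L.iCycles (i + 1)).hom c) (dl_iCycles L _ _)
      obtain ⟨c', rfl⟩ := exists_cycle K i z hz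
      refine ⟨(K.homologyπ (i + 1)).hom c', ?_⟩
      change (HomologicalComplex.homologyMap f (i + 1)).hom _ = _
      have h5 : c = (HomologicalComplex.cyclesMap f (i + 1)).hom c' +
          (L.toCycles i (i + 1)).hom w := by
        apply iCycles_injective
        rw [map_add, hi, hL, hw]
      rw [hπ, h5, map_add, hπL, add_zero]

theorem quasiIso_iff_elem (f : K ⟶ L) : QuasiIso f ↔ ∀ i : ℤ,
    ((∀ (z : K.X (i + 1)), dl K (i + 1) z = 0 → ∀ w : L.X i, (f.f (i + 1)).hom z = dl L i w →
      ∃ v, z = dl K i v) ∧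
    (∀ (y : L.X (i + 1)), dl L (i + 1) y = 0 → ∃ z, dl K (i + 1) z = 0 ∧
      ∃ w, y = (f.f (i + 1)).hom z + dl L i w)) := by
  rw [quasiIso_iff]
  constructor
  · intro h i
    exact (quasiIsoAt_iff_elem f i).1 (h (i + 1))
  · intro h n
    obtain ⟨i, rfl⟩ : ∃ i, n = i + 1 := ⟨n - 1, by omega⟩
    exact (quasiIsoAt_iff_elem f i).2 (h i)

end QI

section Cone

variable {R : Type u} [CommRing R] {F K : Cx R}

/-- The differential of the cone. -/
noncomputable def coneD (α : F ⟶ K) (i : ℤ) :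
    (K.X i × F.X (i + 1)) →ₗ[R] (K.X (i + 1) × F.X (i + 1 + 1)) :=
  LinearMap.prod (dl K i ∘ₗ LinearMap.fst _ _ _ + (α.f (i + 1)).hom ∘ₗ LinearMap.snd _ _ _)
    (-(dl F (i + 1) ∘ₗ LinearMap.snd _ _ _))

lemma coneD_apply (α : F ⟶ K) (i : ℤ) (x : K.X i × F.X (i + 1)) :
    coneD α i x = (dl K i x.1 + (α.f (i + 1)).hom x.2, -dl F (i + 1) x.2) := rfl

lemma coneD_coneD (α : F ⟶ K) (i : ℤ) (x : K.X i × F.X (i + 1)) :
    coneD α (i + 1) (coneD α i x) = 0 := by
  rw [coneD_apply, coneD_apply, map_add, dl_dl, map_neg, map_neg, dl_dl, hom_dl]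
  simp

/-- The mapping cone of `α : F ⟶ K`. -/
noncomputable def cone (α : F ⟶ K) : Cx R :=
  CochainComplex.of (fun i => ModuleCat.of R (K.X i × F.X (i + 1)))
    (fun i => ModuleCat.ofHom (coneD α i))
    (fun i => ModuleCat.hom_ext (LinearMap.ext fun x => coneD_coneD α i x))

lemma dl_cone (α : F ⟶ K) (i : ℤ) (x : K.X i × F.X (i + 1)) :
    dl (cone α) i x = coneD α i x :=
  congr(ModuleCat.Hom.hom $(CochainComplex.of_d (fun i => ModuleCat.of R (K.X i × F.X (i + 1)))
    (fun i => ModuleCat.ofHom (coneD α i)) i) x)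

/-- The shift of a complex (explicit form). -/
noncomputable def sh (F : Cx R) : Cx R :=
  CochainComplex.of (fun i => F.X (i + 1)) (fun i => -F.d (i + 1) (i + 1 + 1))
    (fun i => by simp)

lemma dl_sh (F : Cx R) (i : ℤ) (x : F.X (i + 1)) : dl (sh F) i x = -dl F (i + 1) x :=
  congr(ModuleCat.Hom.hom $(CochainComplex.of_d (fun i => F.X (i + 1))
    (fun i => -F.d (i + 1) (i + 1 + 1)) i) x)

/-- A chain map from a family of linear maps. -/
noncomputable def mkMap {K L : Cx R} (f : ∀ i, K.X i →ₗ[R] L.X i)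
    (hf : ∀ i x, f (i + 1) (dl K i x) = dl L i (f i x)) : K ⟶ L where
  f i := ModuleCat.ofHom (f i)
  comm' i j hij := by
    obtain rfl : i + 1 = j := hij
    ext x
    exact (hf i x).symm

/-- The inclusion into the cone. -/
noncomputable def coneInl (α : F ⟶ K) : K ⟶ cone α :=
  mkMap (L := cone α) (fun i => LinearMap.inl R (K.X i) (F.X (i + 1))) (fun i x => by
    rw [dl_cone]
    change _ = coneD α i (x, 0)
    rw [coneD_apply, map_zero, map_zero, neg_zero, add_zero]
    rfl)

/-- The projection from the cone. -/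
noncomputable def coneSnd (α : F ⟶ K) : cone α ⟶ sh F :=
  mkMap (K := cone α) (L := sh F) (fun i => LinearMap.snd R (K.X i) (F.X (i + 1))) (fun i x => by
    rw [dl_cone, dl_sh]
    rfl)

/-- The short exact sequence of the cone. -/
noncomputable def coneSC (α : F ⟶ K) : ShortComplex (Cx R) :=
  ShortComplex.mk (coneInl α) (coneSnd α) (by
    ext i x
    rfl)

lemma coneSC_shortExact (α : F ⟶ K) : (coneSC α).ShortExact := by
  apply HomologicalComplex.shortExact_of_degreewise_shortExact
  intro i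
  have : Mono (((coneSC α).map (HomologicalComplex.eval _ _ i)).f) := by
    rw [ModuleCat.mono_iff_injective]
    exact LinearMap.inl_injective (R := R) (M := K.X i) (M₂ := F.X (i + 1))
  have : Epi (((coneSC α).map (HomologicalComplex.eval _ _ i)).g) := by
    rw [ModuleCat.epi_iff_surjective]
    exact LinearMap.snd_surjective (R := R) (M := K.X i) (M₂ := F.X (i + 1))
  refine ShortComplex.ShortExact.mk ?_
  rw [ShortComplex.moduleCat_exact_iff]
  rintro ⟨x, y⟩ hxy
  change y = 0 at hxy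
  subst hxy
  exact ⟨x, rfl⟩

lemma FP.cone {α : F ⟶ K} (hF : FP F) (hK : FP K) : FP (cone α) := by
  intro i
  have h1 := hF (i + 1)
  have h2 := hK i
  obtain ⟨h1a, h1b⟩ := h1
  obtain ⟨h2a, h2b⟩ := h2
  constructor
  · change Module.Finite R (K.X i × F.X (i + 1))
    infer_instance
  · change Module.Projective R (K.X i × F.X (i + 1))
    infer_instance

lemma BddAb.cone {α : F ⟶ K} (hF : BddAb F) (hK : BddAb K) : BddAb (cone α) := by
  obtain ⟨c, hc⟩ := hF
  obtain ⟨c', hc'⟩ := hK
  refine ⟨max c c', fun i hi => ?_⟩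
  have := hc (i + 1) (by have := le_max_left c c'; omega)
  have := hc' i (by have := le_max_right c c'; omega)
  change Subsingleton (K.X i × F.X (i + 1))
  infer_instance

/-- If the cone is acyclic then `α` is a quasi-isomorphism. -/
theorem quasiIso_of_ex_cone (α : F ⟶ K) (h : ∀ i, Ex (cone α) i) : QuasiIso α := by
  rw [quasiIso_iff_elem]
  intro i
  constructor
  · intro z hz w hw
    -- `(w, -z) ∈ cone α` in degree `i` is a cocycle
    obtain ⟨i', rfl⟩ : ∃ i', i = i' + 1 := ⟨i - 1, by omega⟩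
    have hc : dl (cone α) (i' + 1) ((w, -z) : K.X (i' + 1) × F.X (i' + 1 + 1)) = 0 := by
      rw [dl_cone, coneD_apply, map_neg, map_neg, hz, hw, add_neg_cancel, neg_zero, neg_zero]
      rfl
    obtain ⟨⟨a, b⟩, hab⟩ := h i' _ hc
    rw [dl_cone, coneD_apply] at hab
    have h2 := congrArg Prod.snd hab
    change -dl F (i' + 1) b = -z at h2
    exact ⟨b, by rw [neg_inj] at h2; exact h2.symm⟩
  · intro y hy
    have hc : dl (cone α) (i + 1) ((y, 0) : K.X (i + 1) × F.X (i + 1 + 1)) = 0 := by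
      rw [dl_cone, coneD_apply, map_zero, map_zero, hy, add_zero, neg_zero]
      rfl
    obtain ⟨⟨a, b⟩, hab⟩ := h i _ hc
    rw [dl_cone, coneD_apply] at hab
    have h1 := congrArg Prod.fst hab
    have h2 := congrArg Prod.snd hab
    change dl K i a + (α.f (i + 1)).hom b = y at h1
    change -dl F (i + 1) b = 0 at h2
    exact ⟨b, neg_eq_zero.1 h2, a, h1.symm.trans (add_comm _ _)⟩

/-- If `α` is a quasi-isomorphism then the cone is acyclic. -/
theorem ex_cone_of_quasiIso (α : F ⟶ K) [hα : QuasiIso α] (i : ℤ) : Ex (cone α) i := by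
  rw [quasiIso_iff_elem] at hα
  rintro ⟨y, g⟩ hz
  rw [dl_cone, coneD_apply] at hz
  have h1 := congrArg Prod.fst hz
  have h2 := congrArg Prod.snd hz
  change dl K (i + 1) y + (α.f (i + 1 + 1)).hom g = 0 at h1
  change -dl F (i + 1 + 1) g = 0 at h2
  obtain ⟨v, hv⟩ := (hα (i + 1)).1 g (neg_eq_zero.1 h2) (-y)
    (by rw [map_neg, eq_neg_iff_add_eq_zero]; exact (add_comm _ _).trans h1)
  obtain ⟨z, hz, w, hw⟩ := (hα i).2 (y + (α.f (i + 1)).hom v) (by
    rw [map_add, ← hom_dl, ← hv, h1])
  refine ⟨((w, z - v) : K.X i × F.X (i + 1)), ?_⟩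
  rw [dl_cone, coneD_apply, map_sub, map_sub, hz, ← hv]
  refine Prod.ext ?_ ?_
  · change dl K i w + ((α.f (i + 1)).hom z - (α.f (i + 1)).hom v) = y
    rw [← sub_eq_zero]
    have : y = (α.f (i + 1)).hom z + dl K i w - (α.f (i + 1)).hom v := by
      rw [← hw]; abel
    rw [this]; abel
  · change -(0 - g) = g
    abel

end Cone

end Groth.Agent.Models2.RlimPC
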