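import Groth.Agent.Models2.RlimPCB

/-!
# Towers of complexes: limits, Milnor lemmas, cones, attaching cells
-/

set_option autoImplicit false

universe u

open CategoryTheory CategoryTheory.Limits

namespace Groth.Agent.Models2.RlimPC

section ConeMap

variable {R S : Type u} [CommRing R] [CommRing S] {φ : R →+* S}
  {F K : Cx R} {F' K' : Cx S}

/-- The semilinear map of cones. -/
noncomputable def coneSMap (α : F ⟶ K) (α' : F' ⟶ K') (t : SMap φ F F') (s : SMap φ K K')
    (h : ∀ i x, s.f i ((α.f i).hom x) = (α'.f i).hom (t.f i x)) :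
    SMap φ (cone α) (cone α') where
  f i :=
    { toFun := fun x : K.X i × F.X (i + 1) => ((s.f i x.1, t.f (i + 1) x.2) :
        K'.X i × F'.X (i + 1))
      map_add' := fun x y => by
        refine Prod.ext ?_ ?_
        · exact map_add (s.f i) x.1 y.1
        · exact map_add (t.f (i + 1)) x.2 y.2
      map_smul' := fun a x => by
        refine Prod.ext ?_ ?_
        · exact LinearMap.map_smulₛₗ (s.f i) a x.1
        · exact LinearMap.map_smulₛₗ (t.f (i + 1)) a x.2 }
  comm i x := by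
    rw [dl_cone, dl_cone, coneD_apply, coneD_apply]
    refine Prod.ext ?_ ?_
    · change s.f (i + 1) (dl K i x.1 + (α.f (i + 1)).hom x.2) =
        dl K' i (s.f i x.1) + (α'.f (i + 1)).hom (t.f (i + 1) x.2)
      rw [map_add, s.comm, h]
    · change t.f (i + 1 + 1) (-dl F (i + 1) x.2) = -dl F' (i + 1) (t.f (i + 1) x.2)
      rw [map_neg, t.comm]

lemma coneSMap_apply (α : F ⟶ K) (α' : F' ⟶ K') (t : SMap φ F F') (s : SMap φ K K')
    (h : ∀ i x, s.f i ((α.f i).hom x) = (α'.f i).hom (t.f i x)) (i : ℤ)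
    (x : K.X i × F.X (i + 1)) :
    (coneSMap α α' t s h).f i x = ((s.f i x.1, t.f (i + 1) x.2) : K'.X i × F'.X (i + 1)) := rfl

lemma SMap.Surj.cone {α : F ⟶ K} {α' : F' ⟶ K'} {t : SMap φ F F'} {s : SMap φ K K'}
    (h : ∀ i x, s.f i ((α.f i).hom x) = (α'.f i).hom (t.f i x)) (ht : t.Surj) (hs : s.Surj) :
    (coneSMap α α' t s h).Surj := by
  rintro i ⟨x, y⟩
  obtain ⟨a, rfl⟩ := hs i x
  obtain ⟨b, rfl⟩ := ht (i + 1) y
  exact ⟨(a, b), rfl⟩

lemma mem_smul_prod {M N : Type u} [AddCommGroup M] [Module R M] [AddCommGroup N] [Module R N]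
    (I : Ideal R) (x : M × N) : x ∈ I • (⊤ : Submodule R (M × N)) ↔
      x.1 ∈ I • (⊤ : Submodule R M) ∧ x.2 ∈ I • (⊤ : Submodule R N) := by
  constructor
  · intro h
    exact ⟨map_smul_top_le I (LinearMap.fst R M N) h, map_smul_top_le I (LinearMap.snd R M N) h⟩
  · rintro ⟨h1, h2⟩
    have : x = LinearMap.inl R M N x.1 + LinearMap.inr R M N x.2 := by
      ext <;> simp
    rw [this]
    exact Submodule.add_mem _ (map_smul_top_le I _ h1) (map_smul_top_le I _ h2)

lemma BC.cone {α : F ⟶ K} {α' : F' ⟶ K'} {t : SMap φ F F'} {s : SMap φ K K'}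
    (h : ∀ i x, s.f i ((α.f i).hom x) = (α'.f i).hom (t.f i x)) (ht : BC t) (hs : BC s) :
    BC (coneSMap α α' t s h) := by
  rintro i ⟨x, g⟩ hxg hd
  rw [coneSMap_apply] at hxg
  have hx : s.f (i + 1) x = 0 := congrArg Prod.fst hxg
  have hg : t.f (i + 1 + 1) g = 0 := congrArg Prod.snd hxg
  rw [dl_cone, coneD_apply] at hd
  obtain ⟨hd1, hd2⟩ := (mem_smul_prod (M := K.X (i + 1 + 1)) (N := F.X (i + 1 + 1 + 1)) _ _).1 hd
  change dl K (i + 1) x + (α.f (i + 1 + 1)).hom g ∈ _ at hd1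
  change -dl F (i + 1 + 1) g ∈ _ at hd2
  obtain ⟨b, hb, hb'⟩ := ht (i + 1) g hg (by rw [← neg_mem_iff]; exact hd2)
  obtain ⟨y, hy, hy'⟩ := hs i (x + (α.f (i + 1)).hom b) (by
      rw [map_add, hx, h, hb, map_zero, zero_add]) (by
    rw [map_add, ← hom_dl]
    have : dl K (i + 1) x + (α.f (i + 1 + 1)).hom (dl F (i + 1) b) =
        (dl K (i + 1) x + (α.f (i + 1 + 1)).hom g) - (α.f (i + 1 + 1)).hom (g - dl F (i + 1) b) := by
      rw [map_sub]; abel
    rw [this]
    exact Submodule.sub_mem _ hd1 (map_smul_top_le _ (α.f (i + 1 + 1)).hom hb'))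
  refine ⟨((y, -b) : K.X i × F.X (i + 1)), ?_, ?_⟩
  · rw [coneSMap_apply]
    refine Prod.ext hy ?_
    change t.f (i + 1) (-b) = 0
    rw [map_neg, hb, neg_zero]
  · rw [dl_cone, coneD_apply]
    refine (mem_smul_prod (M := K.X (i + 1)) (N := F.X (i + 1 + 1)) _ _).2 ⟨?_, ?_⟩
    · change x - (dl K i y + (α.f (i + 1)).hom (-b)) ∈ _
      rw [map_neg]
      have : x - (dl K i y + -(α.f (i + 1)).hom b) = x + (α.f (i + 1)).hom b - dl K i y := by abel
      rw [this]
      exact hy'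
    · change g - -dl F (i + 1) (-b) ∈ _
      rw [map_neg, neg_neg]
      exact hb'

end ConeMap

section Tower

variable {A : Type u} [CommRing A] {A' : ℕ → Type u} [∀ n, CommRing (A' n)]
  {φ : ∀ n, A' (n + 1) →+* A' n} {π : ∀ n, A →+* A' n}

/-- `L` is the (termwise) limit of the tower `P`. -/
structure IsLim {P : ∀ n, Cx (A' n)} (s : ∀ n, SMap (φ n) (P (n + 1)) (P n)) {L : Cx A}
    (p : ∀ n, SMap (π n) L (P n)) : Prop where
  compat : ∀ n i x, (s n).f i ((p (n + 1)).f i x) = (p n).f i x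
  inj : ∀ i x, (∀ n, (p n).f i x = 0) → x = 0
  surj : ∀ i (x : ∀ n, (P n).X i), (∀ n, (s n).f i (x (n + 1)) = x n) →
    ∃ y, ∀ n, (p n).f i y = x n

variable {P : ∀ n, Cx (A' n)} {s : ∀ n, SMap (φ n) (P (n + 1)) (P n)} {L : Cx A}
    {p : ∀ n, SMap (π n) L (P n)}

/-- compatible sequences through a prescribed element at level `0` -/
lemma exists_seq_zero {X : ℕ → Type u} (f : ∀ n, X (n + 1) → X n)
    (hf : ∀ n, Function.Surjective (f n)) (x : X 0) :
    ∃ y : ∀ n, X n, y 0 = x ∧ ∀ n, f n (y (n + 1)) = y n := by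
  choose g hg using hf
  exact ⟨fun n => Nat.rec x (fun n y => g n y) n, rfl, fun n => hg n _⟩

lemma IsLim.dl_eq_zero (hL : IsLim s p) (i : ℤ) (x : L.X i)
    (h : ∀ n, dl (P n) i ((p n).f i x) = 0) : dl L i x = 0 := by
  apply hL.inj
  intro n
  rw [(p n).comm, h]

theorem IsLim.exists_lift_zero (hL : IsLim s p) (i : ℤ)
    (h : ∀ n (y : (P n).X i), dl (P n) i y = 0 → ∃ x : (P (n + 1)).X i,
      dl (P (n + 1)) i x = 0 ∧ (s n).f i x = y) (y : (P 0).X i) (hy : dl (P 0) i y = 0) :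
    ∃ x : L.X i, dl L i x = 0 ∧ (p 0).f i x = y := by
  obtain ⟨x, hx0, hx⟩ := exists_seq_zero
    (X := fun n => {x : (P n).X i // dl (P n) i x = 0})
    (fun n x => ⟨(s n).f i x.1, by rw [← (s n).comm, x.2, map_zero]⟩)
    (fun n y => by
      obtain ⟨x, hx, hxy⟩ := h n y.1 y.2
      exact ⟨⟨x, hx⟩, Subtype.ext hxy⟩) ⟨y, hy⟩
  obtain ⟨l, hl⟩ := hL.surj i (fun n => (x n).1) (fun n => congrArg Subtype.val (hx n))
  refine ⟨l, hL.dl_eq_zero i l (fun n => ?_), ?_⟩
  · rw [hl, (x n).2]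
  · rw [hl, hx0]

theorem IsLim.ex (hL : IsLim s p) (i : ℤ)
    (h : ∀ n (y : (P n).X i), dl (P n) i y = 0 → ∃ x : (P (n + 1)).X i,
      dl (P (n + 1)) i x = 0 ∧ (s n).f i x = y) (hex : ∀ n, Ex (P n) i) : Ex L i := by
  intro z hz
  have h0 : ∀ n, ∃ y : (P n).X i, dl (P n) i y = (p n).f (i + 1) z := fun n =>
    hex n _ (by rw [← (p n).comm, hz, map_zero])
  obtain ⟨y0, hy0⟩ := h0 0
  obtain ⟨x, -, hx⟩ := exists_seq_zero
    (X := fun n => {y : (P n).X i // dl (P n) i y = (p n).f (i + 1) z})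
    (fun n x => ⟨(s n).f i x.1, by rw [← (s n).comm, x.2, hL.compat]⟩)
    (fun n y => by
      obtain ⟨y', hy'⟩ := h0 (n + 1)
      obtain ⟨u, hu, hu'⟩ := h n ((s n).f i y' - y.1) (by
        rw [map_sub, ← (s n).comm, hy', hL.compat, y.2, sub_self])
      refine ⟨⟨y' - u, by rw [map_sub, hu, hy', sub_zero]⟩, Subtype.ext ?_⟩
      change (s n).f i (y' - u) = y.1
      rw [map_sub, hu', sub_sub_cancel]) ⟨y0, hy0⟩
  obtain ⟨l, hl⟩ := hL.surj i (fun n => (x n).1) (fun n => congrArg Subtype.val (hx n))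
  refine ⟨l, ?_⟩
  rw [← sub_eq_zero]
  apply hL.inj
  intro n
  rw [map_sub, (p n).comm, hl, (x n).2, sub_self]

/-- The standing assumptions on a tower. -/
structure Good (s : ∀ n, SMap (φ n) (P (n + 1)) (P n)) : Prop where
  fp : ∀ n, FP (P n)
  bdd : ∀ n, BddAb (P n)
  surj : ∀ n, (s n).Surj
  bc : ∀ n, BC (s n)

/-- exactness above `i` at all levels implies exactness of the limit above `i`. -/
theorem ex_lim_above (hg : Good s) (hL : IsLim s p) (i : ℤ)
    (hex : ∀ n j, i < j → Ex (P n) j) (j : ℤ) (hj : i < j) : Ex L j := by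
  obtain ⟨j, rfl⟩ : ∃ j', j = j' + 1 := ⟨j - 1, by omega⟩
  refine hL.ex (j + 1) (fun n y hy => ?_) (fun n => hex n _ hj)
  exact exists_cocycle_lift (hg.fp _) (hg.bdd _) j (fun k hk => hex _ k (by omega)) (s n)
    (hg.surj n) (hg.bc n) y hy

/-- generators of the top cohomology at all levels, coming from the limit. -/
theorem exists_generators (hφ : ∀ n, Function.Surjective (φ n))
    (hnil : ∀ n, ∀ x ∈ RingHom.ker (φ n), IsNilpotent x) (hg : Good s) (hL : IsLim s p) (i : ℤ)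
    (hex : ∀ n j, i < j → Ex (P n) j) :
    ∃ (r : ℕ) (z : Fin r → L.X (i + 1)), (∀ j, dl L (i + 1) (z j) = 0) ∧
      ∀ n (y : (P n).X (i + 1)), dl (P n) (i + 1) y = 0 → ∃ (g : Fin r → A' n) (w : (P n).X i),
        y = ∑ j, g j • (p n).f (i + 1) (z j) + dl (P n) i w := by
  -- cocycles of `P 0` are finitely generated
  obtain ⟨σ, hσ⟩ := exists_split (hg.fp 0) (hg.bdd 0) i (hex 0)
  let ρ : (P 0).X (i + 1) →ₗ[A' 0] (P 0).X (i + 1) := LinearMap.id - σ ∘ₗ dl (P 0) (i + 1)
  have hρZ : ∀ x, dl (P 0) (i + 1) (ρ x) = 0 := by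
    intro x
    simp only [ρ, LinearMap.sub_apply, LinearMap.id_apply,
      LinearMap.comp_apply, map_sub]
    rw [hσ, sub_self]
  have hρ : ∀ x, dl (P 0) (i + 1) x = 0 → ρ x = x := by
    intro x hx
    simp only [ρ, LinearMap.sub_apply, LinearMap.id_apply, LinearMap.comp_apply]
    rw [hx, map_zero, sub_zero]
  have := (hg.fp 0 (i + 1)).1
  obtain ⟨r, e, he⟩ := (Module.Finite.exists_fin (R := A' 0) (M := (P 0).X (i + 1)))
  have hlift := fun y hy => hL.exists_lift_zero (i + 1) (fun n y hy =>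
    exists_cocycle_lift (hg.fp _) (hg.bdd _) i (fun k hk => hex _ k hk) (s n)
    (hg.surj n) (hg.bc n) y hy) y hy
  choose z hz hz' using fun j => hlift (ρ (e j)) (hρZ _)
  refine ⟨r, z, hz, fun n => ?_⟩
  induction n with
  | zero =>
    intro y hy
    have h1 : y ∈ Submodule.span (A' 0) (Set.range e) := by rw [he]; trivial
    obtain ⟨g, hgy⟩ := (Submodule.mem_span_range_iff_exists_fun _).1 h1
    refine ⟨g, 0, ?_⟩
    rw [map_zero, add_zero]
    calc y = ρ y := (hρ y hy).symm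
      _ = ρ (∑ j, g j • e j) := by rw [hgy]
      _ = _ := by
        rw [map_sum]
        refine Finset.sum_congr rfl fun j _ => ?_
        rw [map_smul, hz']
  | succ n ih =>
    intro y hy
    refine generates (hg.fp _) (hg.bdd _) i (hex _) (s n) (hφ n) (hg.surj n) (hg.bc n) (hnil n)
      (fun j => (p (n + 1)).f (i + 1) (z j)) (fun j => by rw [← (p (n + 1)).comm, hz, map_zero])
      (fun y hy => ?_) y hy
    obtain ⟨g, w, h⟩ := ih y hy
    refine ⟨g, w, ?_⟩
    simp only [hL.compat]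
    exact h

section

variable {F : ∀ n, Cx (A' n)} {t : ∀ n, SMap (φ n) (F (n + 1)) (F n)} {E : Cx A}
    {q : ∀ n, SMap (π n) E (F n)} (α : ∀ n, F n ⟶ P n) (α' : E ⟶ L)
    (h : ∀ n i x, (s n).f i (((α (n + 1)).f i).hom x) = ((α n).f i).hom ((t n).f i x))
    (h' : ∀ n i x, (p n).f i ((α'.f i).hom x) = ((α n).f i).hom ((q n).f i x))

lemma Good.cone (ht : Good t) (hs : Good s) :
    Good (P := fun n => cone (α n))
      (fun n => coneSMap (α (n + 1)) (α n) (t n) (s n) (h n)) where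
  fp n := FP.cone (ht.fp n) (hs.fp n)
  bdd n := BddAb.cone (ht.bdd n) (hs.bdd n)
  surj n := SMap.Surj.cone (h n) (ht.surj n) (hs.surj n)
  bc n := BC.cone (h n) (ht.bc n) (hs.bc n)

lemma IsLim.cone (hE : IsLim t q) (hL : IsLim s p) :
    IsLim (P := fun n => cone (α n)) (fun n => coneSMap (α (n + 1)) (α n) (t n) (s n) (h n))
      (L := cone α') (fun n => coneSMap α' (α n) (q n) (p n) (h' n)) where
  compat n i x := by
    rw [coneSMap_apply, coneSMap_apply, coneSMap_apply]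
    exact Prod.ext (hL.compat n i _) (hE.compat n (i + 1) _)
  inj i x hx := by
    refine Prod.ext (hL.inj i _ fun n => ?_) (hE.inj (i + 1) _ fun n => ?_)
    · have := hx n
      rw [coneSMap_apply] at this
      exact congrArg Prod.fst this
    · have := hx n
      rw [coneSMap_apply] at this
      exact congrArg Prod.snd this
  surj i x hx := by
    obtain ⟨a, ha⟩ := hL.surj i (fun n => (x n : (P n).X i × (F n).X (i + 1)).1) (fun n => by
      have := hx n
      rw [coneSMap_apply] at this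
      exact congrArg Prod.fst this)
    obtain ⟨b, hb⟩ := hE.surj (i + 1) (fun n => (x n : (P n).X i × (F n).X (i + 1)).2) (fun n => by
      have := hx n
      rw [coneSMap_apply] at this
      exact congrArg Prod.snd this)
    refine ⟨(a, b), fun n => ?_⟩
    rw [coneSMap_apply]
    exact Prod.ext (ha n) (hb n)

end

end Tower

end Groth.Agent.Models2.RlimPC
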