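import Groth.Agent.Models2.RlimPCC
import Mathlib.Data.Matrix.Mul
import Mathlib.LinearAlgebra.Matrix.ToLin

/-!
# Matrix complexes, their towers, and attaching cells
-/

set_option autoImplicit false

universe u

open CategoryTheory CategoryTheory.Limits

namespace Groth.Agent.Models2.RlimPC

/-- A complex of finite free modules given by matrices. -/
structure Mat (R : Type u) [CommRing R] (r : ℤ → ℕ) where
  /-- the differentials -/
  M : ∀ i, Matrix (Fin (r (i + 1))) (Fin (r i)) R
  hM : ∀ i, M (i + 1) * M i = 0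

namespace Mat

variable {R S : Type u} [CommRing R] [CommRing S] {r : ℤ → ℕ}

/-- Base change. -/
def map (φ : R →+* S) (E : Mat R r) : Mat S r where
  M i := (E.M i).map φ
  hM i := by
    rw [← Matrix.map_mul, E.hM]
    exact Matrix.map_zero _ (map_zero φ)

/-- The complex. -/
noncomputable def cx (E : Mat R r) : Cx R :=
  CochainComplex.of (fun i => ModuleCat.of R (Fin (r i) → R))
    (fun i => ModuleCat.ofHom (Matrix.mulVecLin (E.M i)))
    (fun i => ModuleCat.hom_ext (LinearMap.ext fun x => by
      change (E.M (i + 1)).mulVec ((E.M i).mulVec x) = 0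
      rw [Matrix.mulVec_mulVec, E.hM, Matrix.zero_mulVec]))

lemma dl_cx (E : Mat R r) (i : ℤ) (x : Fin (r i) → R) : dl E.cx i x = (E.M i).mulVec x :=
  congr(ModuleCat.Hom.hom $(CochainComplex.of_d (fun i => ModuleCat.of R (Fin (r i) → R))
    (fun i => ModuleCat.ofHom (Matrix.mulVecLin (E.M i))) i) x)

lemma fp_cx (E : Mat R r) : FP E.cx := by
  intro i
  constructor
  · change Module.Finite R (Fin (r i) → R)
    infer_instance
  · change Module.Projective R (Fin (r i) → R)
    infer_instance

lemma bddAb_cx (E : Mat R r) (c : ℤ) (hc : ∀ i, c < i → r i = 0) : BddAb E.cx := by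
  refine ⟨c, fun i hi => ?_⟩
  change Subsingleton (Fin (r i) → R)
  rw [hc i hi]
  infer_instance

/-- The base change map. -/
noncomputable def smap (φ : R →+* S) (E : Mat R r) (E' : Mat S r) (h : ∀ i, (E.M i).map φ = E'.M i) :
    SMap φ E.cx E'.cx where
  f i :=
    { toFun := fun x : Fin (r i) → R => (fun j => φ (x j) : Fin (r i) → S)
      map_add' := fun x y => by
        funext j
        exact map_add φ (x j) (y j)
      map_smul' := fun a x => by
        funext j
        exact map_mul φ a (x j) }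
  comm i x := by
    rw [dl_cx, dl_cx]
    change (fun j => φ ((E.M i).mulVec x j)) = (E'.M i).mulVec (φ ∘ x)
    rw [← h]
    funext j
    rw [← RingHom.map_mulVec]

lemma smap_apply (φ : R →+* S) (E : Mat R r) (E' : Mat S r) (h : ∀ i, (E.M i).map φ = E'.M i) (i : ℤ)
    (x : Fin (r i) → R) : (smap φ E E' h).f i x = (fun j => φ (x j) : Fin (r i) → S) := rfl

lemma smap_surj {φ : R →+* S} (hφ : Function.Surjective φ) (E : Mat R r) (E' : Mat S r)
    (h : ∀ i, (E.M i).map φ = E'.M i) : (smap φ E E' h).Surj := by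
  intro i y
  choose g hg using hφ
  exact ⟨(fun j => g ((y : Fin (r i) → S) j) : Fin (r i) → R), funext fun j => hg _⟩

lemma smap_bc (φ : R →+* S) (E : Mat R r) (E' : Mat S r) (h : ∀ i, (E.M i).map φ = E'.M i) :
    BC (smap φ E E' h) := by
  intro i x hx _
  refine ⟨0, map_zero _, ?_⟩
  rw [map_zero, sub_zero]
  change Fin (r (i + 1)) → R at x
  have hx' : ∀ j, x j ∈ RingHom.ker φ := fun j => congrFun hx j
  have h1 : x = ∑ j, x j • (Pi.single j (1 : R) : Fin (r (i + 1)) → R) := by
    funext k
    simp [Finset.sum_apply, Pi.single_apply]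
  have h2 : ∑ j, x j • (Pi.single j (1 : R) : Fin (r (i + 1)) → R) ∈
      RingHom.ker φ • (⊤ : Submodule R (Fin (r (i + 1)) → R)) :=
    Submodule.sum_mem _ fun j _ => Submodule.smul_mem_smul (hx' j) Submodule.mem_top
  rw [← h1] at h2
  exact h2

section Tower

variable {A : Type u} [CommRing A] {A' : ℕ → Type u} [∀ n, CommRing (A' n)]
  {φ : ∀ n, A' (n + 1) →+* A' n} {π : ∀ n, A →+* A' n} (E : Mat A r)

/-- The transition maps of the tower of base changes. -/
noncomputable def tr (hlim : FlatCA.IsRingLimit A A' φ π) (n : ℕ) :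
    SMap (φ n) (E.map (π (n + 1))).cx (E.map (π n)).cx :=
  smap (φ n) _ _ (fun i => by
    change ((E.M i).map (π (n + 1))).map (φ n) = (E.M i).map (π n)
    rw [Matrix.map_map]
    congr 1
    rw [← hlim.1 n]
    rfl)

/-- The projections of the tower of base changes. -/
noncomputable def pr (n : ℕ) : SMap (π n) E.cx (E.map (π n)).cx := smap (π n) _ _ (fun _ => rfl)

lemma isLim (hlim : FlatCA.IsRingLimit A A' φ π) :
    IsLim (P := fun n => (E.map (π n)).cx) (tr E hlim) (L := E.cx) (pr E) where
  compat n i x := by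
    funext j
    change φ n (π (n + 1) ((x : Fin (r i) → A) j)) = π n ((x : Fin (r i) → A) j)
    rw [← hlim.1 n]
    rfl
  inj i x hx := by
    funext j
    apply hlim.2.1
    intro n
    rw [show (0 : (E.cx).X i) = (0 : Fin (r i) → A) from rfl, Pi.zero_apply, map_zero]
    exact congrFun (hx n) j
  surj i x hx := by
    have h : ∀ j : Fin (r i), ∃ a : A, ∀ n, π n a = (x n : Fin (r i) → A' n) j := fun j =>
      hlim.2.2 (fun n => (x n : Fin (r i) → A' n) j) (fun n => congrFun (hx n) j)
    choose a ha using h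
    exact ⟨(a : Fin (r i) → A), fun n => funext fun j => ha j n⟩

lemma good (hlim : FlatCA.IsRingLimit A A' φ π) (hsurj : ∀ n, Function.Surjective (φ n)) (c : ℤ)
    (hc : ∀ i, c < i → r i = 0) : Good (P := fun n => (E.map (π n)).cx) (tr E hlim) where
  fp _ := fp_cx _
  bdd _ := bddAb_cx _ c hc
  surj n := smap_surj (hsurj n) _ _ _
  bc _ := smap_bc _ _ _ _

end Tower

section Lift

variable (φ : R →+* S) (E : Mat R r) {L : Cx R} {P : Cx S} (p : SMap φ L P) (α : E.cx ⟶ L)

/-- The composite `E ⟶ L ⟶ P`. -/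
noncomputable def compLin (i : ℤ) : (Fin (r i) → R) →ₛₗ[φ] P.X i :=
  (p.f i).comp (show (Fin (r i) → R) →ₗ[R] L.X i from (α.f i).hom)

lemma compLin_apply (i : ℤ) (x : Fin (r i) → R) : compLin φ E p α i x = p.f i ((α.f i).hom x) := rfl

/-- The induced linear maps on base changes. -/
noncomputable def liftLin (i : ℤ) : (Fin (r i) → S) →ₗ[S] P.X i :=
  (Pi.basisFun S (Fin (r i))).constr S (fun j => compLin φ E p α i (Pi.single j 1))

lemma liftLin_single (i : ℤ) (j : Fin (r i)) : liftLin φ E p α i (Pi.single j 1) =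
    compLin φ E p α i (Pi.single j 1) := by
  rw [← Pi.basisFun_apply, liftLin, Module.Basis.constr_basis]

lemma liftLin_map (i : ℤ) (x : Fin (r i) → R) :
    liftLin φ E p α i (fun j => φ (x j)) = compLin φ E p α i x := by
  have h1 : x = ∑ j, x j • (Pi.single j (1 : R) : Fin (r i) → R) := by
    funext k
    simp [Finset.sum_apply, Pi.single_apply]
  have h2 : (fun j => φ (x j) : Fin (r i) → S) =
      ∑ j, φ (x j) • (Pi.single j (1 : S) : Fin (r i) → S) := by
    funext k
    simp [Finset.sum_apply, Pi.single_apply]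
  rw [h2, map_sum]
  conv_rhs => rw [h1]
  rw [map_sum]
  refine Finset.sum_congr rfl fun j _ => ?_
  rw [map_smul, liftLin_single, LinearMap.map_smulₛₗ]

lemma single_eq (i : ℤ) (j : Fin (r i)) : (Pi.single j (1 : S) : Fin (r i) → S) =
    fun k => φ ((Pi.single j (1 : R) : Fin (r i) → R) k) := by
  funext k
  by_cases h : k = j
  · subst h; simp
  · simp [Pi.single_apply, h]

/-- The induced chain map on base changes. -/
noncomputable def lift : (E.map φ).cx ⟶ P :=
  mkMap (K := (E.map φ).cx) (liftLin φ E p α) (fun i x => by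
    have h : (liftLin φ E p α (i + 1) ∘ₗ Matrix.mulVecLin ((E.map φ).M i) :
        (Fin (r i) → S) →ₗ[S] P.X (i + 1)) = dl P i ∘ₗ liftLin φ E p α i := by
      apply (Pi.basisFun S (Fin (r i))).ext
      intro j
      rw [LinearMap.comp_apply, LinearMap.comp_apply, Pi.basisFun_apply, single_eq φ, liftLin_map,
        compLin_apply, ← p.comm, ← hom_dl, dl_cx, ← compLin_apply, ← liftLin_map]
      congr 1
      funext k
      rw [RingHom.map_mulVec]
      rfl
    rw [dl_cx]
    exact LinearMap.congr_fun h x)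

lemma lift_pr (i : ℤ) (x : E.cx.X i) :
    ((lift φ E p α).f i).hom ((smap φ E (E.map φ) (fun _ => rfl)).f i x) =
      p.f i ((α.f i).hom x) :=
  liftLin_map φ E p α i x

lemma lift_ext {f g : (E.map φ).cx ⟶ P} (h : ∀ i (x : E.cx.X i),
    (f.f i).hom ((smap φ E (E.map φ) (fun _ => rfl)).f i x) =
      (g.f i).hom ((smap φ E (E.map φ) (fun _ => rfl)).f i x)) : f = g := by
  ext i : 1
  apply ModuleCat.hom_ext
  refine (Pi.basisFun S (Fin (r i))).ext (M₁ := P.X i) (f₁ := (f.f i).hom) (f₂ := (g.f i).hom) ?_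
  intro j
  rw [Pi.basisFun_apply, single_eq φ]
  exact h i (Pi.single j (1 : R) : Fin (r i) → R)

end Lift

end Mat

end Groth.Agent.Models2.RlimPC
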