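import Groth.Agent.Models2.RlimPCD
import Groth.Agent.CalgB.PsCoh

/-!
# Pseudo-coherence of the limit of a tower
-/

set_option autoImplicit false

universe u

open CategoryTheory CategoryTheory.Limits

attribute [local instance] HasDerivedCategory.standard

namespace Groth.Agent.Models2.RlimPC

open CalgB.PsCohGen CalgB.PsCoh

section

variable {A : Type u} [CommRing A] {A' : ℕ → Type u} [∀ n, CommRing (A' n)]
  {φ : ∀ n, A' (n + 1) →+* A' n} {π : ∀ n, A →+* A' n}
  {P : ∀ n, Cx (A' n)} {s : ∀ n, SMap (φ n) (P (n + 1)) (P n)} {L : Cx A}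
    {p : ∀ n, SMap (π n) L (P n)}

lemma Mat.lift_tr (hlim : FlatCA.IsRingLimit A A' φ π) (hL : IsLim s p) {r : ℤ → ℕ} (E : Mat A r)
    (α : E.cx ⟶ L) (n : ℕ) (i : ℤ) (x : ((E.map (π (n + 1))).cx).X i) :
    (s n).f i (((Mat.lift (π (n + 1)) E (p (n + 1)) α).f i).hom x) =
      ((Mat.lift (π n) E (p n) α).f i).hom ((E.tr hlim n).f i x) := by
  have h1 : ∀ y : Fin (r i) → A' (n + 1), ((s n).f i) (Mat.liftLin (π (n + 1)) E (p (n + 1)) α i y) =
      Mat.liftLin (π n) E (p n) α i (fun j => φ n (y j)) := by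
    intro y
    let f₁ : (Fin (r i) → A' (n + 1)) →ₛₗ[φ n] (P n).X i :=
      ((s n).f i).comp (Mat.liftLin (π (n + 1)) E (p (n + 1)) α i)
    let g : (Fin (r i) → A' (n + 1)) →ₛₗ[φ n] (Fin (r i) → A' n) :=
      { toFun := fun x j => φ n (x j)
        map_add' := fun x y => funext fun j => map_add (φ n) (x j) (y j)
        map_smul' := fun a x => funext fun j => map_mul (φ n) a (x j) }
    let f₂ : (Fin (r i) → A' (n + 1)) →ₛₗ[φ n] (P n).X i :=
      (Mat.liftLin (π n) E (p n) α i).comp g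
    have h : f₁ = f₂ := by
      apply (Pi.basisFun (A' (n + 1)) (Fin (r i))).ext
      intro j
      rw [Pi.basisFun_apply]
      change (s n).f i (Mat.liftLin (π (n + 1)) E (p (n + 1)) α i (Pi.single j 1)) =
        Mat.liftLin (π n) E (p n) α i (fun k => φ n ((Pi.single j (1 : A' (n + 1)) :
          Fin (r i) → A' (n + 1)) k))
      rw [← Mat.single_eq (φ n), Mat.liftLin_single, Mat.liftLin_single, Mat.compLin_apply,
        Mat.compLin_apply, hL.compat]
    exact LinearMap.congr_fun h y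
  exact h1 x

end

/-- A complex with one nonzero term, of rank `r (i + 1)`. -/
def Mat.one (R : Type u) [CommRing R] (r : ℤ → ℕ) : Mat R r where
  M _ := 0
  hM _ := Matrix.zero_mul _

section

variable {A : Type u} [CommRing A] {r : ℤ → ℕ} {L : Cx A}

/-- A chain map from a complex with zero differentials. -/
noncomputable def Mat.oneMap (z : ∀ k, Fin (r k) → L.X k) (hz : ∀ k j, dl L k (z k j) = 0) :
    (Mat.one A r).cx ⟶ L :=
  mkMap (K := (Mat.one A r).cx) (fun k => (Pi.basisFun A (Fin (r k))).constr A (z k)) (fun k x => by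
    have h1 : (dl L k ∘ₗ (Pi.basisFun A (Fin (r k))).constr A (z k) :
        (Fin (r k) → A) →ₗ[A] L.X (k + 1)) = 0 := by
      apply (Pi.basisFun A (Fin (r k))).ext
      intro j
      rw [LinearMap.comp_apply, Module.Basis.constr_basis, hz]
      rfl
    have h2 := LinearMap.congr_fun h1 x
    refine Eq.trans ?_ h2.symm
    rw [Mat.dl_cx]
    change (Pi.basisFun A (Fin (r (k + 1)))).constr A (z (k + 1))
      ((0 : Matrix (Fin (r (k + 1))) (Fin (r k)) A).mulVec x) = 0
    rw [Matrix.zero_mulVec, map_zero])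

lemma Mat.oneMap_single (z : ∀ k, Fin (r k) → L.X k) (hz : ∀ k j, dl L k (z k j) = 0) (k : ℤ)
    (j : Fin (r k)) : ((Mat.oneMap z hz).f k).hom (Pi.single j (1 : A) : Fin (r k) → A) = z k j := by
  change (Pi.basisFun A (Fin (r k))).constr A (z k) (Pi.single j 1) = _
  rw [← Pi.basisFun_apply, Module.Basis.constr_basis]

end

variable {A : Type u} [CommRing A] {A' : ℕ → Type u} [∀ n, CommRing (A' n)]
  {φ : ∀ n, A' (n + 1) →+* A' n} {π : ∀ n, A →+* A' n}

/-- Attaching cells. -/
theorem exists_attach (hφ : ∀ n, Function.Surjective (φ n))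
    (hnil : ∀ n, ∀ x ∈ RingHom.ker (φ n), IsNilpotent x)
    {P : ∀ n, Cx (A' n)} {s : ∀ n, SMap (φ n) (P (n + 1)) (P n)} {L : Cx A}
    {p : ∀ n, SMap (π n) L (P n)} (hg : Good s) (hL : IsLim s p) (i : ℤ)
    (hex : ∀ n j, i < j → Ex (P n) j) :
    ∃ (r : ℤ → ℕ) (E : Mat A r) (α : E.cx ⟶ L), (∀ k, k ≠ i + 1 → r k = 0) ∧
      ∀ n j, i ≤ j → Ex (cone (Mat.lift (π n) E (p n) α)) j := by
  obtain ⟨m, z, hz, hgen⟩ := exists_generators hφ hnil hg hL i hex
  obtain ⟨r, hr, hr'⟩ : ∃ r : ℤ → ℕ, r (i + 1) = m ∧ ∀ k, k ≠ i + 1 → r k = 0 :=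
    ⟨fun k => if k = i + 1 then m else 0, if_pos rfl, fun k hk => if_neg hk⟩
  subst hr
  let z' : ∀ k, Fin (r k) → L.X k := fun k j => if h : k = i + 1 then by subst h; exact z j else 0
  have hz' : ∀ j, z' (i + 1) j = z j := fun j => dif_pos rfl
  have hdz : ∀ k j, dl L k (z' k j) = 0 := by
    intro k j
    by_cases h : k = i + 1
    · subst h
      rw [hz', hz]
    · have : z' k j = 0 := dif_neg h
      rw [this, map_zero]
  refine ⟨r, Mat.one A r, Mat.oneMap z' hdz, hr', fun n j hj => ?_⟩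
  rintro ⟨y, g⟩ hyg
  rw [dl_cone, coneD_apply] at hyg
  have hsub : ∀ k, k ≠ i + 1 → Subsingleton ((((Mat.one A r).map (π n)).cx).X k) := by
    intro k hk
    change Subsingleton (Fin (r k) → A' n)
    rw [hr' k hk]
    infer_instance
  have := hsub (j + 1 + 1) (by omega)
  obtain rfl : g = 0 := Subsingleton.elim _ _
  have hy : dl (P n) (j + 1) y = 0 := by
    have := congrArg Prod.fst hyg
    rw [map_zero, add_zero] at this
    exact this
  rcases hj.lt_or_eq with hj | rfl
  · obtain ⟨x, rfl⟩ := hex n j hj y hy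
    refine ⟨((x, 0) : (P n).X j × _), ?_⟩
    rw [dl_cone, coneD_apply, map_zero, map_zero, add_zero, neg_zero]
  · obtain ⟨c, w, h⟩ := hgen n y hy
    refine ⟨((w, (c : Fin (r (i + 1)) → A' n)) : (P n).X i × (Fin (r (i + 1)) → A' n)), ?_⟩
    rw [dl_cone, coneD_apply]
    refine Prod.ext ?_ (Subsingleton.elim _ _)
    change dl (P n) i w + Mat.liftLin (π n) (Mat.one A r) (p n) (Mat.oneMap z' hdz) (i + 1) c = y
    have h2 : (c : Fin (r (i + 1)) → A' n) =
        ∑ j, c j • (Pi.single j (1 : A' n) : Fin (r (i + 1)) → A' n) := by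
      funext k
      simp [Finset.sum_apply, Pi.single_apply]
    have h3 : Mat.liftLin (π n) (Mat.one A r) (p n) (Mat.oneMap z' hdz) (i + 1) c =
        ∑ j, c j • ((p n).f (i + 1)) (z j) := by
      rw [h2, map_sum]
      refine Finset.sum_congr rfl fun j _ => ?_
      rw [map_smul, Mat.liftLin_single, Mat.compLin_apply, ← h2]
      exact congrArg (fun t => c j • (p n).f (i + 1) t)
        ((Mat.oneMap_single z' hdz (i + 1) j).trans (hz' j))
    rw [h3, h]
    exact add_comm _ _

lemma isZero_of_eq_zero (R : Type u) [CommRing R] {r : ℤ → ℕ} (E : Mat R r) (k : ℤ) (h : r k = 0) :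
    IsZero (E.cx.X k) := by
  have : Subsingleton (Fin (r k) → R) := by rw [h]; infer_instance
  exact ModuleCat.isZero_of_subsingleton (ModuleCat.of R (Fin (r k) → R))

/-- The limit is pseudo-coherent. -/
theorem isPseudoCoherent_aux (hlim : FlatCA.IsRingLimit A A' φ π)
    (hφ : ∀ n, Function.Surjective (φ n))
    (hnil : ∀ n, ∀ x ∈ RingHom.ker (φ n), IsNilpotent x) (k : ℕ) : ∀ (m i : ℤ), i + 2 ≤ m + k →
    ∀ {P : ∀ n, Cx (A' n)} {s : ∀ n, SMap (φ n) (P (n + 1)) (P n)} {L : Cx A}
    {p : ∀ n, SMap (π n) L (P n)}, Good s → IsLim s p →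
    (∀ n j, i < j → Ex (P n) j) → DRing.IsPseudoCoherent A m (DerivedCategory.Q.obj L) := by
  induction k with
  | zero =>
    intro m i hmi P s L p hg hL hex
    have h1 := ex_lim_above hg hL i hex
    rw [isPseudoCoherent_iff]
    apply PC.of_isLE (isProjClass_ffree A)
    rw [DerivedCategory.isLE_Q_obj_iff, CochainComplex.isLE_iff]
    intro a ha
    obtain ⟨j, rfl⟩ : ∃ j, a = j + 1 := ⟨a - 1, by omega⟩
    rw [exactAt_iff]
    exact h1 j (by simp only [Nat.cast_zero] at hmi; omega)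
  | succ k ih =>
    intro m i hmi P s L p hg hL hex
    obtain ⟨r, E, α, hr, hE⟩ := exists_attach hφ hnil hg hL i hex
    have h1 := ih m (i - 1) (by push_cast at hmi; omega)
      (Good.cone (fun n => Mat.lift (π n) E (p n) α) (fun n i x => Mat.lift_tr hlim hL E α n i x)
        (E.good hlim hφ (i + 1) (fun k hk => hr k (by omega))) hg)
      (IsLim.cone (fun n => Mat.lift (π n) E (p n) α) α
        (fun n i x => Mat.lift_tr hlim hL E α n i x)
        (fun n i x => (Mat.lift_pr (π n) E (p n) α i x).symm) (E.isLim hlim) hL)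
      (fun n j hj => hE n j (by omega))
    rw [isPseudoCoherent_iff] at h1 ⊢
    refine PC.obj₁ (T := DerivedCategory.triangleOfSES (coneSC_shortExact α))
      (isProjClass_ffree A) (DerivedCategory.triangleOfSES_distinguished _)
      (m := m - 1) (m' := m) (by omega) h1 ?_
    refine PC.of_bounded (sh E.cx) i i (fun k hk => ?_) (fun k => ?_) (m - 1)
    · exact isZero_of_eq_zero A E (k + 1) (hr _ (by omega))
    · exact ⟨inferInstanceAs (Module.Finite A (Fin (r (k + 1)) → A)),
        inferInstanceAs (Module.Free A (Fin (r (k + 1)) → A))⟩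

/-- The limit is pseudo-coherent. -/
theorem isPseudoCoherent_lim (hlim : FlatCA.IsRingLimit A A' φ π)
    (hφ : ∀ n, Function.Surjective (φ n))
    (hnil : ∀ n, ∀ x ∈ RingHom.ker (φ n), IsNilpotent x)
    {P : ∀ n, Cx (A' n)} {s : ∀ n, SMap (φ n) (P (n + 1)) (P n)} {L : Cx A}
    {p : ∀ n, SMap (π n) L (P n)} (hg : Good s) (hL : IsLim s p) (m : ℤ) :
    DRing.IsPseudoCoherent A m (DerivedCategory.Q.obj L) := by
  obtain ⟨c, hc⟩ := hg.bdd 0
  have hex : ∀ n j, c < j → Ex (P n) j := by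
    intro n
    induction n with
    | zero =>
      intro j hj z _
      have := hc (j + 1) (by omega)
      exact ⟨0, Subsingleton.elim _ _⟩
    | succ n ih =>
      exact ex_above_of_ex_above (hg.fp _) (hg.bdd _) c (s n) (hφ n) (hg.surj n) (hg.bc n) (hnil n)
        ih
  exact isPseudoCoherent_aux hlim hφ hnil (c + 2 - m).toNat m c
    (by have := Int.self_le_toNat (c + 2 - m); omega) hg hL hex

end Groth.Agent.Models2.RlimPC
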