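import Groth.Agent.LoccohB.LBC2

/-!
# The adjoint of a chain map under `lbcAdj`
-/

set_option autoImplicit false

universe u

open CategoryTheory CategoryTheory.Limits CategoryTheory.Functor

attribute [local instance] HasDerivedCategory.standard

namespace Groth.Agent.Models2.RlimPC

open DerivedCategory LoccohB.LBC LoccohB.MapAdj

lemma abs_cancel {C : Type*} [Category C] {X₀ X₁ X₂ X₃ : C} (a : X₀ ⟶ X₁) (f : X₁ ⟶ X₂)
    (j : X₂ ⟶ X₃) (j' : X₃ ⟶ X₂) (f' : X₂ ⟶ X₁) (a' : X₁ ⟶ X₀) (hj : j ≫ j' = 𝟙 _)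
    (hf : f ≫ f' = 𝟙 _) (ha : a ≫ a' = 𝟙 _) : 𝟙 _ = (a ≫ f ≫ j ≫ 𝟙 X₃) ≫ j' ≫ f' ≫ a' := by
  simp only [Category.assoc, Category.id_comp, reassoc_of% hj, reassoc_of% hf, ha]

variable {A B : Type u} [CommRing A] [CommRing B] (φ : A →+* B)

/-- The comparison `Q (res K) ⟶ res (Q K)`. -/
noncomputable def resQ (K : CochainComplex (ModuleCat.{u} B) ℤ) :
    Q.obj (((ModuleCat.restrictScalars.{u} φ).mapHomologicalComplex (ComplexShape.up ℤ)).obj K) ≅
      (DRing.restrictD φ).obj (Q.obj K) :=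
  ((ModuleCat.restrictScalars.{u} φ).mapDerivedCategoryFactors.app K).symm

lemma resQ_naturality {K L : CochainComplex (ModuleCat.{u} B) ℤ} (f : K ⟶ L) :
    Q.map (((ModuleCat.restrictScalars.{u} φ).mapHomologicalComplex (ComplexShape.up ℤ)).map f) ≫
      (resQ φ L).hom = (resQ φ K).hom ≫ (DRing.restrictD φ).map (Q.map f) :=
  (ModuleCat.restrictScalars.{u} φ).mapDerivedCategoryFactors.inv.naturality f

/-- The adjunction on complexes. -/
noncomputable abbrev cxAdj :
    (ModuleCat.extendScalars.{u, u, u} φ).mapHomologicalComplex (ComplexShape.up ℤ) ⊣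
      (ModuleCat.restrictScalars.{u} φ).mapHomologicalComplex (ComplexShape.up ℤ) :=
  mapComplexAdj (ModuleCat.extendRestrictScalarsAdj.{u, u, u} φ) (ComplexShape.up ℤ)

variable [DRing.HasLBaseChange φ]

lemma lbcAdj_counit_fac (K : HomotopyCategory (ModuleCat.{u} B) (ComplexShape.up ℤ)) :
    (DRing.LBaseChange φ).map ((restrictFac φ).hom.app K) ≫ (lbcAdj φ).counit.app (Qh.obj K) =
      (lbcCounit φ).app (((ModuleCat.restrictScalars.{u} φ).mapHomotopyCategory
        (ComplexShape.up ℤ)).obj K) ≫ Qh.map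
          ((mapHomotopyAdj (ModuleCat.extendRestrictScalarsAdj.{u, u, u} φ)
            (ComplexShape.up ℤ)).counit.app K) := by
  let _ : (DRing.restrictD φ).IsRightDerivedFunctor (restrictFac φ).hom
      (HomotopyCategory.quasiIso (ModuleCat.{u} B) (ComplexShape.up ℤ)) :=
    isRightDerivedFunctor_of_inverts _ _ (restrictFac φ).symm
  let _ := isLeftDerivedFunctor_comp A (DRing.LBaseChange φ) (lbcCounit φ) (DRing.restrictD φ)
  let _ : (DRing.restrictD φ ⋙ DRing.LBaseChange φ).IsRightDerivedFunctor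
      (whiskerRight (restrictFac φ).hom (DRing.LBaseChange φ) ≫ (Functor.associator _ _ _).hom)
      (HomotopyCategory.quasiIso (ModuleCat.{u} B) (ComplexShape.up ℤ)) :=
    isRightDerivedFunctor_of_inverts _ _
      (isoWhiskerRight (restrictFac φ) (DRing.LBaseChange φ) ≪≫ Functor.associator _ _ _).symm
  exact Adjunction.derivedε_fac_app (mapHomotopyAdj
    (ModuleCat.extendRestrictScalarsAdj.{u, u, u} φ) (ComplexShape.up ℤ))
    (HomotopyCategory.quasiIso (ModuleCat.{u} B) (ComplexShape.up ℤ))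
    (lbcCounit φ) (restrictFac φ).hom K

omit [DRing.HasLBaseChange φ] in
lemma restrictFac_hom_app (K : CochainComplex (ModuleCat.{u} B) ℤ) :
    (restrictFac φ).hom.app ((HomotopyCategory.quotient _ _).obj K) =
      (quotientCompQhIso (ModuleCat.{u} A)).hom.app
        (((ModuleCat.restrictScalars.{u} φ).mapHomologicalComplex (ComplexShape.up ℤ)).obj K) ≫
        (resQ φ K).hom ≫ (DRing.restrictD φ).map ((quotientCompQhIso (ModuleCat.{u} B)).inv.app K) := by
  have h : (ModuleCat.restrictScalars.{u} φ).mapDerivedCategoryFactorsh.hom.app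
      ((HomotopyCategory.quotient _ _).obj K) = _ :=
    (ModuleCat.restrictScalars.{u} φ).mapDerivedCategoryFactorsh_hom_app K
  change (ModuleCat.restrictScalars.{u} φ).mapDerivedCategoryFactorsh.inv.app
    ((HomotopyCategory.quotient _ _).obj K) = _
  rw [← cancel_epi ((ModuleCat.restrictScalars.{u} φ).mapDerivedCategoryFactorsh.hom.app
      ((HomotopyCategory.quotient _ _).obj K)), Iso.hom_inv_id_app, h]
  have h1 : Qh.map (((ModuleCat.restrictScalars.{u} φ).mapHomotopyCategoryFactors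
      (ComplexShape.up ℤ)).inv.app K) = 𝟙 _ := by
    have : ((ModuleCat.restrictScalars.{u} φ).mapHomotopyCategoryFactors
      (ComplexShape.up ℤ)).inv.app K = 𝟙 _ := rfl
    rw [this]
    exact Qh.map_id _
  have h2 : (ModuleCat.restrictScalars.{u} φ).mapDerivedCategoryFactors.hom.app K ≫
      (resQ φ K).hom = 𝟙 _ :=
    (ModuleCat.restrictScalars.{u} φ).mapDerivedCategoryFactors.hom_inv_id_app K
  have h3 : (quotientCompQhIso (ModuleCat.{u} A)).inv.app
      (((ModuleCat.restrictScalars.{u} φ).mapHomologicalComplex (ComplexShape.up ℤ)).obj K) ≫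
      (quotientCompQhIso (ModuleCat.{u} A)).hom.app
        (((ModuleCat.restrictScalars.{u} φ).mapHomologicalComplex (ComplexShape.up ℤ)).obj K) = 𝟙 _ :=
    Iso.inv_hom_id_app _ _
  have h4 : (DRing.restrictD φ).map ((quotientCompQhIso (ModuleCat.{u} B)).hom.app K) ≫
      (DRing.restrictD φ).map ((quotientCompQhIso (ModuleCat.{u} B)).inv.app K) = 𝟙 _ := by
    rw [← Functor.map_comp, Iso.hom_inv_id_app, CategoryTheory.Functor.map_id]
  rw [h1]
  exact abs_cancel _ _ _ _ _ _ h3 h2 h4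

lemma abs_counit {C D : Type*} [Category C] [Category D] (G : D ⥤ C) {x₀ x₁ x₂ x₃ : D}
    {y₁ y₂ z₀ z₁ : C} (i' : x₀ ⟶ x₁) (i : x₁ ⟶ x₀)
    (κ : x₀ ⟶ x₂) (r' : x₂ ⟶ x₃) (r : x₃ ⟶ x₂) (ε : G.obj x₂ ⟶ y₂) (ε' : G.obj x₃ ⟶ y₁)
    (j : y₁ ⟶ y₂)
    (c : G.obj x₁ ⟶ z₀) (u : z₀ ⟶ y₁) (k : z₀ ⟶ z₁) (v : z₁ ⟶ y₂)
    (hi : i' ≫ i = 𝟙 _) (hr : r' ≫ r = 𝟙 _) (h1 : G.map (i ≫ κ ≫ r') ≫ ε' = c ≫ u)
    (h2 : G.map r ≫ ε = ε' ≫ j) (h3 : u ≫ j = k ≫ v) :
    G.map κ ≫ ε = (G.map i' ≫ c ≫ k) ≫ v := by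
  have h4 : κ = i' ≫ (i ≫ κ ≫ r') ≫ r := by
    rw [Category.assoc, Category.assoc, hr, Category.comp_id, reassoc_of% hi]
  rw [h4, Functor.map_comp, Functor.map_comp]
  simp only [Category.assoc] at h1 ⊢
  rw [h2, reassoc_of% h1, h3]

/-- The counit of the derived adjunction on complexes. -/
theorem lbcAdj_counit_Q (K : CochainComplex (ModuleCat.{u} B) ℤ) :
    (DRing.LBaseChange φ).map (resQ φ K).hom ≫ (lbcAdj φ).counit.app (Q.obj K) =
      (lbcQCounit φ).app
        (((ModuleCat.restrictScalars.{u} φ).mapHomologicalComplex (ComplexShape.up ℤ)).obj K) ≫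
          Q.map ((cxAdj φ).counit.app K) := by
  have h1 := lbcAdj_counit_fac φ ((HomotopyCategory.quotient _ _).obj K)
  rw [restrictFac_hom_app] at h1
  have h2 := (lbcAdj φ).counit.naturality ((quotientCompQhIso (ModuleCat.{u} B)).hom.app K)
  have h3 := quotientCompQhIso_hom_naturality (C := ModuleCat.{u} B) ((cxAdj φ).counit.app K)
  have hi : (quotientCompQhIso (ModuleCat.{u} A)).inv.app
      (((ModuleCat.restrictScalars.{u} φ).mapHomologicalComplex (ComplexShape.up ℤ)).obj K) ≫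
      (quotientCompQhIso (ModuleCat.{u} A)).hom.app
      (((ModuleCat.restrictScalars.{u} φ).mapHomologicalComplex (ComplexShape.up ℤ)).obj K) = 𝟙 _ :=
    Iso.inv_hom_id_app _ _
  have hr : (DRing.restrictD φ).map ((quotientCompQhIso (ModuleCat.{u} B)).inv.app K) ≫
      (DRing.restrictD φ).map ((quotientCompQhIso (ModuleCat.{u} B)).hom.app K) = 𝟙 _ := by
    rw [← Functor.map_comp, Iso.inv_hom_id_app, CategoryTheory.Functor.map_id]
  have hQ : (lbcQCounit φ).app
        (((ModuleCat.restrictScalars.{u} φ).mapHomologicalComplex (ComplexShape.up ℤ)).obj K) =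
      (DRing.LBaseChange φ).map ((quotientCompQhIso (ModuleCat.{u} A)).inv.app
      (((ModuleCat.restrictScalars.{u} φ).mapHomologicalComplex (ComplexShape.up ℤ)).obj K)) ≫
      (lbcCounit φ).app ((HomotopyCategory.quotient _ _).obj
        (((ModuleCat.restrictScalars.{u} φ).mapHomologicalComplex (ComplexShape.up ℤ)).obj K)) ≫
      (quotientCompQhIso (ModuleCat.{u} B)).hom.app
        (((ModuleCat.extendScalars.{u, u, u} φ).mapHomologicalComplex (ComplexShape.up ℤ)).obj
        (((ModuleCat.restrictScalars.{u} φ).mapHomologicalComplex (ComplexShape.up ℤ)).obj K)) := by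
    have e1 : Qh.map (((ModuleCat.extendScalars.{u, u, u} φ).mapHomotopyCategoryFactors
        (ComplexShape.up ℤ)).hom.app (((ModuleCat.restrictScalars.{u} φ).mapHomologicalComplex
          (ComplexShape.up ℤ)).obj K)) = 𝟙 _ := by
      have : ((ModuleCat.extendScalars.{u, u, u} φ).mapHomotopyCategoryFactors
        (ComplexShape.up ℤ)).hom.app (((ModuleCat.restrictScalars.{u} φ).mapHomologicalComplex
          (ComplexShape.up ℤ)).obj K) = 𝟙 _ := rfl
      rw [this]
      exact Qh.map_id _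
    dsimp only [lbcQCounit, NatTrans.comp_app, whiskerRight_app, whiskerLeft_app,
      Functor.associator_hom_app, Functor.associator_inv_app]
    rw [e1]
    erw [Category.id_comp, Category.id_comp, Category.id_comp, Category.id_comp]
  rw [hQ]
  exact abs_counit (DRing.LBaseChange φ) _ _ _ _ _ _ _ _ _ _ _ _ hi hr h1 h2 h3

/-- The adjoint of a chain map. -/
theorem lbcAdj_symm_Q {P : CochainComplex (ModuleCat.{u} A) ℤ}
    {K : CochainComplex (ModuleCat.{u} B) ℤ}
    (s : P ⟶ ((ModuleCat.restrictScalars.{u} φ).mapHomologicalComplex (ComplexShape.up ℤ)).obj K) :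
    ((lbcAdj φ).homEquiv _ _).symm (Q.map s ≫ (resQ φ K).hom) =
      (lbcQCounit φ).app P ≫ Q.map (((cxAdj φ).homEquiv _ _).symm s) := by
  have h1 := (lbcQCounit φ).naturality s
  have h2 := lbcAdj_counit_Q φ K
  have h3 : (DRing.LBaseChange φ).map (Q.map s) ≫ (lbcQCounit φ).app
      (((ModuleCat.restrictScalars.{u} φ).mapHomologicalComplex (ComplexShape.up ℤ)).obj K) =
      (lbcQCounit φ).app P ≫ Q.map (((ModuleCat.extendScalars.{u, u, u} φ).mapHomologicalComplex
        (ComplexShape.up ℤ)).map s) := h1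
  rw [Adjunction.homEquiv_counit, Adjunction.homEquiv_counit, Functor.map_comp, Category.assoc, h2,
    reassoc_of% h3, Functor.map_comp]

/-- For K-projective `P` the adjoint of a chain map `P ⟶ res K` is an isomorphism iff
`B ⊗ P ⟶ K` is a quasi-isomorphism. -/
theorem isIso_lbcAdj_symm_iff {P : CochainComplex (ModuleCat.{u} A) ℤ} [P.IsKProjective]
    {K : CochainComplex (ModuleCat.{u} B) ℤ}
    (s : P ⟶ ((ModuleCat.restrictScalars.{u} φ).mapHomologicalComplex (ComplexShape.up ℤ)).obj K) :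
    IsIso (((lbcAdj φ).homEquiv _ _).symm (Q.map s ≫ (resQ φ K).hom)) ↔
      QuasiIso (((cxAdj φ).homEquiv _ _).symm s) := by
  rw [lbcAdj_symm_Q]
  have h : IsIso ((lbcQCounit φ).app P ≫ Q.map (((cxAdj φ).homEquiv _ _).symm s)) ↔
      IsIso (Q.map (((cxAdj φ).homEquiv _ _).symm s)) := isIso_comp_left_iff _ _
  rw [h, DerivedCategory.isIso_Q_map_iff_quasiIso]

end Groth.Agent.Models2.RlimPC
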