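import Groth.Agent.Models2.RlimPCE
import Groth.Agent.Models2.RlimPCF
import Groth.Agent.S2066
import Mathlib.LinearAlgebra.FreeModule.Finite.Basic
import Mathlib.Algebra.Homology.HomotopyCategory.KProjective

/-!
# Base change of the limit of a tower
-/

set_option autoImplicit false

universe u

open CategoryTheory CategoryTheory.Limits DerivedCategory

attribute [local instance] HasDerivedCategory.standard

namespace Groth.Agent.Models2.RlimPC

open LoccohB.LBC

section

variable {R S : Type u} [CommRing R] [CommRing S] {φ : R →+* S}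

/-- Restriction of scalars of complexes. -/
noncomputable abbrev resCx (φ : R →+* S) : Cx S ⥤ Cx R :=
  (ModuleCat.restrictScalars.{u} φ).mapHomologicalComplex (ComplexShape.up ℤ)

/-- The chain map of a semilinear map. -/
noncomputable def SMap.toHom {K : Cx R} {K' : Cx S} (s : SMap φ K K') : K ⟶ (resCx φ).obj K' where
  f i := ModuleCat.ofHom (Y := (ModuleCat.restrictScalars.{u} φ).obj (K'.X i))
    { toFun := s.f i
      map_add' := fun x y => map_add (s.f i) x y
      map_smul' := fun a x => LinearMap.map_smulₛₗ (s.f i) a x }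
  comm' i j hij := by
    obtain rfl : i + 1 = j := hij
    ext x
    exact (s.comm i x).symm

lemma SMap.toHom_apply {K : Cx R} {K' : Cx S} (s : SMap φ K K') (i : ℤ) (x : K.X i) :
    (s.toHom.f i).hom x = s.f i x := rfl

/-- A chain map to a restriction of scalars as a semilinear map. -/
noncomputable def SMap.ofHom {K : Cx R} {K' : Cx S} (g : K ⟶ (resCx φ).obj K') : SMap φ K K' where
  f i :=
    { toFun := fun x => (g.f i).hom x
      map_add' := fun x y => map_add (g.f i).hom x y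
      map_smul' := fun a x => map_smul (g.f i).hom a x }
  comm i x := congr($((g.comm i (i + 1)).symm) x)

lemma SMap.ofHom_toHom {K : Cx R} {K' : Cx S} (g : K ⟶ (resCx φ).obj K') :
    (SMap.ofHom g).toHom = g := rfl

section Lift

variable {r : ℤ → ℕ} (E : Mat R r)

/-- The universal map. -/
noncomputable abbrev Mat.u (φ : R →+* S) : SMap φ E.cx (E.map φ).cx := Mat.smap φ E (E.map φ) (fun _ => rfl)

lemma Mat.toHom_lift {L : Cx R} {P : Cx S} (p : SMap φ L P) (α : E.cx ⟶ L) :
    (Mat.u E φ).toHom ≫ (resCx φ).map (Mat.lift φ E p α) = α ≫ p.toHom := by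
  ext i x
  exact Mat.lift_pr φ E p α i x

lemma Mat.hom_ext' {P : Cx S} {f g : (E.map φ).cx ⟶ P}
    (h : (Mat.u E φ).toHom ≫ (resCx φ).map f = (Mat.u E φ).toHom ≫ (resCx φ).map g) : f = g := by
  apply Mat.lift_ext φ E
  intro i x
  exact congr(($h).f i x)

/-- the lift of a chain map `E ⟶ res P`. -/
lemma Mat.exists_lift {P : Cx S} (g : E.cx ⟶ (resCx φ).obj P) : ∃ f : (E.map φ).cx ⟶ P,
    (Mat.u E φ).toHom ≫ (resCx φ).map f = g := by
  refine ⟨Mat.lift φ E (SMap.ofHom (K := (resCx φ).obj P) (𝟙 _)) g, ?_⟩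
  rw [Mat.toHom_lift, SMap.ofHom_toHom, Category.comp_id]

/-- `S ⊗ E ≅ E.map φ`. -/
theorem Mat.isIso_hat : IsIso (((cxAdj φ).homEquiv _ _).symm (Mat.u E φ).toHom) := by
  obtain ⟨f, hf⟩ := Mat.exists_lift (φ := φ) E ((cxAdj φ).unit.app E.cx)
  refine ⟨f, ?_, ?_⟩
  · rw [← Adjunction.homEquiv_naturality_right_symm, hf]
    apply ((cxAdj φ).homEquiv _ _).injective
    rw [Equiv.apply_symm_apply, Adjunction.homEquiv_id]
  · apply Mat.hom_ext' E
    rw [Functor.map_comp, reassoc_of% hf]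
    have h1 := (cxAdj φ).homEquiv_unit (f := ((cxAdj φ).homEquiv _ _).symm (Mat.u E φ).toHom)
    rw [Equiv.apply_symm_apply] at h1
    refine h1.symm.trans ?_
    rw [CategoryTheory.Functor.map_id, Category.comp_id]

theorem Mat.hat_comp {L : Cx R} {P : Cx S} (p : SMap φ L P) (α : E.cx ⟶ L) :
    ((cxAdj φ).homEquiv _ _).symm (α ≫ p.toHom) =
      ((cxAdj φ).homEquiv _ _).symm (Mat.u E φ).toHom ≫ Mat.lift φ E p α := by
  rw [← Mat.toHom_lift, Adjunction.homEquiv_naturality_right_symm]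

theorem Mat.isKProjective (c : ℤ) (hc : ∀ k, c < k → r k = 0) : E.cx.IsKProjective := by
  have : E.cx.IsStrictlyLE c := by
    rw [CochainComplex.isStrictlyLE_iff]
    exact fun i hi => isZero_of_eq_zero R E i (hc i hi)
  have : ∀ i, Projective (E.cx.X i) := fun i =>
    (IsProjective.iff_projective (ModuleCat.of R (Fin (r i) → R))).1
      (inferInstanceAs (Module.Projective R (Fin (r i) → R)))
  exact CochainComplex.isKProjective_of_projective E.cx c

/-- If `E ⟶ L` and `S ⊗ E ⟶ P` are quasi-isomorphisms then the adjoint of `L ⟶ P` is an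
isomorphism. -/
theorem Mat.isIso_adj {L : Cx R} {P : Cx S} (p : SMap φ L P) (α : E.cx ⟶ L) [DRing.HasLBaseChange φ]
    (c : ℤ) (hc : ∀ k, c < k → r k = 0) [QuasiIso α] [QuasiIso (Mat.lift φ E p α)] :
    IsIso (((lbcAdj φ).homEquiv _ _).symm (Q.map p.toHom ≫ (resQ φ P).hom)) := by
  have := Mat.isKProjective E c hc
  have h1 : IsIso (((lbcAdj φ).homEquiv _ _).symm (Q.map (α ≫ p.toHom) ≫ (resQ φ P).hom)) := by
    rw [isIso_lbcAdj_symm_iff, Mat.hat_comp]
    have := Mat.isIso_hat (φ := φ) E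
    infer_instance
  rw [Functor.map_comp, Category.assoc, Adjunction.homEquiv_naturality_left_symm] at h1
  exact (isIso_comp_left_iff ((DRing.LBaseChange φ).map (Q.map α)) _).1 h1

end Lift

/-- Bounded above complexes of finite free modules are isomorphic to matrix complexes. -/
theorem exists_mat (E₀ : Cx R) (b : ℤ) (hb : DRing.VanishesAbove E₀ b)
    (hE : DRing.TermwiseFiniteFree E₀) :
    ∃ (r : ℤ → ℕ) (E : Mat R r) (β : E.cx ⟶ E₀), (∀ k, b < k → r k = 0) ∧ IsIso β := by
  have h : ∀ k, ∃ (n : ℕ) (_ : E₀.X k ≃ₗ[R] (Fin n → R)), b < k → n = 0 := by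
    intro k
    by_cases hk : b < k
    · have := ModuleCat.subsingleton_of_isZero (hb k hk)
      exact ⟨0, 0, fun _ => rfl⟩
    · obtain ⟨h1, h2⟩ := hE k
      let B := Module.Free.chooseBasis R (E₀.X k)
      let _ := Module.Free.ChooseBasisIndex.fintype R (E₀.X k)
      exact ⟨_, (B.reindex (Fintype.equivFin _)).equivFun, fun h => absurd h hk⟩
  choose r e hr using h
  let D : ∀ i, (Fin (r i) → R) →ₗ[R] (Fin (r (i + 1)) → R) := fun i =>
    (e (i + 1)).toLinearMap ∘ₗ dl E₀ i ∘ₗ (e i).symm.toLinearMap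
  have hD : ∀ i, D (i + 1) ∘ₗ D i = 0 := by
    intro i
    apply LinearMap.ext
    intro x
    simp only [D, LinearMap.comp_apply, LinearEquiv.coe_coe, LinearEquiv.symm_apply_apply, dl_dl,
      map_zero, LinearMap.zero_apply]
  let E : Mat R r :=
    { M := fun i => LinearMap.toMatrix' (D i)
      hM := fun i => by rw [← LinearMap.toMatrix'_comp, hD, map_zero] }
  have hdl : ∀ i (x : Fin (r i) → R), dl E.cx i x = D i x := by
    intro i x
    rw [Mat.dl_cx]
    exact LinearMap.toMatrix'_mulVec (D i) x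
  have h1 : ∀ i (x : Fin (r i) → R), (e (i + 1)).symm (dl E.cx i x) = dl E₀ i ((e i).symm x) := by
    intro i x
    rw [hdl]
    simp only [D, LinearMap.comp_apply, LinearEquiv.coe_coe, LinearEquiv.symm_apply_apply]
  let β : E.cx ⟶ E₀ := mkMap (K := E.cx) (fun i => (e i).symm.toLinearMap) h1
  let γ : E₀ ⟶ E.cx := mkMap (L := E.cx) (fun i => (e i).toLinearMap) (fun i x => by
    change e (i + 1) (dl E₀ i x) = dl E.cx i (e i x : Fin (r i) → R)
    have h2 := h1 i (e i x)
    rw [LinearEquiv.symm_apply_apply] at h2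
    rw [← h2, LinearEquiv.apply_symm_apply])
  refine ⟨r, E, β, hr, ⟨γ, ?_, ?_⟩⟩
  · ext i x
    exact (e i).apply_symm_apply x
  · ext i x
    exact (e i).symm_apply_apply x

/-- Matrix resolutions of pseudo-coherent complexes. -/
theorem exists_mat_quasiIso (L : Cx R) (hL : ∀ m, DRing.IsPseudoCoherent R m (Q.obj L)) :
    ∃ (r : ℤ → ℕ) (E : Mat R r) (α : E.cx ⟶ L) (c : ℤ), (∀ k, c < k → r k = 0) ∧ QuasiIso α := by
  obtain ⟨E₀, b, hb, hE, ⟨e⟩⟩ := (S2066.result (Q.obj L)).1.1 hL
  obtain ⟨r, E, β, hr, hβ⟩ := exists_mat E₀ b hb hE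
  have := Mat.isKProjective E b hr
  obtain ⟨α, hα⟩ := CalgB.DerTri.Q_map_surjective_of_isKProjective E.cx L (Q.map β ≫ e.hom)
  refine ⟨r, E, α, b, hr, ?_⟩
  rw [← DerivedCategory.isIso_Q_map_iff_quasiIso, hα]
  infer_instance

end

section Tower

variable {A : Type u} [CommRing A] {A' : ℕ → Type u} [∀ n, CommRing (A' n)]
  {φ : ∀ n, A' (n + 1) →+* A' n} {π : ∀ n, A →+* A' n}

/-- If the limit of a tower is acyclic then all levels are. -/
theorem ex_of_ex_lim (hφ : ∀ n, Function.Surjective (φ n))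
    (hnil : ∀ n, ∀ x ∈ RingHom.ker (φ n), IsNilpotent x)
    {P : ∀ n, Cx (A' n)} {s : ∀ n, SMap (φ n) (P (n + 1)) (P n)} {L : Cx A}
    {p : ∀ n, SMap (π n) L (P n)} (hg : Good s) (hL : IsLim s p) (hex : ∀ j, Ex L j) (n : ℕ)
    (j : ℤ) : Ex (P n) j := by
  have h1 : ∀ i, (∀ j, i < j → Ex (P 0) j) → ∀ n j, i < j → Ex (P n) j := by
    intro i h n
    induction n with
    | zero => exact h
    | succ n ih =>
      exact ex_above_of_ex_above (hg.fp _) (hg.bdd _) i (s n) (hφ n) (hg.surj n) (hg.bc n) (hnil n)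
        ih
  obtain ⟨c, hc⟩ := hg.bdd 0
  have h2 : ∀ (k : ℕ) (j : ℤ), c - k < j → Ex (P 0) j := by
    intro k
    induction k with
    | zero =>
      intro j hj z _
      have := hc (j + 1) (by simp only [Nat.cast_zero] at hj; omega)
      exact ⟨0, Subsingleton.elim _ _⟩
    | succ k ih =>
      intro j hj
      by_cases hj' : c - k < j
      · exact ih j hj'
      · obtain rfl : j = c - k := by push_cast at hj; omega
        intro y hy
        have h3 := h1 _ ih
        obtain ⟨x, hx, rfl⟩ := hL.exists_lift_zero (c - k + 1) (fun n y hy =>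
          exists_cocycle_lift (hg.fp _) (hg.bdd _) (c - k) (fun i hi => h3 _ i hi) (s n)
          (hg.surj n) (hg.bc n) y hy) y hy
        obtain ⟨w, rfl⟩ := hex _ x hx
        exact ⟨(p 0).f _ w, by rw [(p 0).comm]⟩
  have h3 : ∀ j, Ex (P 0) j := fun j => h2 (c - j + 1).toNat j
    (by have := Int.self_le_toNat (c - j + 1); omega)
  exact h1 (j - 1) (fun k _ => h3 k) n j (by omega)

/-- Base change of the limit of a tower. -/
theorem isIso_adj (hlim : FlatCA.IsRingLimit A A' φ π) (hφ : ∀ n, Function.Surjective (φ n))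
    (hnil : ∀ n, ∀ x ∈ RingHom.ker (φ n), IsNilpotent x)
    {P : ∀ n, Cx (A' n)} {s : ∀ n, SMap (φ n) (P (n + 1)) (P n)} {L : Cx A}
    {p : ∀ n, SMap (π n) L (P n)} (hg : Good s) (hL : IsLim s p) (n : ℕ)
    [DRing.HasLBaseChange (π n)] :
    IsIso (((lbcAdj (π n)).homEquiv _ _).symm (Q.map (p n).toHom ≫ (resQ (π n) (P n)).hom)) := by
  obtain ⟨r, E, α, c, hc, hα⟩ := exists_mat_quasiIso L
    (isPseudoCoherent_lim hlim hφ hnil hg hL)
  have hG := Good.cone (fun n => Mat.lift (π n) E (p n) α)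
    (fun n i x => Mat.lift_tr hlim hL E α n i x) (E.good hlim hφ c hc) hg
  have hI := IsLim.cone (fun n => Mat.lift (π n) E (p n) α) α
        (fun n i x => Mat.lift_tr hlim hL E α n i x)
        (fun n i x => (Mat.lift_pr (π n) E (p n) α i x).symm) (E.isLim hlim) hL
  have h1 := ex_of_ex_lim hφ hnil hG hI (ex_cone_of_quasiIso α) n
  have h2 : QuasiIso (Mat.lift (π n) E (p n) α) := quasiIso_of_ex_cone _ h1
  exact Mat.isIso_adj E (p n) α c hc

end Tower

end Groth.Agent.Models2.RlimPC
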