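import Groth.Agent.Models2.RlimPCG

/-!
# Honest towers
-/

set_option autoImplicit false

universe u

open CategoryTheory CategoryTheory.Limits DerivedCategory

attribute [local instance] HasDerivedCategory.standard

namespace Groth.Agent.Models2.RlimPC

open LoccohB.LBC

section Prod

variable {R S : Type u} [CommRing R] [CommRing S] {φ : R →+* S}

/-- The product of two complexes. -/
noncomputable def prodCx (K L : Cx R) : Cx R :=
  CochainComplex.of (fun i => ModuleCat.of R (K.X i × L.X i))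
    (fun i => ModuleCat.ofHom ((dl K i).prodMap (dl L i)))
    (fun i => ModuleCat.hom_ext (LinearMap.ext fun x =>
      Prod.ext (dl_dl K i x.1) (dl_dl L i x.2)))

lemma dl_prodCx (K L : Cx R) (i : ℤ) (x : K.X i × L.X i) :
    dl (prodCx K L) i x = ((dl K i x.1, dl L i x.2) : K.X (i + 1) × L.X (i + 1)) :=
  congr(ModuleCat.Hom.hom $(CochainComplex.of_d (fun i => ModuleCat.of R (K.X i × L.X i))
    (fun i => ModuleCat.ofHom ((dl K i).prodMap (dl L i))) i) x)

/-- The inclusion. -/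
noncomputable def prodInl (K L : Cx R) : K ⟶ prodCx K L :=
  mkMap (L := prodCx K L) (fun i => LinearMap.inl R (K.X i) (L.X i)) (fun i x => by
    rw [dl_prodCx]
    exact Prod.ext rfl (map_zero (dl L i)).symm)

lemma quasiIso_prodInl (K L : Cx R) (hL : ∀ i, Ex L i) : QuasiIso (prodInl K L) := by
  rw [quasiIso_iff_elem]
  intro i
  constructor
  · rintro z - ⟨a, b⟩ h
    rw [dl_prodCx] at h
    exact ⟨a, congrArg Prod.fst h⟩
  · rintro ⟨y₁, y₂⟩ h
    rw [dl_prodCx] at h
    have h1 : dl K (i + 1) y₁ = 0 := congrArg Prod.fst h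
    have h2 : dl L (i + 1) y₂ = 0 := congrArg Prod.snd h
    obtain ⟨b, hb⟩ := hL i y₂ h2
    refine ⟨y₁, h1, ((0, b) : K.X i × L.X i), ?_⟩
    rw [dl_prodCx, map_zero, hb]
    exact (Prod.ext (add_zero _) (zero_add _)).symm

/-- semilinear coproduct -/
def scoprod {M N Q : Type u} [AddCommGroup M] [Module R M] [AddCommGroup N] [Module R N]
    [AddCommGroup Q] [Module S Q] (g : M →ₛₗ[φ] Q) (f : N →ₛₗ[φ] Q) : (M × N) →ₛₗ[φ] Q where
  toFun x := g x.1 + f x.2
  map_add' x y := by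
    rw [Prod.fst_add, Prod.snd_add, map_add, map_add]
    abel
  map_smul' a x := by
    rw [Prod.smul_fst, Prod.smul_snd, LinearMap.map_smulₛₗ, LinearMap.map_smulₛₗ, smul_add]

/-- The sum of two maps. -/
noncomputable def prodSMap {K L : Cx R} {P : Cx S} (g : SMap φ K P) (f : SMap φ L P) :
    SMap φ (prodCx K L) P where
  f i := scoprod (M := K.X i) (N := L.X i) (g.f i) (f.f i)
  comm i x := by
    rw [dl_prodCx]
    change g.f (i + 1) (dl K i x.1) + f.f (i + 1) (dl L i x.2) = dl P i (g.f i x.1 + f.f i x.2)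
    rw [map_add, g.comm, f.comm]

lemma surj_prodSMap {K L : Cx R} {P : Cx S} (g : SMap φ K P) (f : SMap φ L P) (hf : f.Surj) :
    (prodSMap g f).Surj := by
  intro i y
  obtain ⟨x, rfl⟩ := hf i y
  refine ⟨((0, x) : K.X i × L.X i), ?_⟩
  change g.f i 0 + f.f i x = f.f i x
  rw [map_zero, zero_add]

lemma toHom_prodSMap {K L : Cx R} {P : Cx S} (g : SMap φ K P) (f : SMap φ L P) :
    prodInl K L ≫ (prodSMap g f).toHom = g.toHom := by
  ext i x
  change g.f i x + f.f i 0 = g.f i x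
  rw [map_zero, add_zero]

end Prod

section Disc

variable {R S : Type u} [CommRing R] [CommRing S] {φ : R →+* S}

lemma exists_semilin (hφ : Function.Surjective φ) (M : Type u) [AddCommGroup M] [Module S M]
    [Module.Finite S M] : ∃ (n : ℕ) (g : (Fin n → R) →ₛₗ[φ] M), Function.Surjective g ∧
      (Subsingleton M → n = 0) := by
  by_cases h : Subsingleton M
  · exact ⟨0, 0, fun y => ⟨0, Subsingleton.elim _ _⟩, fun _ => rfl⟩
  · obtain ⟨n, m, hm⟩ := Module.Finite.exists_fin (R := S) (M := M)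
    refine ⟨n, { toFun := fun v => ∑ j, φ (v j) • m j
                 map_add' := fun v w => ?_
                 map_smul' := fun a v => ?_ }, ?_, fun h' => absurd h' h⟩
    · simp [add_smul, Finset.sum_add_distrib]
    · simp [Finset.smul_sum, mul_smul]
    · intro y
      have hy : y ∈ Submodule.span S (Set.range m) := by rw [hm]; trivial
      obtain ⟨c, hc⟩ := (Submodule.mem_span_range_iff_exists_fun S).1 hy
      choose d hd using fun j => hφ (c j)
      refine ⟨d, ?_⟩
      change ∑ j, φ (d j) • m j = y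
      rw [← hc]
      simp only [hd]

variable (R) in
/-- A contractible complex of free modules. -/
noncomputable def disc (v : ℤ → ℕ) : Cx R :=
  CochainComplex.of (fun i => ModuleCat.of R ((Fin (v i) → R) × (Fin (v (i + 1)) → R)))
    (fun _ => ModuleCat.ofHom (LinearMap.prod (LinearMap.snd R _ _) 0))
    (fun _ => ModuleCat.hom_ext (LinearMap.ext fun _ => rfl))

lemma dl_disc (v : ℤ → ℕ) (i : ℤ) (x : (Fin (v i) → R) × (Fin (v (i + 1)) → R)) :
    dl (disc R v) i x = ((x.2, 0) : (Fin (v (i + 1)) → R) × (Fin (v (i + 1 + 1)) → R)) :=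
  congr(ModuleCat.Hom.hom $(CochainComplex.of_d
    (fun i => ModuleCat.of R ((Fin (v i) → R) × (Fin (v (i + 1)) → R)))
    (fun _ => ModuleCat.ofHom (LinearMap.prod (LinearMap.snd R _ _) 0)) i) x)

lemma ex_disc (v : ℤ → ℕ) (i : ℤ) : Ex (disc R v) i := by
  rintro ⟨a, b⟩ h
  rw [dl_disc] at h
  have h1 : b = 0 := congrArg Prod.fst h
  refine ⟨((0, a) : (Fin (v i) → R) × (Fin (v (i + 1)) → R)), ?_⟩
  rw [dl_disc, h1]

/-- The surjection from a disc. -/
noncomputable def discMap (P : Cx S) (v : ℤ → ℕ) (g : ∀ j, (Fin (v j) → R) →ₛₗ[φ] P.X (j - 1)) :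
    SMap φ (disc R v) P where
  f i := scoprod (M := Fin (v i) → R) (N := Fin (v (i + 1)) → R) (((P.d (i - 1) i).hom).comp (g i))
    (((P.XIsoOfEq (show i + 1 - 1 = i by omega)).hom.hom).comp (g (i + 1)))
  comm i x := by
    rw [dl_disc]
    change (P.d (i + 1 - 1) (i + 1)).hom (g (i + 1) x.2) +
      (P.XIsoOfEq (show i + 1 + 1 - 1 = i + 1 by omega)).hom.hom (g (i + 1 + 1) 0) =
      dl P i ((P.d (i - 1) i).hom (g i x.1) +
        (P.XIsoOfEq (show i + 1 - 1 = i by omega)).hom.hom (g (i + 1) x.2))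
    rw [map_zero, map_zero, add_zero, map_add]
    have h1 : dl P i ((P.d (i - 1) i).hom (g i x.1)) = 0 :=
      congr($(P.d_comp_d (i - 1) i (i + 1)) (g i x.1))
    have h2 : dl P i ((P.XIsoOfEq (show i + 1 - 1 = i by omega)).hom.hom (g (i + 1) x.2)) =
        (P.d (i + 1 - 1) (i + 1)).hom (g (i + 1) x.2) :=
      congr($(HomologicalComplex.XIsoOfEq_hom_comp_d P (show i + 1 - 1 = i by omega) (i + 1))
        (g (i + 1) x.2))
    rw [h1, h2, zero_add]

lemma surj_discMap (P : Cx S) (v : ℤ → ℕ) (g : ∀ j, (Fin (v j) → R) →ₛₗ[φ] P.X (j - 1))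
    (hg : ∀ j, Function.Surjective (g j)) : (discMap P v g).Surj := by
  intro i y
  obtain ⟨b, hb⟩ := hg (i + 1) ((P.XIsoOfEq (show i + 1 - 1 = i by omega)).inv.hom y)
  refine ⟨((0, b) : (Fin (v i) → R) × (Fin (v (i + 1)) → R)), ?_⟩
  change (P.d (i - 1) i).hom (g i 0) +
        (P.XIsoOfEq (show i + 1 - 1 = i by omega)).hom.hom (g (i + 1) b) = y
  rw [map_zero, map_zero, zero_add, hb]
  exact congr($((P.XIsoOfEq (show i + 1 - 1 = i by omega)).inv_hom_id) y)

/-- Every bounded above complex of finite modules is a quotient of a contractible complex of finite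
free modules. -/
theorem exists_disc (hφ : Function.Surjective φ) (P : Cx S) (hP : FP P) (hb : BddAb P) :
    ∃ (D : Cx R) (f : SMap φ D P) (c : ℤ), f.Surj ∧ (∀ i, Ex D i) ∧ DRing.TermwiseFiniteFree D ∧
      DRing.VanishesAbove D c := by
  obtain ⟨c, hc⟩ := hb
  have h : ∀ j, ∃ (n : ℕ) (g : (Fin n → R) →ₛₗ[φ] P.X (j - 1)), Function.Surjective g ∧
      (Subsingleton (P.X (j - 1)) → n = 0) := fun j => by
    have := (hP (j - 1)).1
    exact exists_semilin hφ _
  choose v g hg hv using h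
  refine ⟨disc R v, discMap P v g, c + 1, surj_discMap P v g hg, ex_disc v, fun i => ⟨?_, ?_⟩,
    fun i hi => ?_⟩
  · exact inferInstanceAs (Module.Finite R ((Fin (v i) → R) × (Fin (v (i + 1)) → R)))
  · exact inferInstanceAs (Module.Free R ((Fin (v i) → R) × (Fin (v (i + 1)) → R)))
  · have h1 : v i = 0 := hv i (hc _ (by omega))
    have h2 : v (i + 1) = 0 := hv (i + 1) (hc _ (by omega))
    have : Subsingleton ((Fin (v i) → R) × (Fin (v (i + 1)) → R)) := by
      rw [h1, h2]; infer_instance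
    exact ModuleCat.isZero_of_subsingleton
      (ModuleCat.of R ((Fin (v i) → R) × (Fin (v (i + 1)) → R)))

end Disc

section BC

variable {R S : Type u} [CommRing R] [CommRing S] {φ : R →+* S}

/-- The kernel of a surjective quasi-isomorphism is acyclic. -/
lemma exists_of_quasiIso {K L : Cx R} (f : K ⟶ L) [hf : QuasiIso f]
    (hs : ∀ i, Function.Surjective (f.f i).hom) (i : ℤ) (z : K.X (i + 1))
    (hz : dl K (i + 1) z = 0) (h0 : (f.f (i + 1)).hom z = 0) :
    ∃ v : K.X i, (f.f i).hom v = 0 ∧ dl K i v = z := by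
  rw [quasiIso_iff_elem] at hf
  obtain ⟨v, rfl⟩ := (hf i).1 z hz 0 (by rw [h0, map_zero])
  obtain ⟨i, rfl⟩ : ∃ i', i = i' + 1 := ⟨i - 1, by omega⟩
  obtain ⟨c, hc, w, hw⟩ := (hf i).2 ((f.f (i + 1)).hom v) (by rw [← hom_dl, h0])
  obtain ⟨w, rfl⟩ := hs i w
  refine ⟨v - c - dl K i w, ?_, ?_⟩
  · rw [map_sub, map_sub, hw, hom_dl]
    abel
  · rw [map_sub, map_sub, hc, dl_dl, sub_zero, sub_zero]

theorem Mat.bc {r : ℤ → ℕ} (E : Mat R r) {P : Cx S} (s : SMap φ E.cx P)
    (hφ : Function.Surjective φ) (hs : s.Surj) [QuasiIso (Mat.lift φ E s (𝟙 _))] : BC s := by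
  have hl : ∀ i (x : E.cx.X i), ((Mat.lift φ E s (𝟙 _)).f i).hom ((Mat.u E φ).f i x) = s.f i x :=
    fun i x => Mat.lift_pr φ E s (𝟙 _) i x
  have hu : (Mat.u E φ).Surj := Mat.smap_surj hφ _ _ _
  have hk : ∀ i (x : E.cx.X i), (Mat.u E φ).f i x = 0 →
      x ∈ RingHom.ker φ • (⊤ : Submodule R (E.cx.X i)) := by
    intro i x hx
    change Fin (r i) → R at x
    have hx' : ∀ j, x j ∈ RingHom.ker φ := fun j => congrFun hx j
    have h1 : x = ∑ j, x j • (Pi.single j (1 : R) : Fin (r i) → R) := by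
      funext k
      simp [Finset.sum_apply, Pi.single_apply]
    have h2 : ∑ j, x j • (Pi.single j (1 : R) : Fin (r i) → R) ∈
        RingHom.ker φ • (⊤ : Submodule R (Fin (r i) → R)) :=
      Submodule.sum_mem _ fun j _ => Submodule.smul_mem_smul (hx' j) Submodule.mem_top
    rw [← h1] at h2
    exact h2
  intro i x hx hd
  obtain ⟨v, hv, hv'⟩ := exists_of_quasiIso (Mat.lift φ E s (𝟙 _)) (fun i y => by
    obtain ⟨x, rfl⟩ := hs i y
    exact ⟨(Mat.u E φ).f i x, hl i x⟩) i ((Mat.u E φ).f (i + 1) x)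
    (by rw [← (Mat.u E φ).comm, map_ker_smul_top _ hd]) (by rw [hl, hx])
  obtain ⟨y, rfl⟩ := hu i v
  refine ⟨y, by rw [← hl, hv], hk _ _ ?_⟩
  rw [map_sub, (Mat.u E φ).comm, hv', sub_self]

end BC

end Groth.Agent.Models2.RlimPC
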