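import Groth.Agent.Models2.RlimPCH

/-!
# Honest towers, continued
-/

set_option autoImplicit false

universe u

open CategoryTheory CategoryTheory.Limits DerivedCategory

attribute [local instance] HasDerivedCategory.standard

namespace Groth.Agent.Models2.RlimPC

open LoccohB.LBC

/-- A representative of an object of the derived category. -/
structure Stage (S : Type u) [CommRing S] (N : Dual.D S) where
  /-- the complex -/
  P : Cx S
  fp : FP P
  bdd : BddAb P
  /-- the isomorphism -/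
  e : Q.obj P ≅ N

theorem exists_stage {S : Type u} [CommRing S] (N : Dual.D S)
    (hN : ∀ m, DRing.IsPseudoCoherent S m N) : Nonempty (Stage S N) := by
  obtain ⟨E₀, b, hb, hE, ⟨e⟩⟩ := (S2066.result N).1.1 hN
  refine ⟨⟨E₀, fun i => ?_, ⟨b, fun i hi => ModuleCat.subsingleton_of_isZero (hb i hi)⟩, e⟩⟩
  obtain ⟨h1, h2⟩ := hE i
  exact ⟨h1, inferInstance⟩

theorem Stage.exists_next {R S : Type u} [CommRing R] [CommRing S] (φ : R →+* S)
    (hφ : Function.Surjective φ) [DRing.HasLBaseChange φ] {N : Dual.D S} {N' : Dual.D R}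
    (t : N' ⟶ (DRing.restrictD φ).obj N) (ht : IsIso (((lbcAdj φ).homEquiv _ _).symm t))
    (hN' : ∀ m, DRing.IsPseudoCoherent R m N') (T : Stage S N) :
    ∃ (T' : Stage R N') (s : SMap φ T'.P T.P), s.Surj ∧ BC s ∧
      T'.e.hom ≫ t = Q.map s.toHom ≫ (resQ φ T.P).hom ≫ (DRing.restrictD φ).map T.e.hom := by
  obtain ⟨E₀, b, hb, hE, ⟨e'⟩⟩ := (S2066.result N').1.1 hN'
  have : E₀.IsStrictlyLE b := by
    rw [CochainComplex.isStrictlyLE_iff]
    exact fun i hi => hb i hi
  have : ∀ i, Projective (E₀.X i) := fun i => by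
    obtain ⟨h1, h2⟩ := hE i
    exact (IsProjective.iff_projective (E₀.X i)).1 inferInstance
  have := CochainComplex.isKProjective_of_projective E₀ b
  obtain ⟨g, hg⟩ := CalgB.DerTri.Q_map_surjective_of_isKProjective E₀ ((resCx φ).obj T.P)
    (e'.hom ≫ t ≫ (DRing.restrictD φ).map T.e.inv ≫ (resQ φ T.P).inv)
  obtain ⟨D, f, c, hf, hD, hD', hDc⟩ := exists_disc hφ T.P T.fp T.bdd
  have := quasiIso_prodInl E₀ D hD
  obtain ⟨r, E, β, hr, hβ⟩ := exists_mat (prodCx E₀ D) (max b c)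
    (fun i hi => by
      have h1 := ModuleCat.subsingleton_of_isZero (hb i ((le_max_left _ _).trans_lt hi))
      have h2 := ModuleCat.subsingleton_of_isZero (hDc i ((le_max_right _ _).trans_lt hi))
      exact ModuleCat.isZero_of_subsingleton (ModuleCat.of R (E₀.X i × D.X i)))
    (fun i => by
      obtain ⟨h1, h2⟩ := hE i
      obtain ⟨h3, h4⟩ := hD' i
      exact ⟨inferInstanceAs (Module.Finite R (E₀.X i × D.X i)),
        inferInstanceAs (Module.Free R (E₀.X i × D.X i))⟩)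
  let s₀ : SMap φ (prodCx E₀ D) T.P := prodSMap (SMap.ofHom g) f
  have hs₀ : prodInl E₀ D ≫ s₀.toHom = g := toHom_prodSMap _ _
  let s : SMap φ E.cx T.P := SMap.ofHom (β ≫ s₀.toHom)
  have hs : s.Surj := by
    intro i y
    obtain ⟨x, hx⟩ := surj_prodSMap (SMap.ofHom g) f hf i y
    refine ⟨((inv β).f i).hom x, ?_⟩
    have h1 : (β.f i).hom (((inv β).f i).hom x) = x :=
      congr($(IsIso.inv_hom_id β).f i x)
    change s₀.f i ((β.f i).hom (((inv β).f i).hom x)) = y
    rw [h1]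
    exact hx
  let e'' : Q.obj E.cx ≅ N' := asIso (Q.map β) ≪≫ (asIso (Q.map (prodInl E₀ D))).symm ≪≫ e'
  have hcomp : e''.hom ≫ t = Q.map s.toHom ≫ (resQ φ T.P).hom ≫
      (DRing.restrictD φ).map T.e.hom := by
    have h1 : Q.map s.toHom = Q.map β ≫ Q.map s₀.toHom := by
      rw [← Functor.map_comp]
      rfl
    have h2 : Q.map (prodInl E₀ D) ≫ Q.map s₀.toHom = Q.map g := by
      rw [← Functor.map_comp, hs₀]
    have h3 : (DRing.restrictD φ).map T.e.inv ≫ (DRing.restrictD φ).map T.e.hom = 𝟙 _ := by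
      rw [← Functor.map_comp, T.e.inv_hom_id, CategoryTheory.Functor.map_id]
    have h4 : (inv (Q.map (prodInl E₀ D)) ≫ e'.hom) ≫ t = Q.map s₀.toHom ≫ (resQ φ T.P).hom ≫
      (DRing.restrictD φ).map T.e.hom := by
      rw [← cancel_epi (Q.map (prodInl E₀ D)), reassoc_of% h2, hg]
      simp only [Category.assoc, IsIso.hom_inv_id_assoc, Iso.inv_hom_id_assoc]
      rw [h3]
      exact (congrArg (e'.hom ≫ ·) (Category.comp_id t)).symm
    rw [h1, Category.assoc, ← h4]
    simp [e'']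
  have hK := Mat.isKProjective E (max b c) hr
  have hiso : IsIso (((lbcAdj φ).homEquiv _ _).symm (Q.map s.toHom ≫ (resQ φ T.P).hom)) := by
    have h1 : Q.map s.toHom ≫ (resQ φ T.P).hom = (e''.hom ≫ t) ≫
        (DRing.restrictD φ).map T.e.inv := by
      have h3 : (DRing.restrictD φ).map T.e.hom ≫ (DRing.restrictD φ).map T.e.inv = 𝟙 _ := by
        rw [← Functor.map_comp, T.e.hom_inv_id, CategoryTheory.Functor.map_id]
      rw [hcomp]
      simp only [Category.assoc]
      rw [h3]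
      exact (congrArg (Q.map s.toHom ≫ ·) (Category.comp_id _)).symm
    rw [h1, Adjunction.homEquiv_naturality_right_symm, Adjunction.homEquiv_naturality_left_symm]
    infer_instance
  have hq : QuasiIso (Mat.lift φ E s (𝟙 _)) := by
    rw [isIso_lbcAdj_symm_iff] at hiso
    have h1 := Mat.hat_comp (φ := φ) E s (𝟙 _)
    rw [Category.id_comp] at h1
    rw [h1] at hiso
    have := Mat.isIso_hat (φ := φ) E
    exact (quasiIso_iff_comp_left (((cxAdj φ).homEquiv _ _).symm (Mat.u E φ).toHom) _).1 hiso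
  exact ⟨⟨E.cx, Mat.fp_cx E, Mat.bddAb_cx E _ hr, e''⟩, s, hs, Mat.bc E s hφ hs, hcomp⟩

variable {A : Type u} [CommRing A] {A' : ℕ → Type u} [∀ n, CommRing (A' n)]
  {φ : ∀ n, A' (n + 1) →+* A' n} {π : ∀ n, A →+* A' n}

/-- Honest towers. -/
theorem exists_tower (hφ : ∀ n, Function.Surjective (φ n)) [∀ n, DRing.HasLBaseChange (φ n)]
    (N : ∀ n, Dual.D (A' n)) (hN : ∀ n m, DRing.IsPseudoCoherent (A' n) m (N n))
    (t : ∀ n, N (n + 1) ⟶ (DRing.restrictD (φ n)).obj (N n))
    (ht : ∀ n, IsIso (((lbcAdj (φ n)).homEquiv _ _).symm (t n))) :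
    ∃ (T : ∀ n, Stage (A' n) (N n)) (s : ∀ n, SMap (φ n) (T (n + 1)).P (T n).P),
      Good (P := fun n => (T n).P) s ∧ ∀ n, (T (n + 1)).e.hom ≫ t n = Q.map (s n).toHom ≫
        (resQ (φ n) (T n).P).hom ≫ (DRing.restrictD (φ n)).map (T n).e.hom := by
  choose nxt s hs1 hs2 hs3 using fun n (T : Stage (A' n) (N n)) =>
    Stage.exists_next (φ n) (hφ n) (t n) (ht n) (hN (n + 1)) T
  obtain ⟨T0⟩ := exists_stage (N 0) (hN 0)
  let T : ∀ n, Stage (A' n) (N n) := fun n => Nat.rec T0 (fun n T => nxt n T) n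
  exact ⟨T, fun n => s n (T n), ⟨fun n => (T n).fp, fun n => (T n).bdd, fun n => hs1 n (T n),
    fun n => hs2 n (T n)⟩, fun n => hs3 n (T n)⟩

end Groth.Agent.Models2.RlimPC
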