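import Groth.Agent.PerfA.Milnor
import Groth.Agent.CohtopB.ProdDerived285
import Mathlib.Algebra.Category.ModuleCat.AB
import Mathlib.Algebra.Category.ModuleCat.Products
import Mathlib.Algebra.Homology.DerivedCategory.ShortExact
import Mathlib.Algebra.Homology.HomologicalComplexLimits
import Mathlib.Algebra.Homology.ShortComplex.ModuleCat

/-!
# The Milnor triangle of a tower of complexes of modules with surjective transition maps
-/

set_option autoImplicit false

universe u

open CategoryTheory CategoryTheory.Limits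

attribute [local instance] HasDerivedCategory.standard

namespace Groth.Agent.Models2.RlimPC

open DerivedCategory

variable {A : Type u} [CommRing A]

/-- Elements of a product of modules are families. -/
theorem fan_bijective {F : ℕ → ModuleCat.{u} A} (c : Fan F) (hc : IsLimit c) :
    Function.Bijective (fun (x : c.pt) (n : ℕ) => (c.proj n).hom x) := by
  let e : c.pt ≅ (ModuleCat.productCone F).pt := hc.conePointUniqueUpToIso (ModuleCat.productConeIsLimit F)
  have he : ∀ (x : c.pt) (n : ℕ), (e.hom.hom x : ∀ n, F n) n = (c.proj n).hom x := fun x n =>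
    congr(($(hc.conePointUniqueUpToIso_hom_comp (ModuleCat.productConeIsLimit F) ⟨n⟩)).hom x)
  have h1 : (fun (x : c.pt) (n : ℕ) => (c.proj n).hom x) = fun x => (e.hom.hom x : ∀ n, F n) := by
    funext x n
    exact (he x n).symm
  rw [h1]
  exact (ConcreteCategory.isIso_iff_bijective e.hom).1 inferInstance

/-- Elements of the terms of a product of complexes of modules are families. -/
theorem pi_bijective (T : ℕ → CochainComplex (ModuleCat.{u} A) ℤ) (i : ℤ) :
    Function.Bijective (fun (x : (∏ᶜ T).X i) (n : ℕ) => ((Pi.π T n).f i).hom x) := by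
  have h := isLimitOfPreserves (HomologicalComplex.eval (ModuleCat.{u} A) (ComplexShape.up ℤ) i)
    (productIsProduct T)
  have h2 := Limits.isLimitMapConeFanMkEquiv (HomologicalComplex.eval (ModuleCat.{u} A) (ComplexShape.up ℤ) i)
    _ _ h
  exact fan_bijective _ h2

theorem isMilnor_of_surjective (T : ℕ → CochainComplex (ModuleCat.{u} A) ℤ)
    (s : ∀ n, T (n + 1) ⟶ T n) (hs : ∀ n i, Function.Surjective ((s n).f i).hom)
    (L : CochainComplex (ModuleCat.{u} A) ℤ) (p : ∀ n, L ⟶ T n) (hp : ∀ n, p (n + 1) ≫ s n = p n)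
    (hinj : ∀ i (x : L.X i), (∀ n, ((p n).f i).hom x = 0) → x = 0)
    (hsurj : ∀ i (x : ∀ n, (T n).X i), (∀ n, ((s n).f i).hom (x (n + 1)) = x n) →
      ∃ y, ∀ n, ((p n).f i).hom y = x n) :
    PerfA.Milnor.IsMilnor (E := fun n => (Q.obj (T n) : DerivedCategory (ModuleCat.{u} A)))
      (fun n => Q.map (s n)) (fun n => Q.map (p n)) := by
  have hA : HasExactLimitsOfShape (Discrete ℕ) (ModuleCat.{u} A) :=
    HasExactLimitsOfShape.of_domain_equivalence (ModuleCat.{u} A)
      (Discrete.equivalence Equiv.ulift.{u} : Discrete (ULift.{u} ℕ) ≌ Discrete ℕ)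
  have w : Pi.lift p ≫ PerfA.PostTower.oneSub s = 0 := by
    apply Pi.hom_ext
    intro n
    simp [hp]
  let S : ShortComplex (CochainComplex (ModuleCat.{u} A) ℤ) := ShortComplex.mk (Pi.lift p)
    (PerfA.PostTower.oneSub s) w
  -- components
  have hf : ∀ (i : ℤ) (x : L.X i) (n : ℕ), ((Pi.π T n).f i).hom ((S.f.f i).hom x) = ((p n).f i).hom x := by
    intro i x n
    have h1 : Pi.lift p ≫ Pi.π T n = p n := Pi.lift_π _ _
    exact congr((($h1).f i).hom x)
  have hg : ∀ (i : ℤ) (y : (∏ᶜ T).X i) (n : ℕ), ((Pi.π T n).f i).hom ((S.g.f i).hom y) =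
      ((Pi.π T n).f i).hom y - ((s n).f i).hom (((Pi.π T (n + 1)).f i).hom y) := by
    intro i x n
    have h1 : PerfA.PostTower.oneSub s ≫ Pi.π T n = Pi.π T n - Pi.π T (n + 1) ≫ s n := Pi.lift_π _ _
    exact congr((($h1).f i).hom x)
  have hS : S.ShortExact := by
    refine HomologicalComplex.shortExact_of_degreewise_shortExact S fun i => ?_
    have hb := pi_bijective T i
    refine @ShortComplex.ShortExact.mk _ _ _ (S.map (HomologicalComplex.eval _ _ i)) ?_ ?_ ?_
    · rw [ShortComplex.moduleCat_exact_iff]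
      intro y hy
      change (S.g.f i).hom y = 0 at hy
      obtain ⟨x, hx⟩ := hsurj i (fun n => ((Pi.π T n).f i).hom y) (fun n => by
        have h1 := hg i y n
        rw [hy, map_zero] at h1
        exact (sub_eq_zero.1 h1.symm).symm)
      refine ⟨x, ?_⟩
      refine hb.1 (funext fun n => ?_)
      exact (hf i x n).trans (hx n)
    · rw [ModuleCat.mono_iff_injective]
      change Function.Injective (S.f.f i).hom
      rw [injective_iff_map_eq_zero]
      intro x hx
      refine hinj i x fun n => ?_
      rw [← hf, hx, map_zero]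
    · rw [ModuleCat.epi_iff_surjective]
      change Function.Surjective (S.g.f i).hom
      intro z
      choose r hr using fun n => hs n i
      let y : ∀ n, (T n).X i := fun n => Nat.rec 0 (fun n yn => r n (yn - ((Pi.π T n).f i).hom z)) n
      have hy : ∀ n, ((s n).f i).hom (y (n + 1)) = y n - ((Pi.π T n).f i).hom z := fun n => hr n _
      obtain ⟨x, hx⟩ := hb.2 y
      have hx' : ∀ n, ((Pi.π T n).f i).hom x = y n := fun n => congrFun hx n
      refine ⟨x, hb.1 (funext fun n => ?_)⟩
      change ((Pi.π T n).f i).hom ((S.g.f i).hom x) = ((Pi.π T n).f i).hom z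
      rw [hg, hx', hx', hy, sub_sub_cancel]
  have hT := triangleOfSES_distinguished hS
  have hQ : PreservesLimitsOfShape (Discrete ℕ) (Q (C := ModuleCat.{u} A)) :=
    CohtopB.ProdDerived285.preservesLimitsOfShape_Q
  let E : ℕ → DerivedCategory (ModuleCat.{u} A) := fun n => Q.obj (T n)
  have hE : HasProduct E := CohtopB.ProdDerived285.hasProduct_derivedCategory E
  let e : Q.obj (∏ᶜ T) ≅ ∏ᶜ E := PreservesProduct.iso Q T
  have he : ∀ n, e.hom ≫ Pi.π E n = Q.map (Pi.π T n) := by
    intro n
    exact piComparison_comp_π Q T n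
  have h2 : (Pi.lift fun n => Q.map (p n) : Q.obj L ⟶ ∏ᶜ E) ≫ e.inv = Q.map (Pi.lift p) := by
    rw [← cancel_mono e.hom, Category.assoc, Iso.inv_hom_id, Category.comp_id]
    apply Pi.hom_ext
    intro n
    rw [Pi.lift_π, Category.assoc, he, ← Functor.map_comp, Pi.lift_π]
  have h3 : PerfA.PostTower.oneSub (E := E) (fun n => Q.map (s n)) ≫ e.inv =
      e.inv ≫ Q.map (PerfA.PostTower.oneSub s) := by
    rw [← cancel_mono e.hom, ← cancel_epi e.hom]
    simp only [Category.assoc, Iso.inv_hom_id, Category.comp_id, Iso.hom_inv_id_assoc]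
    apply Pi.hom_ext
    intro n
    rw [Category.assoc, Pi.lift_π, Preadditive.comp_sub, he, ← Category.assoc, he, Category.assoc, he,
      ← Functor.map_comp, ← Functor.map_comp, Pi.lift_π, Functor.map_sub]
  refine ⟨hE, e.inv ≫ triangleOfSESδ hS, ?_⟩
  refine Pretriangulated.isomorphic_distinguished _ hT _ (Pretriangulated.Triangle.isoMk _ _ (Iso.refl _) e.symm e.symm ?_ ?_ ?_)
  · exact h2.trans (Category.id_comp _).symm
  · exact h3
  · exact (congrArg ((e.inv ≫ triangleOfSESδ hS) ≫ ·)
      ((shiftFunctor (DerivedCategory (ModuleCat.{u} A)) (1 : ℤ)).map_id _)).trans (Category.comp_id _)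

end Groth.Agent.Models2.RlimPC
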