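import Groth.Agent.Models2.RlimPCI
import Groth.Agent.Models2.RlimPCMilnor

/-!
# Derived limits of pseudo-coherent complexes (0CQF)
-/

set_option autoImplicit false

universe w v u v' u'

open CategoryTheory CategoryTheory.Limits

namespace Groth.Agent.Models2.RlimPC

section Lim

variable {A : Type u} [CommRing A] {A' : ℕ → Type u} [∀ n, CommRing (A' n)]
  {φ : ∀ n, A' (n + 1) →+* A' n} {π : ∀ n, A →+* A' n}
  {P : ∀ n, Cx (A' n)} (s : ∀ n, SMap (φ n) (P (n + 1)) (P n))

/-- The ambient product. -/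
abbrev Amb (π : ∀ n, A →+* A' n) (P : ∀ n, Cx (A' n)) (i : ℤ) : Type u :=
  ∀ n, (ModuleCat.restrictScalars.{u} (π n)).obj ((P n).X i)

/-- The compatible families. -/
def limSub (h : ∀ n, (φ n).comp (π (n + 1)) = π n) (i : ℤ) : Submodule A (Amb π P i) where
  carrier := {x | ∀ n, (s n).f i (x (n + 1)) = x n}
  zero_mem' := fun n => map_zero ((s n).f i)
  add_mem' := fun {x y} hx hy n => by
    have h1 : (s n).f i (x (n + 1) + y (n + 1)) = _ := map_add ((s n).f i) (x (n + 1)) (y (n + 1))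
    exact h1.trans (congrArg₂ (fun (a b : (P n).X i) => a + b) (hx n) (hy n))
  smul_mem' := fun a x hx n => by
    have h1 : (s n).f i ((π (n + 1) a) • (x (n + 1) : (P (n + 1)).X i)) =
      φ n (π (n + 1) a) • (s n).f i (x (n + 1)) := LinearMap.map_smulₛₗ ((s n).f i) _ _
    have h2 : φ n (π (n + 1) a) = π n a := congr($(h n) a)
    exact h1.trans (congrArg₂ (fun (a : A' n) (b : (P n).X i) => a • b) h2 (hx n))

/-- The differential. -/
noncomputable def limD (h : ∀ n, (φ n).comp (π (n + 1)) = π n) (i : ℤ) :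
    limSub s h i →ₗ[A] limSub s h (i + 1) where
  toFun x := ⟨fun n => dl (P n) i (x.1 n), fun n => by
    have h1 := (s n).comm i (x.1 (n + 1))
    have h2 := x.2 n
    exact h1.trans (congrArg (dl (P n) i) h2)⟩
  map_add' x y := Subtype.ext (funext fun n => map_add (dl (P n) i) (x.1 n) (y.1 n))
  map_smul' a x := Subtype.ext (funext fun n => map_smul (dl (P n) i) (π n a) (x.1 n))

/-- The limit complex. -/
noncomputable def limCx (h : ∀ n, (φ n).comp (π (n + 1)) = π n) : Cx A :=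
  CochainComplex.of (fun i => ModuleCat.of A (limSub s h i))
    (fun i => ModuleCat.ofHom (limD s h i))
    (fun i => ModuleCat.hom_ext (LinearMap.ext fun x =>
      Subtype.ext (funext fun n => dl_dl (P n) i (x.1 n))))

lemma dl_limCx (h : ∀ n, (φ n).comp (π (n + 1)) = π n) (i : ℤ) (x : limSub s h i) :
    dl (limCx s h) i x = limD s h i x :=
  congr(ModuleCat.Hom.hom $(CochainComplex.of_d (fun i => ModuleCat.of A (limSub s h i))
    (fun i => ModuleCat.ofHom (limD s h i)) i) x)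

/-- The projections. -/
noncomputable def limPr (h : ∀ n, (φ n).comp (π (n + 1)) = π n) (n : ℕ) :
    SMap (π n) (limCx s h) (P n) where
  f i :=
    { toFun := fun x : limSub s h i => x.1 n
      map_add' := fun x y => rfl
      map_smul' := fun a x => rfl }
  comm i x := by
    rw [dl_limCx]
    rfl

lemma isLim_limCx (h : ∀ n, (φ n).comp (π (n + 1)) = π n) : IsLim s (limPr s h) where
  compat n i x := (x : limSub s h i).2 n
  inj _ _ hx := Subtype.ext (funext fun n => hx n)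
  surj i x hx := ⟨(⟨x, hx⟩ : limSub s h i), fun _ => rfl⟩

end Lim

section Milnor

open Pretriangulated PerfA.PostTower PerfA.Milnor

variable {D : Type u} [Category.{v} D] [Preadditive D] [HasZeroObject D] [HasShift D ℤ]
  [∀ n : ℤ, (shiftFunctor D n).Additive] [Pretriangulated D]

/-- Transport of Milnor limits along isomorphisms of towers. -/
lemma IsMilnor.congr {E E' : ℕ → D} {τ : ∀ n, E (n + 1) ⟶ E n} {τ' : ∀ n, E' (n + 1) ⟶ E' n} {L : D}
    {π : ∀ n, L ⟶ E n} (h : IsMilnor τ π) (u : ∀ n, E n ≅ E' n)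
    (hu : ∀ n, τ n ≫ (u n).hom = (u (n + 1)).hom ≫ τ' n) :
    IsMilnor τ' (fun n => π n ≫ (u n).hom) := by
  obtain ⟨_, c, hT⟩ := h
  have h1 : HasProduct E' := hasLimit_of_iso (F := Discrete.functor E)
    (Discrete.natIso (fun n => u n.as))
  let e : ∏ᶜ E ≅ ∏ᶜ E' :=
    { hom := Pi.lift fun n => Pi.π E n ≫ (u n).hom
      inv := Pi.lift fun n => Pi.π E' n ≫ (u n).inv
      hom_inv_id := by
        apply Pi.hom_ext
        intro n
        simp
      inv_hom_id := by
        apply Pi.hom_ext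
        intro n
        simp }
  have he : ∀ n, e.hom ≫ Pi.π E' n = Pi.π E n ≫ (u n).hom := fun n => Pi.lift_π _ _
  have h2 : (Pi.lift fun n => π n ≫ (u n).hom) = Pi.lift π ≫ e.hom := by
    apply Pi.hom_ext
    intro n
    rw [Pi.lift_π, Category.assoc, he, Pi.lift_π_assoc]
  have h3 : e.hom ≫ oneSub τ' = oneSub τ ≫ e.hom := by
    apply Pi.hom_ext
    intro n
    rw [Category.assoc, Category.assoc, Pi.lift_π, he, Preadditive.comp_sub, he, ← Category.assoc, he,
      Pi.lift_π_assoc, Preadditive.sub_comp, Category.assoc, Category.assoc, hu]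
  refine ⟨h1, e.inv ≫ c, ?_⟩
  refine isomorphic_distinguished _ hT _
    (Triangle.isoMk _ _ (Iso.refl _) e.symm e.symm ?_ ?_ ?_)
  · change (Pi.lift fun n => π n ≫ (u n).hom) ≫ e.inv = 𝟙 _ ≫ Pi.lift π
    rw [h2, Category.assoc, e.hom_inv_id, Category.comp_id, Category.id_comp]
  · change oneSub τ' ≫ e.inv = e.inv ≫ oneSub τ
    rw [Iso.comp_inv_eq, Category.assoc, ← h3, e.inv_hom_id_assoc]
  · change (e.inv ≫ c) ≫ (shiftFunctor D (1 : ℤ)).map (𝟙 _) = e.inv ≫ c
    rw [CategoryTheory.Functor.map_id, Category.comp_id]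

end Milnor

section Main

open DerivedCategory LoccohB.LBC PerfA.Milnor

attribute [local instance] HasDerivedCategory.standard

variable {A B C : Type u} [CommRing A] [CommRing B] [CommRing C]

/-- Composition of restrictions of scalars on complexes. -/
noncomputable def resComp (φ : A →+* B) (ψ : B →+* C) (χ : A →+* C) (h : χ = ψ.comp φ) :
    resCx ψ ⋙ resCx φ ≅ resCx χ :=
  Functor.mapHomologicalComplexCompIso (ModuleCat.restrictScalarsComp' φ ψ χ h).symm
    (ComplexShape.up ℤ)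

lemma resComp_hom_app_apply (φ : A →+* B) (ψ : B →+* C) (χ : A →+* C) (h : χ = ψ.comp φ)
    (K : Cx C) (i : ℤ) (x : K.X i) : (((resComp φ ψ χ h).hom.app K).f i).hom x = x := rfl

lemma abs_ids {D : Type*} [Category D] {x₀ x₁ x₂ x₃ x₄ : D} (a : x₀ ⟶ x₁) (b : x₁ ⟶ x₂)
    (c : x₂ ⟶ x₃) (d : x₃ ⟶ x₄) : 𝟙 _ ≫ a ≫ 𝟙 _ ≫ b ≫ 𝟙 _ ≫ c ≫ d = a ≫ b ≫ c ≫ d := by
  simp only [Category.id_comp]

lemma abs_ids' {D : Type*} [Category D] {x₀ x₁ x₂ x₃ : D} (a : x₀ ⟶ x₁) (b : x₁ ⟶ x₂)
    (b' : x₂ ⟶ x₁) (a' : x₁ ⟶ x₀) (c : x₀ ⟶ x₃) (ha : a ≫ a' = 𝟙 _) (hb : b ≫ b' = 𝟙 _) :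
    a ≫ b ≫ b' ≫ a' ≫ c = c := by
  rw [reassoc_of% hb, reassoc_of% ha]

lemma restrictDComp_Q (φ : A →+* B) (ψ : B →+* C) (χ : A →+* C) (h : χ = ψ.comp φ) (K : Cx C) :
    (resQ φ ((resCx ψ).obj K)).hom ≫ (DRing.restrictD φ).map (resQ ψ K).hom ≫
      (restrictDComp φ ψ χ h).hom.app (Q.obj K) =
    Q.map ((resComp φ ψ χ h).hom.app K) ≫ (resQ χ K).hom := by
  have h1 : (restrictDComp φ ψ χ h).hom.app (Q.obj K) =
      (DRing.restrictD φ).map (resQ ψ K).inv ≫ (resQ φ ((resCx ψ).obj K)).inv ≫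
        Q.map ((resComp φ ψ χ h).hom.app K) ≫ (resQ χ K).hom := by
    refine (natIsoOfQ_hom_app _ K).trans ?_
    simp only [Iso.trans_hom, NatTrans.comp_app, Iso.symm_hom, Functor.associator_inv_app,
      Functor.associator_hom_app, Functor.isoWhiskerRight_hom, Functor.whiskerRight_app,
      Functor.isoWhiskerLeft_hom, Functor.whiskerLeft_app]
    exact abs_ids _ _ _ _
  have h2 : (DRing.restrictD φ).map (resQ ψ K).hom ≫ (DRing.restrictD φ).map (resQ ψ K).inv =
      𝟙 _ := by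
    rw [← Functor.map_comp, Iso.hom_inv_id, CategoryTheory.Functor.map_id]
  rw [h1]
  exact abs_ids' _ _ _ _ _ (Iso.hom_inv_id _) h2

variable {A' : ℕ → Type u} [∀ n, CommRing (A' n)]
  {φ : ∀ n, A' (n + 1) →+* A' n} {π : ∀ n, A →+* A' n}

/-- The transition maps of the tower of restrictions. -/
noncomputable def rtr (h : ∀ n, (φ n).comp (π (n + 1)) = π n) (N : ∀ n, Dual.D (A' n))
    (t : ∀ n, N (n + 1) ⟶ (DRing.restrictD (φ n)).obj (N n)) (n : ℕ) :
    (DRing.restrictD (π (n + 1))).obj (N (n + 1)) ⟶ (DRing.restrictD (π n)).obj (N n) :=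
  (DRing.restrictD (π (n + 1))).map (t n) ≫
    (restrictDComp (π (n + 1)) (φ n) (π n) (h n).symm).hom.app (N n)

/-- The honest transition maps. -/
noncomputable def htr (h : ∀ n, (φ n).comp (π (n + 1)) = π n) {P : ∀ n, Cx (A' n)}
    (s : ∀ n, SMap (φ n) (P (n + 1)) (P n)) (n : ℕ) :
    (resCx (π (n + 1))).obj (P (n + 1)) ⟶ (resCx (π n)).obj (P n) :=
  (resCx (π (n + 1))).map (s n).toHom ≫
    (resComp (π (n + 1)) (φ n) (π n) (h n).symm).hom.app (P n)

lemma htr_apply (h : ∀ n, (φ n).comp (π (n + 1)) = π n) {P : ∀ n, Cx (A' n)}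
    (s : ∀ n, SMap (φ n) (P (n + 1)) (P n)) (n : ℕ) (i : ℤ) (x : (P (n + 1)).X i) :
    ((htr h s n).f i).hom x = (s n).f i x := rfl

/-- Comparison of the honest tower with the given one. -/
lemma htr_rtr (h : ∀ n, (φ n).comp (π (n + 1)) = π n) (N : ∀ n, Dual.D (A' n))
    (t : ∀ n, N (n + 1) ⟶ (DRing.restrictD (φ n)).obj (N n)) (T : ∀ n, Stage (A' n) (N n))
    (s : ∀ n, SMap (φ n) (T (n + 1)).P (T n).P) (n : ℕ)
    (hs : (T (n + 1)).e.hom ≫ t n = Q.map (s n).toHom ≫
        (resQ (φ n) (T n).P).hom ≫ (DRing.restrictD (φ n)).map (T n).e.hom) :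
    Q.map (htr h (P := fun n => (T n).P) s n) ≫ (resQ (π n) (T n).P).hom ≫ (DRing.restrictD (π n)).map (T n).e.hom =
      ((resQ (π (n + 1)) (T (n + 1)).P).hom ≫ (DRing.restrictD (π (n + 1))).map (T (n + 1)).e.hom) ≫
        rtr h N t n := by
  have h1 := restrictDComp_Q (π (n + 1)) (φ n) (π n) (h n).symm (T n).P
  have h2 := (restrictDComp (π (n + 1)) (φ n) (π n) (h n).symm).hom.naturality (T n).e.hom
  have h3 := resQ_naturality (π (n + 1)) (s n).toHom
  have h4 := congrArg (fun x => (DRing.restrictD (π (n + 1))).map x) hs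
  simp only [Functor.map_comp] at h4
  unfold rtr htr
  rw [Functor.map_comp, Category.assoc, ← reassoc_of% h1, Category.assoc, reassoc_of% h4,
    ← reassoc_of% h3]
  simp only [Functor.comp_map] at h2
  rw [h2]

/-- Derived limits of pseudo-coherent complexes (0CQF). -/
theorem main (hlim : FlatCA.IsRingLimit A A' φ π) (hφ : ∀ n, Function.Surjective (φ n))
    (hnil : ∀ n, ∀ x ∈ RingHom.ker (φ n), IsNilpotent x)
    [∀ n, DRing.HasLBaseChange (φ n)] [∀ n, DRing.HasLBaseChange (π n)]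
    (N : ∀ n, Dual.D (A' n)) (hN : ∀ n m, DRing.IsPseudoCoherent (A' n) m (N n))
    (t : ∀ n, N (n + 1) ⟶ (DRing.restrictD (φ n)).obj (N n))
    (ht : ∀ n, IsIso (((lbcAdj (φ n)).homEquiv _ _).symm (t n)))
    (L : Dual.D A) (p : ∀ n, L ⟶ (DRing.restrictD (π n)).obj (N n))
    (hM : IsMilnor (E := fun n => (DRing.restrictD (π n)).obj (N n)) (rtr hlim.1 N t) p) :
    (∀ m, DRing.IsPseudoCoherent A m L) ∧
      ∀ n, IsIso (((lbcAdj (π n)).homEquiv _ _).symm (p n)) := by
  obtain ⟨T, s, hg, hs⟩ := exists_tower hφ N hN t ht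
  have hL := isLim_limCx (P := fun n => (T n).P) s hlim.1
  have hM0 : IsMilnor (E := fun n => (Q.obj ((resCx (π n)).obj (T n).P) : Dual.D A))
      (fun n => Q.map (htr hlim.1 (P := fun n => (T n).P) s n))
      (fun n => Q.map (limPr (P := fun n => (T n).P) s hlim.1 n).toHom) :=
    isMilnor_of_surjective (fun n => (resCx (π n)).obj (T n).P)
      (htr hlim.1 (P := fun n => (T n).P) s)
      (fun n i => hg.surj n i) (limCx (P := fun n => (T n).P) s hlim.1)
      (fun n => (limPr (P := fun n => (T n).P) s hlim.1 n).toHom)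
      (fun n => by
        ext i x
        exact hL.compat n i x)
      (fun i x hx => hL.inj i x hx) (fun i x hx => hL.surj i x hx)
  let u : ∀ n, (Q.obj ((resCx (π n)).obj (T n).P) : Dual.D A) ≅ (DRing.restrictD (π n)).obj (N n) :=
    fun n => resQ (π n) (T n).P ≪≫ (DRing.restrictD (π n)).mapIso (T n).e
  have hM1 := IsMilnor.congr hM0 (E' := fun n => (DRing.restrictD (π n)).obj (N n)) u
    (τ' := rtr hlim.1 N t) (fun n => htr_rtr hlim.1 N t T s n (hs n))
  obtain ⟨e, he⟩ := hM1.exists_iso hM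
  constructor
  · intro m
    exact CalgB.PsCohGen.PC.of_iso (P := CalgB.PsCoh.ffree A) e
      (isPseudoCoherent_lim hlim hφ hnil hg hL m)
  · intro n
    have h1 := isIso_adj hlim hφ hnil hg hL n
    have h2 : ((lbcAdj (π n)).homEquiv _ _).symm (e.hom ≫ p n) =
        ((lbcAdj (π n)).homEquiv _ _).symm (Q.map (limPr (P := fun n => (T n).P) s hlim.1 n).toHom ≫
          (resQ (π n) (T n).P).hom) ≫ (T n).e.hom := by
      rw [he, ← Adjunction.homEquiv_naturality_right_symm]
      simp [u]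
    have h3 : IsIso (((lbcAdj (π n)).homEquiv _ _).symm (e.hom ≫ p n)) := by
      rw [h2]
      infer_instance
    rw [Adjunction.homEquiv_naturality_left_symm] at h3
    exact (isIso_comp_left_iff ((DRing.LBaseChange (π n)).map e.hom) _).1 h3

end Main

end Groth.Agent.Models2.RlimPC
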