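import Mathlib.LinearAlgebra.Matrix.Adjugate
import Mathlib.RingTheory.Ideal.Quotient.Basic
import Mathlib.RingTheory.Ideal.Span

/-!
# Elementary form of the theorem of Tate on `(f) : (g) = (f, det C)` for `f = C g`
-/

namespace Groth.Agent.Models2.TateElem

open Ideal

variable {R : Type*} [CommRing R]

/-- The mixed ideal `𝔞 + (f_j, j < i) + (g_j, i < j)`. -/
def mixed {n : ℕ} (𝔞 : Ideal R) (f g : Fin n → R) (i : Fin n) : Ideal R :=
  𝔞 ⊔ span (f '' {j | j < i}) ⊔ span (g '' {j | i < j})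

theorem mixed_castSucc {n : ℕ} (𝔞 : Ideal R) (f g : Fin (n + 1) → R) (i : Fin n) :
    mixed (𝔞 ⊔ span {g (Fin.last n)}) (f ∘ Fin.castSucc) (g ∘ Fin.castSucc) i =
      mixed 𝔞 f g i.castSucc := by
  apply le_antisymm
  · refine sup_le (sup_le (sup_le ?_ ?_) ?_) ?_
    · exact le_sup_of_le_left le_sup_left
    · refine le_sup_of_le_right (span_mono ?_)
      rintro _ rfl
      exact ⟨Fin.last n, Fin.castSucc_lt_last i, rfl⟩
    · refine le_sup_of_le_left (le_sup_of_le_right (span_mono ?_))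
      rintro _ ⟨j, hj, rfl⟩
      exact ⟨j.castSucc, Fin.castSucc_lt_castSucc_iff.2 hj, rfl⟩
    · refine le_sup_of_le_right (span_mono ?_)
      rintro _ ⟨j, hj, rfl⟩
      exact ⟨j.castSucc, Fin.castSucc_lt_castSucc_iff.2 hj, rfl⟩
  · refine sup_le (sup_le ?_ ?_) ?_
    · exact le_sup_of_le_left (le_sup_of_le_left le_sup_left)
    · refine le_sup_of_le_left (le_sup_of_le_right (span_mono ?_))
      rintro _ ⟨j, hj, rfl⟩
      induction j using Fin.lastCases with
      | last => exact absurd hj (not_lt.2 (Fin.castSucc_lt_last i).le)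
      | cast j => exact ⟨j, Fin.castSucc_lt_castSucc_iff.1 hj, rfl⟩
    · rw [span_le]
      rintro _ ⟨j, hj, rfl⟩
      induction j using Fin.lastCases with
      | last =>
        exact Ideal.mem_sup_left (Ideal.mem_sup_left (Ideal.mem_sup_right (subset_span rfl)))
      | cast j =>
        exact Ideal.mem_sup_right
          (subset_span ⟨j, Fin.castSucc_lt_castSucc_iff.1 hj, rfl⟩)

theorem mixed_last {n : ℕ} (𝔞 : Ideal R) (f g : Fin (n + 1) → R) :
    mixed 𝔞 f g (Fin.last n) = 𝔞 ⊔ span (Set.range (f ∘ Fin.castSucc)) := by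
  have h1 : {j : Fin (n + 1) | Fin.last n < j} = ∅ := by
    ext j
    simp [Fin.le_last]
  have h2 : f '' {j | j < Fin.last n} = Set.range (f ∘ Fin.castSucc) := by
    ext y
    constructor
    · rintro ⟨j, hj, rfl⟩
      exact ⟨j.castPred hj.ne, by simp⟩
    · rintro ⟨j, rfl⟩
      exact ⟨j.castSucc, Fin.castSucc_lt_last j, rfl⟩
  rw [mixed, h1, h2, Set.image_empty, span_empty, sup_bot_eq]

theorem range_succ {n : ℕ} (𝔞 : Ideal R) (f : Fin (n + 1) → R) :
    𝔞 ⊔ span (Set.range f) = 𝔞 ⊔ span (Set.range (f ∘ Fin.castSucc)) ⊔ span {f (Fin.last n)} := by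
  rw [sup_assoc, ← span_union]
  congr 2
  ext y
  constructor
  · rintro ⟨j, rfl⟩
    induction j using Fin.lastCases with
    | last => exact Or.inr rfl
    | cast j => exact Or.inl ⟨j, rfl⟩
  · rintro (⟨j, rfl⟩ | rfl)
    · exact ⟨_, rfl⟩
    · exact ⟨_, rfl⟩

/-- Cramer's rule: `Δ' f_n ≡ Δ g_n`. -/
theorem cramer {n : ℕ} (𝔞 : Ideal R) (f g : Fin (n + 1) → R)
    (C : Matrix (Fin (n + 1)) (Fin (n + 1)) R) (hC : ∀ i, f i - ∑ j, C i j * g j ∈ 𝔞) :
    (C.submatrix Fin.castSucc Fin.castSucc).det * f (Fin.last n) - C.det * g (Fin.last n) ∈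
      𝔞 ⊔ span (Set.range (f ∘ Fin.castSucc)) := by
  have hadj : C.adjugate (Fin.last n) (Fin.last n) =
      (C.submatrix Fin.castSucc Fin.castSucc).det := by
    rw [Matrix.adjugate_fin_succ_eq_det_submatrix]
    have : (-1 : R) ^ ((Fin.last n : ℕ) + (Fin.last n : ℕ)) = 1 := by
      rw [← two_mul, pow_mul]
      simp
    rw [this, one_mul]
    congr 2 <;> · ext; simp
  have h1 : ∑ i, C.adjugate (Fin.last n) i * (∑ j, C i j * g j) = C.det * g (Fin.last n) := by
    have h2 : (C.adjugate.mulVec (C.mulVec g)) (Fin.last n) = C.det * g (Fin.last n) := by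
      rw [Matrix.mulVec_mulVec, Matrix.adjugate_mul, Matrix.smul_mulVec, Matrix.one_mulVec]
      rfl
    exact h2
  have h3 : ∑ i, C.adjugate (Fin.last n) i * f i - C.det * g (Fin.last n) ∈ 𝔞 := by
    rw [← h1, ← Finset.sum_sub_distrib]
    refine sum_mem fun i _ => ?_
    rw [← mul_sub]
    exact 𝔞.mul_mem_left _ (hC i)
  rw [Fin.sum_univ_castSucc, hadj] at h3
  have h4 : ∑ i : Fin n, C.adjugate (Fin.last n) i.castSucc * f i.castSucc ∈
      span (Set.range (f ∘ Fin.castSucc)) :=
    sum_mem fun i _ => mul_mem_left _ _ (subset_span ⟨i, rfl⟩)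
  have h5 : (C.submatrix Fin.castSucc Fin.castSucc).det * f (Fin.last n) -
      C.det * g (Fin.last n) =
      (∑ i : Fin n, C.adjugate (Fin.last n) i.castSucc * f i.castSucc +
        (C.submatrix Fin.castSucc Fin.castSucc).det * f (Fin.last n) - C.det * g (Fin.last n)) -
      ∑ i : Fin n, C.adjugate (Fin.last n) i.castSucc * f i.castSucc := by ring
  rw [h5]
  exact sub_mem (Ideal.mem_sup_left h3) (Ideal.mem_sup_right h4)

theorem elem (n : ℕ) : ∀ (𝔞 : Ideal R) (f g : Fin n → R) (C : Matrix (Fin n) (Fin n) R)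
    (_ : ∀ i, f i - ∑ j, C i j * g j ∈ 𝔞)
    (_ : ∀ i, ∀ y, f i * y ∈ mixed 𝔞 f g i → y ∈ mixed 𝔞 f g i)
    (_ : ∀ i, ∀ y, g i * y ∈ mixed 𝔞 f g i → y ∈ mixed 𝔞 f g i)
    (x : R) (_ : ∀ j, x * g j ∈ 𝔞 ⊔ span (Set.range f)),
    x ∈ 𝔞 ⊔ span (Set.range f) ⊔ span {C.det} := by
  induction n with
  | zero =>
    intro 𝔞 f g C _ _ _ x _
    rw [Matrix.det_fin_zero, span_singleton_one]
    simp
  | succ n ih =>
    intro 𝔞 f g C hC hf hg x hx
    have ih' := ih (𝔞 ⊔ span {g (Fin.last n)}) (f ∘ Fin.castSucc) (g ∘ Fin.castSucc)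
      (C.submatrix Fin.castSucc Fin.castSucc) ?_ ?_ ?_
    rotate_left
    · intro i
      have h1 := hC i.castSucc
      rw [Fin.sum_univ_castSucc] at h1
      have h2 : (f ∘ Fin.castSucc) i - ∑ j, (C.submatrix Fin.castSucc Fin.castSucc) i j *
          (g ∘ Fin.castSucc) j = (f i.castSucc - (∑ j : Fin n, C i.castSucc j.castSucc *
            g j.castSucc + C i.castSucc (Fin.last n) * g (Fin.last n))) +
            C i.castSucc (Fin.last n) * g (Fin.last n) := by
        simp only [Function.comp_apply, Matrix.submatrix_apply]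
        ring
      rw [h2]
      exact add_mem (Ideal.mem_sup_left h1)
        (Ideal.mem_sup_right (mul_mem_left _ _ (subset_span rfl)))
    · intro i y hy
      rw [mixed_castSucc] at hy ⊢
      exact hf _ y hy
    · intro i y hy
      rw [mixed_castSucc] at hy ⊢
      exact hg _ y hy
    have hfn := hf (Fin.last n)
    have hgn := hg (Fin.last n)
    rw [mixed_last] at hfn hgn
    have hcr := cramer 𝔞 f g C hC
    rw [range_succ] at hx ⊢
    rw [sup_right_comm] at ih'
    set 𝔠 := 𝔞 ⊔ span (Set.range (f ∘ Fin.castSucc)) with h𝔠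
    -- x g_j = z_j f_n mod 𝔠
    have hz : ∀ j, ∃ z, x * g j - z * f (Fin.last n) ∈ 𝔠 := by
      intro j
      obtain ⟨a, ha, b, hb, hab⟩ := Submodule.mem_sup.1 (hx j)
      obtain ⟨z, rfl⟩ := mem_span_singleton'.1 hb
      exact ⟨z, by rw [← hab, add_sub_cancel_right]; exact ha⟩
    choose z hz using hz
    have hy : ∀ j, z (Fin.last n) * g j - z j * g (Fin.last n) ∈ 𝔠 := by
      intro j
      apply hfn
      have : f (Fin.last n) * (z (Fin.last n) * g j - z j * g (Fin.last n)) =
          (x * g j - z j * f (Fin.last n)) * g (Fin.last n) -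
          (x * g (Fin.last n) - z (Fin.last n) * f (Fin.last n)) * g j := by ring
      rw [this]
      exact sub_mem (𝔠.mul_mem_right _ (hz j)) (𝔠.mul_mem_right _ (hz _))
    have hy2 := ih' (z (Fin.last n)) (fun j => by
      have h1 := hy j.castSucc
      have h2 : z (Fin.last n) * (g ∘ Fin.castSucc) j =
        (z (Fin.last n) * g j.castSucc - z j.castSucc * g (Fin.last n)) +
          z j.castSucc * g (Fin.last n) := by simp
      rw [h2]
      exact add_mem (Ideal.mem_sup_left h1)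
        (Ideal.mem_sup_right (mul_mem_left _ _ (subset_span rfl))))
    obtain ⟨a, ha, b, hb, hab⟩ := Submodule.mem_sup.1 hy2
    obtain ⟨a', ha', b', hb', hab'⟩ := Submodule.mem_sup.1 ha
    obtain ⟨s, rfl⟩ := mem_span_singleton'.1 hb
    obtain ⟨t, rfl⟩ := mem_span_singleton'.1 hb'
    -- z_n = a' + t g_n + s Δ'
    have hfin : x - t * f (Fin.last n) - s * C.det ∈ 𝔠 := by
      apply hgn
      have : g (Fin.last n) * (x - t * f (Fin.last n) - s * C.det) =
        (x * g (Fin.last n) - z (Fin.last n) * f (Fin.last n)) + a' * f (Fin.last n) +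
        s * ((C.submatrix Fin.castSucc Fin.castSucc).det * f (Fin.last n) -
          C.det * g (Fin.last n)) := by
        rw [← hab, ← hab']
        ring
      rw [this]
      exact add_mem (add_mem (hz _) (𝔠.mul_mem_right _ ha')) (𝔠.mul_mem_left _ hcr)
    have : x = (x - t * f (Fin.last n) - s * C.det) + t * f (Fin.last n) + s * C.det := by ring
    rw [this]
    exact add_mem (Ideal.mem_sup_left (add_mem (Ideal.mem_sup_left hfin)
      (Ideal.mem_sup_right (mul_mem_left _ _ (subset_span rfl)))))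
      (Ideal.mem_sup_right (mul_mem_left _ _ (subset_span rfl)))

end Groth.Agent.Models2.TateElem
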