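import Mathlib.Algebra.MvPolynomial.Equiv
import Mathlib.Algebra.MvPolynomial.Rename
import Mathlib.RingTheory.Polynomial.Basic
import Mathlib.RingTheory.Polynomial.Quotient
import Mathlib.Algebra.Polynomial.AlgebraMap
import Mathlib.RingTheory.Ideal.Quotient.Operations

/-!
# McCoy's theorem modulo an ideal, for generic linear combinations
-/

namespace Groth.Agent.Models2.TateGeneric

open Ideal

/-- McCoy's theorem modulo an ideal. -/
theorem mccoy {Q : Type*} [CommRing Q] (J : Ideal Q) (p : Polynomial Q)
    (h : ∀ y, (∀ j, p.coeff j * y ∈ J) → y ∈ J) (y : Polynomial Q)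
    (hy : p * y ∈ J.map Polynomial.C) : y ∈ J.map Polynomial.C := by
  have hker : RingHom.ker (Polynomial.mapRingHom (Ideal.Quotient.mk J)) =
      J.map Polynomial.C := by
    rw [Polynomial.ker_mapRingHom, Ideal.mk_ker]
  rw [← hker, RingHom.mem_ker] at hy ⊢
  rw [map_mul] at hy
  have hp : Polynomial.mapRingHom (Ideal.Quotient.mk J) p ∈
      nonZeroDivisors (Polynomial (Q ⧸ J)) := by
    by_contra hcon
    obtain ⟨a, ha0, ha⟩ := Polynomial.notMem_nonZeroDivisors_iff.1 hcon
    obtain ⟨a, rfl⟩ := Ideal.Quotient.mk_surjective a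
    apply ha0
    rw [Ideal.Quotient.eq_zero_iff_mem]
    apply h
    intro j
    have h1 := congrArg (fun q => Polynomial.coeff q j) ha
    simp only [Polynomial.coeff_smul, Polynomial.coe_mapRingHom, Polynomial.coeff_map,
      smul_eq_mul, Polynomial.coeff_zero] at h1
    rw [← map_mul, Ideal.Quotient.eq_zero_iff_mem] at h1
    rwa [mul_comm]
  exact (mul_left_mem_nonZeroDivisors_eq_zero_iff hp).1 hy

/-- Transport of McCoy's theorem through an isomorphism `S ≃ Q[X]`. -/
theorem mccoy_equiv {Q S : Type*} [CommRing Q] [CommRing S] (ι : Q →+* S)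
    (e : S ≃+* Polynomial Q) (he : ∀ q, e (ι q) = Polynomial.C q) (J' : Ideal Q) (p : S)
    (h : ∀ y : S, (∀ m, ι ((e p).coeff m) * y ∈ J'.map ι) → y ∈ J'.map ι) (y : S)
    (hy : p * y ∈ J'.map ι) : y ∈ J'.map ι := by
  have hcomp : (e : S →+* Polynomial Q).comp ι = Polynomial.C := RingHom.ext he
  have key : ∀ z : S, z ∈ J'.map ι ↔ e z ∈ J'.map Polynomial.C := by
    intro z
    rw [← hcomp, ← Ideal.map_map]
    constructor
    · intro hz
      exact Ideal.mem_map_of_mem _ hz
    · intro hz
      obtain ⟨w, hw, hwz⟩ := (Ideal.mem_map_iff_of_surjective _ e.surjective).1 hz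
      have hw' : w = z := e.injective hwz
      exact hw' ▸ hw
  have key2 : ∀ q : Q, ι q ∈ J'.map ι → q ∈ J' := by
    intro q hq
    rw [key, he, Ideal.mem_map_C_iff] at hq
    simpa using hq 0
  rw [key] at hy ⊢
  rw [map_mul] at hy
  refine mccoy J' (e p) (fun q hq => key2 q (h (ι q) fun m => ?_)) (e y) hy
  rw [← map_mul]
  exact Ideal.mem_map_of_mem _ (hq m)

section

variable {R : Type*} [CommRing R] {σ : Type*} [DecidableEq σ]

open MvPolynomial

/-- The isomorphism singling out the variable `k`. -/
noncomputable def single (k : σ) :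
    MvPolynomial σ R ≃ₐ[R] Polynomial (MvPolynomial {a // a ≠ k} R) :=
  (renameEquiv R (Equiv.optionSubtypeNe k).symm).trans (optionEquivLeft R {a // a ≠ k})

theorem single_rename (k : σ) (q : MvPolynomial {a // a ≠ k} R) :
    single k (rename Subtype.val q) = Polynomial.C q := by
  have : ((single k).toAlgHom.comp (rename Subtype.val)).toRingHom =
      (Polynomial.C : MvPolynomial {a // a ≠ k} R →+* _) := by
    apply MvPolynomial.ringHom_ext
    · intro r
      simp [single]
    · intro a
      simp [single, Equiv.optionSubtypeNe_symm_of_ne a.2]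
  exact congr($this q)

theorem single_X (k : σ) : single (R := R) k (X k) = Polynomial.X := by
  simp [single]

theorem single_C (k : σ) (r : R) : single k (C r) = Polynomial.C (C r) := by
  simp [single]

/-- A generic combination `∑_{j ∈ s} a_j X_k^{d_j}` is a nonzerodivisor modulo `J`. -/
theorem nzd_generic (k : σ) {ι : Type*} (a : ι → R) (d : ι → ℕ) (s : Finset ι)
    (hd : Set.InjOn d s) (T : Set (MvPolynomial σ R))
    (hT : T ⊆ Set.range (rename (R := R) (Subtype.val : {a // a ≠ k} → σ)))
    (h : ∀ y, (∀ j ∈ s, C (a j) * y ∈ span T) → y ∈ span T) (y : MvPolynomial σ R)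
    (hy : (∑ j ∈ s, C (a j) * X k ^ d j) * y ∈ span T) : y ∈ span T := by
  have hJ : span T = (span ((rename (R := R) (Subtype.val : {a // a ≠ k} → σ)) ⁻¹' T)).map
      (rename (R := R) (Subtype.val : {a // a ≠ k} → σ)).toRingHom := by
    rw [Ideal.map_span]
    congr 1
    exact (Set.image_preimage_eq_of_subset hT).symm
  rw [hJ] at hy ⊢
  refine mccoy_equiv _ (single k).toRingEquiv (single_rename k) _ _ (fun z hz => ?_) y hy
  rw [← hJ] at hz ⊢
  refine h z fun j hj => ?_
  have h1 := hz (d j)
  have h2 : ((single k).toRingEquiv (∑ j ∈ s, C (a j) * X k ^ d j)).coeff (d j) = C (a j) := by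
    change (single k (∑ j ∈ s, C (a j) * X k ^ d j)).coeff (d j) = C (a j)
    rw [map_sum, Polynomial.finsetSum_coeff, Finset.sum_eq_single j]
    · rw [map_mul, map_pow, single_X, single_C, Polynomial.coeff_C_mul_X_pow, if_pos rfl]
    · intro i hi hij
      rw [map_mul, map_pow, single_X, single_C, Polynomial.coeff_C_mul_X_pow, if_neg]
      exact fun hne => hij (hd hi hj hne.symm)
    · intro hj'
      exact absurd hj hj'
  rw [h2] at h1
  simpa using h1

end

end Groth.Agent.Models2.TateGeneric
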