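import Groth.Agent.Models2.KoszulTop
import Groth.Agent.Models2.TateElem
import Groth.Agent.Models2.TateGeneric
import Mathlib.RingTheory.Flat.Basic
import Mathlib.RingTheory.Flat.Stability
import Mathlib.LinearAlgebra.Matrix.Block

/-!
# Tate: if `f = C g` with `f` Koszul-regular then `(f) : (g) = (f, det C)`.
-/

universe u v

namespace Groth.Agent.Models2.Tate

open Ideal MvPolynomial

section Mat

variable {R : Type v} [CommRing R] {n : ℕ}

/-- index set of variables -/
abbrev Sg (n : ℕ) := Fin n ⊕ Fin n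

/-- upper unitriangular generic matrix -/
noncomputable def V (R : Type v) [CommRing R] (n : ℕ) :
    Matrix (Fin n) (Fin n) (MvPolynomial (Sg n) R) :=
  Matrix.of fun i j => if i ≤ j then X (Sum.inl i) ^ ((j : ℕ) - (i : ℕ)) else 0

/-- lower unitriangular generic matrix -/
noncomputable def W (R : Type v) [CommRing R] (n : ℕ) :
    Matrix (Fin n) (Fin n) (MvPolynomial (Sg n) R) :=
  Matrix.of fun i j => if j ≤ i then X (Sum.inr i) ^ ((i : ℕ) - (j : ℕ)) else 0

theorem det_V : (V R n).det = 1 := by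
  rw [Matrix.det_of_isUpperTriangular]
  · apply Finset.prod_eq_one
    intro i _
    simp [V]
  · intro i j hij
    simp only [V, Matrix.of_apply]
    exact if_neg (not_le.2 hij)

theorem det_W : (W R n).det = 1 := by
  rw [Matrix.det_of_isLowerTriangular]
  · apply Finset.prod_eq_one
    intro i _
    simp [W]
  · intro i j hij
    simp only [W, Matrix.of_apply]
    exact if_neg (not_le.2 hij)

/-- the generic combinations of the `f_j` -/
noncomputable def F (f : Fin n → R) : Fin n → MvPolynomial (Sg n) R :=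
  (V R n).mulVec fun j => C (f j)

/-- the generic combinations of the `g_j` -/
noncomputable def G (g : Fin n → R) : Fin n → MvPolynomial (Sg n) R :=
  (W R n).mulVec fun j => C (g j)

theorem F_eq (f : Fin n → R) (i : Fin n) :
    F f i = ∑ j ∈ Finset.univ.filter (i ≤ ·), C (f j) * X (Sum.inl i) ^ ((j : ℕ) - (i : ℕ)) := by
  rw [F, Matrix.mulVec, dotProduct, Finset.sum_filter]
  refine Finset.sum_congr rfl fun j _ => ?_
  simp only [V, Matrix.of_apply]
  split_ifs <;> ring

theorem G_eq (g : Fin n → R) (i : Fin n) :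
    G g i = ∑ j ∈ Finset.univ.filter (· ≤ i), C (g j) * X (Sum.inr i) ^ ((i : ℕ) - (j : ℕ)) := by
  rw [G, Matrix.mulVec, dotProduct, Finset.sum_filter]
  refine Finset.sum_congr rfl fun j _ => ?_
  simp only [W, Matrix.of_apply]
  split_ifs <;> ring

/-- generators of the mixed ideal -/
def gens (f g : Fin n → R) (p q : ℕ) : Set (MvPolynomial (Sg n) R) :=
  (F f '' {i | (i : ℕ) < p}) ∪ (G g '' {i | q ≤ (i : ℕ)})

theorem rename_F (f : Fin n → R) (i : Fin n) (k : Sg n) (hk : Sum.inl i ≠ k) :
    F f i ∈ Set.range (rename (R := R) (Subtype.val : {a // a ≠ k} → Sg n)) := by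
  refine ⟨∑ j ∈ Finset.univ.filter (i ≤ ·), C (f j) * X ⟨Sum.inl i, hk⟩ ^ ((j : ℕ) - (i : ℕ)), ?_⟩
  rw [F_eq]
  simp

theorem rename_G (g : Fin n → R) (i : Fin n) (k : Sg n) (hk : Sum.inr i ≠ k) :
    G g i ∈ Set.range (rename (R := R) (Subtype.val : {a // a ≠ k} → Sg n)) := by
  refine ⟨∑ j ∈ Finset.univ.filter (· ≤ i), C (g j) * X ⟨Sum.inr i, hk⟩ ^ ((i : ℕ) - (j : ℕ)), ?_⟩
  rw [G_eq]
  simp

theorem gens_subset_inl (f g : Fin n → R) (p q : ℕ) (i : Fin n) (hi : p ≤ i) :
    gens f g p q ⊆ Set.range (rename (R := R) (Subtype.val : {a // a ≠ Sum.inl i} → Sg n)) := by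
  rintro _ (⟨j, hj, rfl⟩ | ⟨j, hj, rfl⟩)
  · apply rename_F
    intro h
    have : j = i := Sum.inl_injective h
    subst this
    exact absurd hj (not_lt.2 hi)
  · exact rename_G _ _ _ (by simp)

theorem gens_subset_inr (f g : Fin n → R) (p q : ℕ) (i : Fin n) (hi : (i : ℕ) < q) :
    gens f g p q ⊆ Set.range (rename (R := R) (Subtype.val : {a // a ≠ Sum.inr i} → Sg n)) := by
  rintro _ (⟨j, hj, rfl⟩ | ⟨j, hj, rfl⟩)
  · exact rename_F _ _ _ (by simp)
  · apply rename_G
    intro h
    have : j = i := Sum.inr_injective h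
    subst this
    exact absurd hj (not_le.2 hi)

/-- if `f_j y ∈ J` for `j ≥ p` then `f_j y ∈ J` for all `j`. -/
theorem mul_mem_of_ge (f g : Fin n → R) (p q : ℕ) (y : MvPolynomial (Sg n) R)
    (h : ∀ j : Fin n, p ≤ j → C (f j) * y ∈ span (gens f g p q)) (j : Fin n) :
    C (f j) * y ∈ span (gens f g p q) := by
  suffices ∀ t : ℕ, ∀ j : Fin n, n - (j : ℕ) ≤ t → C (f j) * y ∈ span (gens f g p q) from
    this (n - j) j le_rfl
  intro t
  induction t with
  | zero => intro j hj; exact absurd j.2 (by omega)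
  | succ t ih =>
    intro j hj
    by_cases hjp : p ≤ j
    · exact h j hjp
    · have h1 : F f j * y ∈ span (gens f g p q) :=
        Ideal.mul_mem_right _ _ (subset_span (Or.inl ⟨j, not_le.1 hjp, rfl⟩))
      have h2 : F f j = C (f j) + ∑ i ∈ (Finset.univ.filter (j ≤ ·)).erase j,
          C (f i) * X (Sum.inl j) ^ ((i : ℕ) - (j : ℕ)) := by
        rw [F_eq, ← Finset.add_sum_erase _ _ (show j ∈ Finset.univ.filter (j ≤ ·) by simp)]
        simp
      have h3 : C (f j) * y = F f j * y - ∑ i ∈ (Finset.univ.filter (j ≤ ·)).erase j,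
          X (Sum.inl j) ^ ((i : ℕ) - (j : ℕ)) * (C (f i) * y) := by
        rw [h2, add_mul, Finset.sum_mul]
        rw [add_sub_assoc, ← Finset.sum_sub_distrib]
        simp only [left_eq_add]
        apply Finset.sum_eq_zero
        intro i _
        ring
      rw [h3]
      refine sub_mem h1 (sum_mem fun i hi => Ideal.mul_mem_left _ _ (ih i ?_))
      simp only [Finset.mem_erase, Finset.mem_filter, Finset.mem_univ, true_and] at hi
      have : j < i := lt_of_le_of_ne hi.2 (Ne.symm hi.1)
      have : (j : ℕ) < i := this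
      omega

theorem mul_mem_of_lt (f g : Fin n → R) (p q : ℕ) (y : MvPolynomial (Sg n) R)
    (h : ∀ j : Fin n, (j : ℕ) < q → C (g j) * y ∈ span (gens f g p q)) (j : Fin n) :
    C (g j) * y ∈ span (gens f g p q) := by
  suffices ∀ t : ℕ, ∀ j : Fin n, (j : ℕ) < t → C (g j) * y ∈ span (gens f g p q) from
    this (j + 1) j (Nat.lt_succ_self _)
  intro t
  induction t with
  | zero => intro j hj; exact absurd hj (Nat.not_lt_zero _)
  | succ t ih =>
    intro j hj
    by_cases hjq : (j : ℕ) < q
    · exact h j hjq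
    · have h1 : G g j * y ∈ span (gens f g p q) :=
        Ideal.mul_mem_right _ _ (subset_span (Or.inr ⟨j, not_lt.1 hjq, rfl⟩))
      have h2 : G g j = C (g j) + ∑ i ∈ (Finset.univ.filter (· ≤ j)).erase j,
          C (g i) * X (Sum.inr j) ^ ((j : ℕ) - (i : ℕ)) := by
        rw [G_eq, ← Finset.add_sum_erase _ _ (show j ∈ Finset.univ.filter (· ≤ j) by simp)]
        simp
      have h3 : C (g j) * y = G g j * y - ∑ i ∈ (Finset.univ.filter (· ≤ j)).erase j,
          X (Sum.inr j) ^ ((j : ℕ) - (i : ℕ)) * (C (g i) * y) := by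
        rw [h2, add_mul, Finset.sum_mul]
        rw [add_sub_assoc, ← Finset.sum_sub_distrib]
        simp only [left_eq_add]
        apply Finset.sum_eq_zero
        intro i _
        ring
      rw [h3]
      refine sub_mem h1 (sum_mem fun i hi => Ideal.mul_mem_left _ _ (ih i ?_))
      simp only [Finset.mem_erase, Finset.mem_filter, Finset.mem_univ, true_and] at hi
      have : i < j := lt_of_le_of_ne hi.2 hi.1
      have : (i : ℕ) < j := this
      omega

variable (f g : Fin n → R)

theorem gens_zero_zero : gens f g 0 (n - 0) = ∅ := by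
  ext y
  simp only [gens, Set.mem_union, Set.mem_image, Set.mem_ofPred_eq, Set.mem_empty_iff_false,
    iff_false, not_or, not_exists, not_and]
  exact ⟨fun i hi => absurd hi (Nat.not_lt_zero _), fun i hi => absurd i.2 (by omega)⟩

theorem span_gens_succ_left (p q : ℕ) (hp : p < n) :
    span (gens f g (p + 1) q) = span (gens f g p q) ⊔ span {F f ⟨p, hp⟩} := by
  rw [← span_union]
  congr 1
  ext y
  simp only [gens, Set.mem_union, Set.mem_image, Set.mem_ofPred_eq, Set.mem_singleton_iff]
  constructor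
  · rintro (⟨i, hi, rfl⟩ | ⟨i, hi, rfl⟩)
    · rcases Nat.lt_succ_iff_lt_or_eq.1 hi with h | h
      · exact Or.inl (Or.inl ⟨i, h, rfl⟩)
      · right
        congr 1
        exact Fin.ext h
    · exact Or.inl (Or.inr ⟨i, hi, rfl⟩)
  · rintro ((⟨i, hi, rfl⟩ | ⟨i, hi, rfl⟩) | rfl)
    · exact Or.inl ⟨i, by omega, rfl⟩
    · exact Or.inr ⟨i, hi, rfl⟩
    · exact Or.inl ⟨⟨p, hp⟩, by simp, rfl⟩

theorem span_gens_succ_right (p t : ℕ) (ht : t < n) :
    span (gens f g p (n - (t + 1))) =
      span (gens f g p (n - t)) ⊔ span {G g ⟨n - t - 1, by omega⟩} := by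
  rw [← span_union]
  congr 1
  ext y
  simp only [gens, Set.mem_union, Set.mem_image, Set.mem_ofPred_eq, Set.mem_singleton_iff]
  constructor
  · rintro (⟨i, hi, rfl⟩ | ⟨i, hi, rfl⟩)
    · exact Or.inl (Or.inl ⟨i, hi, rfl⟩)
    · by_cases h : n - t ≤ i
      · exact Or.inl (Or.inr ⟨i, h, rfl⟩)
      · right
        congr 1
        exact Fin.ext (by simp only; omega)
  · rintro ((⟨i, hi, rfl⟩ | ⟨i, hi, rfl⟩) | rfl)
    · exact Or.inl ⟨i, by omega, rfl⟩
    · exact Or.inr ⟨i, by omega, rfl⟩
    · exact Or.inr ⟨⟨n - t - 1, by omega⟩, by simp only; omega, rfl⟩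

theorem mixed_eq (i : Fin n) :
    TateElem.mixed ⊥ (F f) (G g) i = span (gens f g i (n - (n - i - 1))) := by
  rw [TateElem.mixed, bot_sup_eq, gens, span_union]
  congr 3
  ext j
  simp only [Set.mem_ofPred_eq, Fin.lt_def]
  omega

end Mat

section Main

variable {P : Type u} [CommRing P] {R : Type v} [CommRing R] [Algebra P R] {n : ℕ}

open KoszulTop

/-- adding a nonzerodivisor -/
theorem gr_step {S : Type v} [CommRing S] [Algebra P S] {l : List P} {k : ℕ} {J : Ideal S}
    (h : Gr l k (S ⧸ J)) (a : S) (ha : ∀ y, a * y ∈ J → y ∈ J) :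
    Gr l (k + 1) (S ⧸ (J ⊔ span {a})) := by
  refine gr_succ_of_exact (M₁ := S ⧸ J) (M₂ := S ⧸ J)
    (LinearMap.mulLeft P (Ideal.Quotient.mk J a))
    (Ideal.Quotient.factorₐ P (show J ≤ J ⊔ span {a} from le_sup_left)).toLinearMap
    ?_ ?_ ?_ h h
  · refine (injective_iff_map_eq_zero _).2 fun z hz => ?_
    obtain ⟨y, rfl⟩ := Ideal.Quotient.mk_surjective z
    rw [LinearMap.mulLeft_apply, ← map_mul, Ideal.Quotient.eq_zero_iff_mem] at hz
    rw [Ideal.Quotient.eq_zero_iff_mem]
    exact ha y hz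
  · exact Ideal.Quotient.factor_surjective (show J ≤ J ⊔ span {a} from le_sup_left)
  · intro z
    obtain ⟨y, rfl⟩ := Ideal.Quotient.mk_surjective z
    constructor
    · intro hz
      have h1 : Ideal.Quotient.mk (J ⊔ span {a}) y = 0 := hz
      rw [Ideal.Quotient.eq_zero_iff_mem] at h1
      obtain ⟨b, hb, c, hc, hbc⟩ := Submodule.mem_sup.1 h1
      obtain ⟨t, rfl⟩ := mem_span_singleton'.1 hc
      refine ⟨Ideal.Quotient.mk J t, ?_⟩
      rw [LinearMap.mulLeft_apply, ← map_mul, ← hbc, map_add,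
        Ideal.Quotient.eq_zero_iff_mem.2 hb, zero_add, mul_comm]
    · rintro ⟨t, ht⟩
      obtain ⟨t, rfl⟩ := Ideal.Quotient.mk_surjective t
      rw [← ht, LinearMap.mulLeft_apply, ← map_mul]
      change Ideal.Quotient.mk (J ⊔ span {a}) (a * t) = 0
      rw [Ideal.Quotient.eq_zero_iff_mem]
      exact Ideal.mem_sup_right (Ideal.mul_mem_right _ _ (subset_span rfl))

theorem mem_of_gr {S : Type v} [CommRing S] [Algebra P S] {l : List P} {k : ℕ} {J : Ideal S}
    (h : Gr l k (S ⧸ J)) (hk : k < l.length) (y : S)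
    (hy : ∀ a ∈ l, algebraMap P S a * y ∈ J) : y ∈ J := by
  rw [← Ideal.Quotient.eq_zero_iff_mem]
  apply eq_zero_of_gr hk h
  intro a ha
  have := hy a ha
  rw [← Ideal.Quotient.eq_zero_iff_mem] at this
  rw [← this, ← Algebra.smul_def]
  rfl

section

variable {l : List P} (f g : Fin n → R) (C' : Matrix (Fin n) (Fin n) R)
  (hfg : ∀ i, f i = ∑ j, C' i j * g j)
  (hl : ∀ a ∈ l, algebraMap P R a ∈ span (Set.range f)) (hn : n ≤ l.length)

include hl in
theorem mul_mem_of_f (J : Ideal (MvPolynomial (Sg n) R)) (y : MvPolynomial (Sg n) R)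
    (h : ∀ j, C (f j) * y ∈ J) : ∀ a ∈ l, algebraMap P (MvPolynomial (Sg n) R) a * y ∈ J := by
  intro a ha
  have h1 := hl a ha
  have h2 : ∀ z ∈ span (Set.range f), C z * y ∈ J := by
    intro z hz
    induction hz using Submodule.span_induction with
    | mem x hx => obtain ⟨j, rfl⟩ := hx; exact h j
    | zero => simp
    | add x y _ _ hx hy => rw [map_add, add_mul]; exact add_mem hx hy
    | smul c x _ hx => rw [smul_eq_mul, map_mul, mul_assoc]; exact J.mul_mem_left _ hx
  exact h2 _ h1

include hl hn in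
theorem F_nzd (p t : ℕ) (hpt : p + t < n)
    (h : Gr l (p + t) (MvPolynomial (Sg n) R ⧸ span (gens f g p (n - t)))) (y)
    (hy : F f ⟨p, by omega⟩ * y ∈ span (gens f g p (n - t))) :
    y ∈ span (gens f g p (n - t)) := by
  rw [F_eq] at hy
  refine TateGeneric.nzd_generic (Sum.inl (⟨p, by omega⟩ : Fin n)) f
    (fun j : Fin n => (j : ℕ) - p) _ ?_ _ (gens_subset_inl f g p (n - t) ⟨p, by omega⟩ le_rfl)
    (fun z hz => ?_) y hy
  · intro i hi j hj hij
    simp only [Finset.coe_filter, Finset.mem_univ, true_and, Set.mem_ofPred_eq,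
      Fin.le_def] at hi hj hij
    exact Fin.ext (by omega)
  · refine mem_of_gr h (by omega) z (mul_mem_of_f f hl _ z (mul_mem_of_ge f g p (n - t) z ?_))
    intro j hj
    exact hz j (by simp only [Finset.mem_filter, Finset.mem_univ, true_and, Fin.le_def]; exact hj)

include hfg hl hn in
theorem G_nzd (p t : ℕ) (hpt : p + t < n)
    (h : Gr l (p + t) (MvPolynomial (Sg n) R ⧸ span (gens f g p (n - t)))) (y)
    (hy : G g ⟨n - t - 1, by omega⟩ * y ∈ span (gens f g p (n - t))) :
    y ∈ span (gens f g p (n - t)) := by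
  rw [G_eq] at hy
  refine TateGeneric.nzd_generic (Sum.inr (⟨n - t - 1, by omega⟩ : Fin n)) g
    (fun j : Fin n => (n - t - 1) - (j : ℕ)) _ ?_ _
    (gens_subset_inr f g p (n - t) ⟨n - t - 1, by omega⟩ (by simp; omega))
    (fun z hz => ?_) y hy
  · intro i hi j hj hij
    simp only [Finset.coe_filter, Finset.mem_univ, true_and, Set.mem_ofPred_eq,
      Fin.le_def] at hi hj hij
    exact Fin.ext (by omega)
  · refine mem_of_gr h (by omega) z (mul_mem_of_f f hl _ z fun i => ?_)
    rw [hfg, map_sum, Finset.sum_mul]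
    refine sum_mem fun j _ => ?_
    rw [map_mul, mul_assoc]
    refine Ideal.mul_mem_left _ _ (mul_mem_of_lt f g p (n - t) z (fun j hj => ?_) j)
    exact hz j (by simp only [Finset.mem_filter, Finset.mem_univ, true_and, Fin.le_def]; omega)

include hfg hl hn in
theorem gr_gens (h0 : Gr l 0 (MvPolynomial (Sg n) R ⧸ (⊥ : Ideal (MvPolynomial (Sg n) R))))
    (p t : ℕ) (hpt : p + t < n) :
    Gr l (p + t) (MvPolynomial (Sg n) R ⧸ span (gens f g p (n - t))) := by
  induction p with
  | zero =>
    induction t with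
    | zero =>
      rw [gens_zero_zero, span_empty]
      exact h0
    | succ t ih =>
      have h1 := ih (by omega)
      rw [span_gens_succ_right f g 0 t (by omega)]
      exact gr_step h1 _ (G_nzd f g C' hfg hl hn 0 t (by omega) h1)
  | succ p ih =>
    have h1 := ih (by omega)
    rw [span_gens_succ_left f g p _ (by omega), add_right_comm]
    exact gr_step h1 _ (F_nzd f g hl hn p t (by omega) h1)

end

/-- **Tate's theorem.** -/
theorem tate {l : List P} (hreg : LCI.IsKoszulRegularSeq P l) [Module.Flat P R]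
    (f g : Fin n → R) (C' : Matrix (Fin n) (Fin n) R)
    (hfg : ∀ i, f i = ∑ j, C' i j * g j)
    (hl : ∀ a ∈ l, algebraMap P R a ∈ span (Set.range f)) (hn : n ≤ l.length)
    (x : R) (hx : ∀ j, x * g j ∈ span (Set.range f)) :
    x ∈ span (Set.range f) ⊔ span {C'.det} := by
  have h0 : Gr l 0 (MvPolynomial (Sg n) R ⧸ (⊥ : Ideal (MvPolynomial (Sg n) R))) := by
    have : Module.Flat P (MvPolynomial (Sg n) R) := Module.Flat.trans P R _
    have : Module.Flat P (MvPolynomial (Sg n) R ⧸ (⊥ : Ideal (MvPolynomial (Sg n) R))) :=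
      Module.Flat.of_linearEquiv
        (AlgEquiv.quotientBot P (MvPolynomial (Sg n) R)).toLinearEquiv
    exact gr_zero_of_flat hreg _
  -- the generic relation matrix
  let D : Matrix (Fin n) (Fin n) (MvPolynomial (Sg n) R) :=
    V R n * C'.map C * (W R n).adjugate
  have hD : D.det = C C'.det := by
    rw [Matrix.det_mul, Matrix.det_mul, det_V, Matrix.det_adjugate, det_W, one_pow, mul_one,
      one_mul]
    exact (RingHom.map_det (C : R →+* MvPolynomial (Sg n) R) C').symm
  have hrel : ∀ i, F f i - ∑ j, D i j * G g j ∈ (⊥ : Ideal (MvPolynomial (Sg n) R)) := by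
    intro i
    rw [Submodule.mem_bot, sub_eq_zero]
    have h1 : (W R n).adjugate.mulVec (G g) = fun j => C (g j) := by
      rw [G, Matrix.mulVec_mulVec, Matrix.adjugate_mul, det_W, one_smul, Matrix.one_mulVec]
    have h2 : (C'.map C).mulVec (fun j => C (g j)) =
        fun i => (C (f i) : MvPolynomial (Sg n) R) := by
      ext1 i
      rw [hfg i, map_sum]
      simp [Matrix.mulVec, dotProduct]
    have h3 : D.mulVec (G g) = F f := by
      rw [← Matrix.mulVec_mulVec, h1, ← Matrix.mulVec_mulVec, h2, F]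
    exact (congrFun h3 i).symm
  have hfF : ∀ z ∈ span (Set.range f), (C z : MvPolynomial (Sg n) R) ∈ span (Set.range (F f)) := by
    intro z hz
    have h1 : (V R n).adjugate.mulVec (F f) = fun j => C (f j) := by
      rw [F, Matrix.mulVec_mulVec, Matrix.adjugate_mul, det_V, one_smul, Matrix.one_mulVec]
    induction hz using Submodule.span_induction with
    | mem x hx =>
      obtain ⟨j, rfl⟩ := hx
      have h6 : (C (f j) : MvPolynomial (Sg n) R) = (V R n).adjugate.mulVec (F f) j :=
        (congrFun h1 j).symm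
      rw [h6, Matrix.mulVec, dotProduct]
      exact sum_mem fun i _ => Ideal.mul_mem_left _ _ (subset_span ⟨i, rfl⟩)
    | zero => simp
    | add x y _ _ hx hy => rw [map_add]; exact add_mem hx hy
    | smul c x _ hx => rw [smul_eq_mul, map_mul]; exact Ideal.mul_mem_left _ _ hx
  have hconc := TateElem.elem n ⊥ (F f) (G g) D hrel
    (fun i y hy => by
      rw [mixed_eq] at hy ⊢
      exact F_nzd f g hl hn i (n - i - 1) (by omega)
        (gr_gens f g C' hfg hl hn h0 _ _ (by omega)) y hy)
    (fun i y hy => by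
      rw [mixed_eq] at hy ⊢
      have hi : i = ⟨n - (n - i - 1) - 1, by omega⟩ := Fin.ext (by simp only; omega)
      refine G_nzd f g C' hfg hl hn i (n - i - 1) (by omega)
        (gr_gens f g C' hfg hl hn h0 _ _ (by omega)) y ?_
      rw [← hi]
      exact hy)
    (C x) (fun j => by
      rw [bot_sup_eq, G, Matrix.mulVec, dotProduct, Finset.mul_sum]
      refine sum_mem fun i _ => ?_
      rw [mul_left_comm, ← map_mul]
      exact Ideal.mul_mem_left _ _ (hfF _ (hx i)))
  rw [bot_sup_eq, hD] at hconc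
  have hle : span (Set.range (F f)) ⊔ span {C C'.det} ≤
      (span (Set.range f) ⊔ span {C'.det}).map (C : R →+* MvPolynomial (Sg n) R) := by
    rw [Ideal.map_sup]
    refine sup_le_sup ?_ ?_
    · rw [span_le]
      rintro _ ⟨i, rfl⟩
      rw [F, Matrix.mulVec, dotProduct]
      exact sum_mem fun j _ => Ideal.mul_mem_left _ _
        (Ideal.mem_map_of_mem _ (subset_span ⟨j, rfl⟩))
    · rw [Ideal.map_span, Set.image_singleton]
  have h5 := hle hconc
  rw [MvPolynomial.mem_map_C_iff] at h5
  simpa using h5 0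

end Main

end Groth.Agent.Models2.Tate
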