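import Mathlib.LinearAlgebra.Matrix.Adjugate
import Mathlib.LinearAlgebra.TensorProduct.RightExactness
import Mathlib.RingTheory.TensorProduct.Maps
import Mathlib.RingTheory.Ideal.Quotient.Operations

/-!
# The annihilator of the diagonal ideal from Tate's theorem
-/

universe u

open TensorProduct

namespace Groth.Agent.Models2.TateAnn

section

variable {A P B : Type u} [CommRing A] [CommRing P] [CommRing B] [Algebra A P] [Algebra A B]

/-- The kernel of `P ⊗ B → (P ⧸ I) ⊗ B`. -/
theorem ker_map (I : Ideal P) :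
    RingHom.ker (Algebra.TensorProduct.map (Ideal.Quotient.mkₐ A I) (AlgHom.id A B)) =
      I.map (algebraMap P (P ⊗[A] B)) := by
  have h := Algebra.TensorProduct.rTensor_ker (R := A) (S := A) (C := B) (Ideal.Quotient.mkₐ A I)
    (Ideal.Quotient.mkₐ_surjective A I)
  have h2 : RingHom.ker (Ideal.Quotient.mkₐ A I) = I := Ideal.Quotient.mkₐ_ker A I
  rw [h2] at h
  exact h

end

theorem annihilator_eq {A P : Type u} [CommRing A] [CommRing P] [Algebra A P]
    {n : ℕ} (f : Fin n → P) (I : Ideal P) (hI : I = Ideal.span (Set.range f))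
    (g : Fin n → P ⊗[A] (P ⧸ I))
    (hgker : Ideal.span (Set.range g) = RingHom.ker (Algebra.TensorProduct.productMap
      (Ideal.Quotient.mkₐ A I) (AlgHom.id A (P ⧸ I))))
    (c : Matrix (Fin n) (Fin n) (P ⊗[A] (P ⧸ I)))
    (hc : ∀ i, f i ⊗ₜ[A] (1 : P ⧸ I) = ∑ j, c i j * g j)
    (htate : ∀ y, (∀ j, y * g j ∈ Ideal.span (Set.range fun i => f i ⊗ₜ[A] (1 : P ⧸ I))) →
      y ∈ Ideal.span (Set.range fun i => f i ⊗ₜ[A] (1 : P ⧸ I)) ⊔ Ideal.span {c.det}) :
    Submodule.annihilator (RingHom.ker (Algebra.TensorProduct.lmul' (S := P ⧸ I) A)) =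
      Ideal.span {Algebra.TensorProduct.map (Ideal.Quotient.mkₐ A I)
        (AlgHom.id A (P ⧸ I)) (Matrix.det c)} := by
  let π := Algebra.TensorProduct.map (Ideal.Quotient.mkₐ A I) (AlgHom.id A (P ⧸ I))
  have hπsurj : Function.Surjective π :=
    TensorProduct.map_surjective (Ideal.Quotient.mkₐ_surjective A I) Function.surjective_id
  have hker : RingHom.ker π = Ideal.span (Set.range fun i => f i ⊗ₜ[A] (1 : P ⧸ I)) := by
    have h1 := congrArg (Ideal.map (algebraMap P (P ⊗[A] (P ⧸ I)))) hI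
    rw [show RingHom.ker π = _ from ker_map I, h1, Ideal.map_span, ← Set.range_comp]
    rfl
  have hcomp : ∀ z, Algebra.TensorProduct.lmul' (S := P ⧸ I) A (π z) =
      Algebra.TensorProduct.productMap (Ideal.Quotient.mkₐ A I) (AlgHom.id A (P ⧸ I)) z := by
    intro z
    have : (Algebra.TensorProduct.lmul' (S := P ⧸ I) A).comp π =
        Algebra.TensorProduct.productMap (Ideal.Quotient.mkₐ A I) (AlgHom.id A (P ⧸ I)) := by
      ext <;> simp [π]
    exact congr($this z)
  have hkg : ∀ j, π (g j) ∈ RingHom.ker (Algebra.TensorProduct.lmul' (S := P ⧸ I) A) := by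
    intro j
    rw [RingHom.mem_ker, hcomp]
    have : g j ∈ Ideal.span (Set.range g) := Ideal.subset_span ⟨j, rfl⟩
    rw [hgker] at this
    exact this
  apply le_antisymm
  · intro x hx
    obtain ⟨y, rfl⟩ := hπsurj x
    have hy : ∀ j, y * g j ∈ Ideal.span (Set.range fun i => f i ⊗ₜ[A] (1 : P ⧸ I)) := by
      intro j
      rw [← hker, RingHom.mem_ker, map_mul]
      exact Submodule.mem_annihilator.1 hx _ (hkg j)
    obtain ⟨a, ha, b, hb, rfl⟩ := Submodule.mem_sup.1 (htate y hy)
    obtain ⟨t, rfl⟩ := Ideal.mem_span_singleton'.1 hb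
    rw [← hker, RingHom.mem_ker] at ha
    rw [map_add, ha, zero_add, map_mul]
    exact Ideal.mul_mem_left _ _ (Ideal.subset_span rfl)
  · rw [Ideal.span_singleton_le_iff_mem, Submodule.mem_annihilator]
    intro z hz
    obtain ⟨w, rfl⟩ := hπsurj z
    rw [RingHom.mem_ker, hcomp, ← RingHom.mem_ker, ← hgker] at hz
    change π (c.det) * π w = 0
    rw [← map_mul, ← RingHom.mem_ker, hker]
    have h2 : ∀ j, c.det * g j ∈ Ideal.span (Set.range fun i => f i ⊗ₜ[A] (1 : P ⧸ I)) := by
      intro j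
      have h3 : (c.adjugate.mulVec (c.mulVec g)) j = c.det * g j := by
        rw [Matrix.mulVec_mulVec, Matrix.adjugate_mul, Matrix.smul_mulVec, Matrix.one_mulVec]
        rfl
      rw [← h3, Matrix.mulVec, dotProduct]
      refine sum_mem fun i _ => Ideal.mul_mem_left _ _ ?_
      have h4 : c.mulVec g i = f i ⊗ₜ[A] (1 : P ⧸ I) := by
        rw [hc]; rfl
      rw [h4]
      exact Ideal.subset_span ⟨i, rfl⟩
    induction hz using Submodule.span_induction with
    | mem x hx => obtain ⟨j, rfl⟩ := hx; exact h2 j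
    | zero => simp
    | add x y _ _ hx hy => rw [mul_add]; exact add_mem hx hy
    | smul d x _ hx => rw [smul_eq_mul, mul_left_comm]; exact Ideal.mul_mem_left _ _ hx

end Groth.Agent.Models2.TateAnn
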