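import Groth.Agent.Models2.Tate
import Groth.Agent.Flat2H.RegularLCI
import Mathlib.RingTheory.Flat.Localization
import Mathlib.RingTheory.Regular.RegularSequence
import Mathlib.RingTheory.LocalProperties.Basic

/-!
# Tate's theorem when `f` is regular at the primes of `V(f)`
-/

universe u

namespace Groth.Agent.Models2.TateLocal

open RingTheory.Sequence Ideal

variable {P R : Type u} [CommRing P] [CommRing R] [Algebra P R] {n : ℕ}

theorem tate_local [Module.Flat P R] (f : Fin n → P)
    (hreg : ∀ (p : Ideal P) [p.IsPrime], span (Set.range f) ≤ p →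
      IsWeaklyRegular (Localization.AtPrime p) (List.ofFn f))
    (g : Fin n → R) (C : Matrix (Fin n) (Fin n) R)
    (hC : ∀ i, algebraMap P R (f i) = ∑ j, C i j * g j)
    (y : R) (hy : ∀ j, y * g j ∈ span (Set.range fun i => algebraMap P R (f i))) :
    y ∈ span (Set.range fun i => algebraMap P R (f i)) ⊔ span {C.det} := by
  apply Ideal.mem_of_localization_maximal
  intro m hm
  let Rm := Localization.AtPrime m
  by_cases hle : span (Set.range fun i => algebraMap P R (f i)) ≤ m
  · let p := m.comap (algebraMap P R)
    let Pp := Localization.AtPrime p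
    have hfp : span (Set.range f) ≤ p := by
      rw [span_le]
      rintro _ ⟨i, rfl⟩
      exact hle (subset_span ⟨i, rfl⟩)
    let _ : Algebra Pp Rm := (Localization.localRingHom p m (algebraMap P R) rfl).toAlgebra
    have htower : IsScalarTower P Pp Rm := by
      apply IsScalarTower.of_algebraMap_eq
      intro x
      rw [RingHom.algebraMap_toAlgebra, Localization.localRingHom_to_map]
      rfl
    have hflat : Module.Flat Pp Rm := by
      rw [Module.flat_iff_of_isLocalization (R := P) Pp p.primeCompl]
      have : Module.Flat R Rm := IsLocalization.flat Rm m.primeCompl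
      exact Module.Flat.trans P R Rm
    have hk : LCI.IsKoszulRegularSeq Pp ((List.ofFn f).map (algebraMap P Pp)) := by
      apply Groth.Agent.Flat2H.RegularLCI.isKoszulRegularSeq_of_isWeaklyRegular
      rw [isWeaklyRegular_map_algebraMap_iff]
      exact hreg p hfp
    have h1 := Tate.tate (P := Pp) (R := Rm) hk (fun i => algebraMap R Rm (algebraMap P R (f i)))
      (fun j => algebraMap R Rm (g j)) (C.map (algebraMap R Rm)) (fun i => by
        rw [hC, map_sum]
        simp) (by
        intro a ha
        rw [List.mem_map] at ha
        obtain ⟨b, hb, rfl⟩ := ha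
        rw [List.mem_ofFn'] at hb
        obtain ⟨i, rfl⟩ := hb
        rw [← IsScalarTower.algebraMap_apply, IsScalarTower.algebraMap_apply P R Rm]
        exact subset_span ⟨i, rfl⟩) (by simp) (algebraMap R Rm y) (fun j => by
        rw [← map_mul]
        have h2 := Ideal.mem_map_of_mem (algebraMap R Rm) (hy j)
        rw [Ideal.map_span, ← Set.range_comp] at h2
        exact h2)
    rw [Ideal.map_sup, Ideal.map_span, Ideal.map_span, ← Set.range_comp, Set.image_singleton]
    have h3 : (C.map (algebraMap R Rm)).det = algebraMap R Rm C.det :=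
      ((algebraMap R Rm).map_det C).symm
    rw [h3] at h1
    exact h1
  · obtain ⟨x, hx, hxm⟩ := SetLike.not_le_iff_exists.1 hle
    have h1 : (span (Set.range fun i => algebraMap P R (f i)) ⊔ span {C.det}).map
        (algebraMap R Rm) = ⊤ := by
      apply Ideal.eq_top_of_isUnit_mem _ (Ideal.mem_map_of_mem _ (Ideal.mem_sup_left hx))
      exact IsLocalization.map_units Rm (⟨x, hxm⟩ : m.primeCompl)
    rw [h1]
    exact Submodule.mem_top

end Groth.Agent.Models2.TateLocal
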