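import Groth.Agent.PerfA.TensDev
import Groth.Agent.PerfA.Restrict
import Groth.Agent.PerfC.ExtZero2
import Groth.Agent.PerfC.IsoLocus
import Groth.Agent.Dcoh.TensRestr
import Groth.Agent.Dcoh.TensSymm

/-!
# K-flat complexes: symmetry, restriction to opens; `- ⊗ᴸ K` is triangulated and restricts to opens
-/

set_option autoImplicit false
universe u
open CategoryTheory CategoryTheory.Limits AlgebraicGeometry Pretriangulated
attribute [local instance] HasDerivedCategory.standard

namespace Groth.Agent.Models2.TensRes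

open Groth.Agent.PerfA Groth.Agent.PerfA.TensDev Groth.Agent.PerfA.Restrict Groth.Agent.PerfC
  Groth.Agent.PerfC.IsoLocus Groth.Agent.PerfC.DBif Groth.Agent.PerfC.DInd Groth.Agent.Dcoh
  Groth.Agent.Dcoh.KFlatAbs Groth.Agent.Dcoh.KFlatFlip Groth.Agent.Dcoh.CxFun

variable {X Y : Scheme.{u}}

/-- K-flat complexes are K-flat in both variables. -/
lemma kf₂_of_isKFlat {E : CochainComplex X.Modules ℤ} (h : DCoh.IsKFlat E) : KF₂ E :=
  ⟨h, (TensSymm.isKFlat_iff_kfl_flip E).1 h⟩

/-- Termwise restriction of complexes along an open immersion. -/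
noncomputable abbrev resCx (j : Y ⟶ X) [IsOpenImmersion j] :
    CochainComplex X.Modules ℤ ⥤ CochainComplex Y.Modules ℤ :=
  (Scheme.Modules.restrictFunctor j).mapHomologicalComplex (ComplexShape.up ℤ)

/-- Restrictions of K-flat complexes are K-flat. -/
theorem isKFlat_resCx (j : Y ⟶ X) [IsOpenImmersion j] {E : CochainComplex X.Modules ℤ}
    (h : DCoh.IsKFlat E) : DCoh.IsKFlat ((resCx j).obj E) := by
  rw [KFlatMod.isKFlat_iff_kfl] at h ⊢
  intro L hL
  let L' : CochainComplex X.Modules ℤ :=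
    ((ExtZero.jShriek j).mapHomologicalComplex (ComplexShape.up ℤ)).obj L
  have hL' : L'.Acyclic := KFlatSingle.acyclic_map_of_preservesHomology _ L hL
  have h1 : ((DCoh.tensorCx.obj L').obj E).Acyclic := h L' hL'
  have h2 : ((resCx j).obj ((DCoh.tensorCx.obj L').obj E)).Acyclic :=
    KFlatSingle.acyclic_map_of_preservesHomology _ _ h1
  obtain ⟨e⟩ := TensRestr.nonempty_restrCx j L' E
  have e' : L ≅ (resCx j).obj L' := by
    let e0 := (Functor.mapHomologicalComplexIdIso Y.Modules (ComplexShape.up ℤ)).symm.app L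
    exact e0 ≪≫ (NatIso.mapHomologicalComplex (ExtZero.unitIso j) (ComplexShape.up ℤ)).app L ≪≫
      ((Functor.mapHomologicalComplexCompIso (Iso.refl _) (ComplexShape.up ℤ)).symm.app L)
  exact KFlatSingle.acyclic_of_iso (e ≪≫ ((DCoh.tensorCx.mapIso e').symm.app _)) h2

/-- `- ⊗ E` preserves quasi-isomorphisms for `E` K-flat. -/
lemma presQis_flip {E : CochainComplex X.Modules ℤ} (h : DCoh.IsKFlat E) :
    PresQis ((DCoh.tensorCx (X := X)).flip.obj E) where
  quasiIso_map f hf := by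
    have := hf
    exact KFlat.quasiIso_tensor h f

/-- `- ⊗ᴸ K` is triangulated. -/
theorem isTriang_LTensorCx (K : CochainComplex X.Modules ℤ) [DCoh.HasLTensorCx K] :
    IsTriang (DCoh.LTensorCx K) := by
  have : HasLT (DCoh.tensorCx (X := X)) := bifData.hasLT
  refine (isTriang_LTf_obj bifData (fun E => ?_) (DerivedCategory.Q.obj K)).of_iso
    (LTflip bifData K)
  obtain ⟨E', w, h1, -, -, hw, -⟩ := exists_resolution₂ E
  exact ⟨E', w, presQis_flip h1, hw⟩

/-- The derived tensor product restricts to opens. -/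
theorem nonempty_restrict_LTensorCx (j : Y ⟶ X) [IsOpenImmersion j]
    (K : CochainComplex X.Modules ℤ) [DCoh.HasLTensorCx K] [DCoh.HasLTensorCx ((resCx j).obj K)]
    (P : DCoh.D X) : Nonempty ((restrictD j).obj ((DCoh.LTensorCx K).obj P) ≅
      (DCoh.LTensorCx ((resCx j).obj K)).obj ((restrictD j).obj P)) := by
  obtain ⟨L, hL, ⟨e⟩⟩ := TensDev.exists_rep P
  obtain ⟨e1⟩ := nonempty_isoQ K hL
  obtain ⟨e2⟩ := nonempty_isoQ ((resCx j).obj K) (kf₂_of_isKFlat (isKFlat_resCx j hL.1))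
  obtain ⟨e3⟩ := TensRestr.nonempty_restrCx j L K
  exact ⟨(restrictD j).mapIso ((DCoh.LTensorCx K).mapIso e.symm ≪≫ e1) ≪≫ restrictDQ j _ ≪≫
    DerivedCategory.Q.mapIso e3 ≪≫ e2.symm ≪≫
    (DCoh.LTensorCx ((resCx j).obj K)).mapIso ((restrictDQ j L).symm ≪≫ (restrictD j).mapIso e)⟩

/-- `- ⊗ᴸ K` always exists. -/
theorem hasLTensorCx (K : CochainComplex X.Modules ℤ) : DCoh.HasLTensorCx K :=
  bifData.hasLeftDerivedFunctor K

end Groth.Agent.Models2.TensRes
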