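import Groth.Agent.Dcoh.LTMod
import Groth.Agent.Dcoh.TensRestr
import Groth.Agent.S0952
import Groth.Agent.Dcoh.LocalD
import Groth.Agent.Dcoh.StalkT
import Groth.Agent.Dcoh.Spread
import Groth.Agent.PerfA.QCohExt
import Groth.Agent.PerfB.ResolQC
import Groth.Agent.PerfC.Supp
import Groth.Agent.Models2.PerfQCoh

/-!
# `E ⊗^L G` for `E` perfect and `G` a single module

* `restrictIso`: `(E ⊗^L G)|_U ≅ E|_U ⊗^L G|_U`.
* `support_LTensorMod`: the cohomology sheaves of `E ⊗^L G` are supported in the support of `G`.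
* `exists_bounds`: `E ⊗^L G` is bounded if `E` is perfect and `X` is quasi-compact.
* `isCohD_LTensorMod`: `E ⊗^L G` has coherent cohomology if `E` is perfect, `G` coherent and `X` locally
  Noetherian.
-/

set_option autoImplicit false
universe u
open CategoryTheory CategoryTheory.Limits AlgebraicGeometry Pretriangulated MonoidalCategory
attribute [local instance] HasDerivedCategory.standard

namespace Groth.Agent.Models2.TensLocal

open Groth.Agent.Dcoh

variable {X U : Scheme.{u}}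

/-- `(M ⊗ G)|_U ≅ M|_U ⊗ G|_U`. -/
noncomputable abbrev tensorRestrict (j : U ⟶ X) [IsOpenImmersion j] (G : X.Modules) :
    DCoh.tensorRightMod G ⋙ Scheme.Modules.restrictFunctor j ≅
      Scheme.Modules.restrictFunctor j ⋙ DCoh.tensorRightMod (G.restrict j) :=
  TensRestr.restrRight j G

/-- K-flat complexes restrict to K-flat complexes. -/
theorem isKFlat_restrict (j : U ⟶ X) [IsOpenImmersion j] (P : CochainComplex X.Modules ℤ)
    (hP : DCoh.IsKFlat P) : DCoh.IsKFlat
      (((Scheme.Modules.restrictFunctor j).mapHomologicalComplex (ComplexShape.up ℤ)).obj P) :=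
  KFlatMod.isKFlat_of_iso ((NatIso.mapHomologicalComplex
    (Scheme.Modules.restrictFunctorIsoPullback j) (ComplexShape.up ℤ)).app P).symm
    (Groth.Agent.S0952.result j P hP)

theorem exists_kflat (K : DCoh.D X) : ∃ P : CochainComplex X.Modules ℤ, DCoh.IsKFlat P ∧
    Nonempty (DCoh.toD X P ≅ K) := by
  obtain ⟨P, hP, e⟩ := LDer.exists_iso (LTMod.adapted (Coh.structureModule X)) K
  exact ⟨P, hP, e⟩

/-- `(E ⊗^L G)|_U ≅ E|_U ⊗^L G|_U`. -/
theorem restrictIso (j : U ⟶ X) [IsOpenImmersion j] (G : X.Modules) [DCoh.HasLTensorMod G]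
    [DCoh.HasLTensorMod (G.restrict j)] (E : DCoh.D X) :
    Nonempty ((DCoh.restrictD j).obj ((DCoh.LTensorMod G).obj E) ≅
      (DCoh.LTensorMod (G.restrict j)).obj ((DCoh.restrictD j).obj E)) := by
  obtain ⟨P, hP, ⟨e⟩⟩ := exists_kflat E
  let i1 : (DCoh.restrictD j).obj ((DCoh.LTensorMod G).obj E) ≅
      DCoh.toD U (((Scheme.Modules.restrictFunctor j).mapHomologicalComplex (ComplexShape.up ℤ)).obj
        (((DCoh.tensorRightMod G).mapHomologicalComplex (ComplexShape.up ℤ)).obj P)) :=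
    (DCoh.restrictD j).mapIso ((DCoh.LTensorMod G).mapIso e.symm ≪≫ LTMod.isoQ G hP) ≪≫
      LocalD.QRestrict j _
  let i2 : ((Scheme.Modules.restrictFunctor j).mapHomologicalComplex (ComplexShape.up ℤ)).obj
        (((DCoh.tensorRightMod G).mapHomologicalComplex (ComplexShape.up ℤ)).obj P) ≅
      ((DCoh.tensorRightMod (G.restrict j)).mapHomologicalComplex (ComplexShape.up ℤ)).obj
        (((Scheme.Modules.restrictFunctor j).mapHomologicalComplex (ComplexShape.up ℤ)).obj P) :=
    (NatIso.mapHomologicalComplex (tensorRestrict j G) (ComplexShape.up ℤ)).app P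
  let i3 : (DCoh.LTensorMod (G.restrict j)).obj ((DCoh.restrictD j).obj E) ≅
      DCoh.toD U (((DCoh.tensorRightMod (G.restrict j)).mapHomologicalComplex (ComplexShape.up ℤ)).obj
        (((Scheme.Modules.restrictFunctor j).mapHomologicalComplex (ComplexShape.up ℤ)).obj P)) :=
    (DCoh.LTensorMod (G.restrict j)).mapIso ((DCoh.restrictD j).mapIso e.symm ≪≫
      LocalD.QRestrict j _) ≪≫ LTMod.isoQ (G.restrict j) (isKFlat_restrict j P hP)
  exact ⟨i1 ≪≫ DerivedCategory.Q.mapIso i2 ≪≫ i3.symm⟩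

/-- The support of a tensor product of modules. -/
theorem support_tensorRightMod (G M : X.Modules) :
    CohB1.support ((DCoh.tensorRightMod G).obj M) ⊆ CohB1.support G := by
  intro x hx hG
  apply hx
  have h1 := (Stalk.tensorStalkIso M G x).toLinearEquiv.toEquiv.subsingleton_congr
  have h2 : Subsingleton ((Stalk.stalkF x).obj M ⊗ (Stalk.stalkF x).obj G : ModuleCat _) := by
    have : Subsingleton ((Stalk.stalkF x).obj G) := hG
    exact inferInstanceAs (Subsingleton
      (TensorProduct (X.presheaf.stalk x) ((Stalk.stalkF x).obj M) ((Stalk.stalkF x).obj G)))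
  exact h1.2 h2

theorem support_homology (K : CochainComplex X.Modules ℤ) (i : ℤ) :
    CohB1.support (K.homology i) ⊆ CohB1.support (K.X i) :=
  (CohqB.DevSupport.support_subset_of_epi (K.homologyπ i)).trans
    (CohqB.DevSupport.support_subset_of_mono (K.iCycles i))

theorem support_LTensorMod (E : DCoh.D X) (G : X.Modules) [DCoh.HasLTensorMod G] (i : ℤ) :
    CohB1.support (DCoh.HD ((DCoh.LTensorMod G).obj E) i) ⊆ CohB1.support G := by
  obtain ⟨P, hP, ⟨e⟩⟩ := exists_kflat E
  rw [CohqB.DevSupport.support_congr ((DerivedCategory.homologyFunctor X.Modules i).mapIso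
    ((DCoh.LTensorMod G).mapIso e.symm) ≪≫ LTMod.homologyIso G hP i)]
  exact (support_homology _ i).trans (support_tensorRightMod G _)

/-- A strictly perfect complex is K-flat. -/
theorem isKFlat_of_isStrictlyPerfect {P : CochainComplex X.Modules ℤ}
    (hP : DCoh.IsStrictlyPerfect P) : DCoh.IsKFlat P := by
  obtain ⟨⟨a, b, hab⟩, h⟩ := hP
  exact Groth.Agent.S0953.result P b ((CochainComplex.isStrictlyLE_iff _ _).2
    fun i hi => hab i (Or.inr hi)) fun n => Spread.isFlat_of_isFinLocFree (h n)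

/-- Locally `E ⊗^L G`, `E` perfect, is the termwise tensor product of a strictly perfect complex with
`G`. -/
theorem exists_local (E : DCoh.D X) (hE : DCoh.IsPerfect E) (G : X.Modules)
    [DCoh.HasLTensorMod G] (x : X) : ∃ (V : X.Opens) (S : CochainComplex (V : Scheme.{u}).Modules ℤ),
      x ∈ V ∧ DCoh.IsStrictlyPerfect S ∧ Nonempty ((DCoh.restrictD V.ι).obj ((DCoh.LTensorMod G).obj E) ≅
        DCoh.toD V (((DCoh.tensorRightMod (G.restrict V.ι)).mapHomologicalComplex
          (ComplexShape.up ℤ)).obj S)) := by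
  obtain ⟨V, hxV, S, hS, ⟨e⟩⟩ := (LocalD.isPerfect_iff_locally E).1 hE x
  have := LTMod.hasLTensorMod (G.restrict V.ι)
  obtain ⟨i⟩ := restrictIso V.ι G E
  exact ⟨V, S, hxV, hS, ⟨i ≪≫ (DCoh.LTensorMod (G.restrict V.ι)).mapIso e ≪≫
    LTMod.isoQ (G.restrict V.ι) (isKFlat_of_isStrictlyPerfect hS)⟩⟩

theorem exists_bounds [CompactSpace X] (E : DCoh.D X) (hE : DCoh.IsPerfect E)
    (G : X.Modules) [DCoh.HasLTensorMod G] :
    ∃ a b : ℤ, ((DCoh.LTensorMod G).obj E).IsGE a ∧ ((DCoh.LTensorMod G).obj E).IsLE b := by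
  have h : ∀ x : X, ∃ (V : X.Opens), x ∈ V ∧ ∃ a b : ℤ,
      ((DCoh.restrictD V.ι).obj ((DCoh.LTensorMod G).obj E)).IsGE a ∧
      ((DCoh.restrictD V.ι).obj ((DCoh.LTensorMod G).obj E)).IsLE b := by
    intro x
    obtain ⟨V, S, hxV, ⟨⟨a, b, hab⟩, -⟩, ⟨e⟩⟩ := exists_local E hE G x
    refine ⟨V, hxV, a, b, ?_, ?_⟩
    · have : CochainComplex.IsStrictlyGE (((DCoh.tensorRightMod (G.restrict V.ι)).mapHomologicalComplex
          (ComplexShape.up ℤ)).obj S) a := (CochainComplex.isStrictlyGE_iff _ _).2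
            fun i hi => (DCoh.tensorRightMod (G.restrict V.ι)).map_isZero (hab i (Or.inl hi))
      exact DerivedCategory.TStructure.t.isGE_of_iso e.symm a
    · have : CochainComplex.IsStrictlyLE (((DCoh.tensorRightMod (G.restrict V.ι)).mapHomologicalComplex
          (ComplexShape.up ℤ)).obj S) b := (CochainComplex.isStrictlyLE_iff _ _).2
            fun i hi => (DCoh.tensorRightMod (G.restrict V.ι)).map_isZero (hab i (Or.inr hi))
      exact DerivedCategory.TStructure.t.isLE_of_iso e.symm b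
  choose V hxV a b ha hb using h
  obtain ⟨t, ht⟩ := CompactSpace.elim_nhds_subcover (fun x => (V x : Set X))
    (fun x => (V x).isOpen.mem_nhds (hxV x))
  obtain ⟨A, hA⟩ : ∃ A : ℤ, ∀ x ∈ t, A ≤ a x := by
    obtain ⟨A, hA⟩ := (t.finite_toSet.image a).bddBelow
    exact ⟨A, fun x hx => hA ⟨x, hx, rfl⟩⟩
  obtain ⟨B, hB⟩ : ∃ B : ℤ, ∀ x ∈ t, b x ≤ B := by
    obtain ⟨B, hB⟩ := (t.finite_toSet.image b).bddAbove
    exact ⟨B, fun x hx => hB ⟨x, hx, rfl⟩⟩
  have hcov : ∀ y : X, ∃ x ∈ t, y ∈ V x := fun y => by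
    have : y ∈ (⊤ : Set X) := trivial
    rw [← ht] at this
    simpa using this
  refine ⟨A, B, PerfA.Restrict.isGE_of_restrictD_opens _ A fun y => ?_,
    PerfA.Restrict.isLE_of_restrictD_opens _ B fun y => ?_⟩
  · obtain ⟨x, hx, hy⟩ := hcov y
    have := ha x
    exact ⟨V x, hy, DerivedCategory.TStructure.t.isGE_of_ge _ _ _ (hA x hx)⟩
  · obtain ⟨x, hx, hy⟩ := hcov y
    have := hb x
    exact ⟨V x, hy, DerivedCategory.TStructure.t.isLE_of_le _ _ _ (hB x hx)⟩

section Coherent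

theorem isCoh_biprod [IsLocallyNoetherian X] {M N : X.Modules} (hM : Coh.IsCoh M)
    (hN : Coh.IsCoh N) : Coh.IsCoh (M ⊞ N) :=
  PerfA.QCohExt.isCoh_ext (S := ShortComplex.mk (biprod.inl : M ⟶ M ⊞ N) biprod.snd (by simp))
    (ShortComplex.Splitting.ofHasBinaryBiproduct M N).shortExact hM hN

theorem isCoh_tensor_free [IsLocallyNoetherian X] (G : X.Modules) (hG : Coh.IsCoh G) (n : ℕ) :
    Coh.IsCoh ((DCoh.tensorRightMod G).obj (FlatMod.freeMod X n)) := by
  induction n with
  | zero =>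
    exact PerfA.CohSerre.isCoh_of_isZero
      ((DCoh.tensorRightMod G).map_isZero (Dcoh.FinLocFree.isZero_freeMod_zero X))
  | succ n ih =>
    obtain ⟨e⟩ := Dcoh.FinLocFree.nonempty_biprod_freeMod_iso X n 1
    have : PreservesBinaryBiproducts (DCoh.tensorRightMod G) :=
      preservesBinaryBiproducts_of_preservesBiproducts _
    refine PerfA.CohSerre.isCoh_of_iso (((DCoh.tensorRightMod G).mapBiprod _ _).symm ≪≫
      (DCoh.tensorRightMod G).mapIso e) (isCoh_biprod ih ?_)
    exact PerfA.CohSerre.isCoh_of_iso ((PerfB.TensUnit.unitTensor G).symm ≪≫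
      (DCoh.tensorRightMod G).mapIso
        (coproductUniqueIso (fun _ : Fin 1 => Coh.structureModule X)).symm) hG

theorem isCoh_tensor [IsLocallyNoetherian X] (G : X.Modules) (hG : Coh.IsCoh G) (M : X.Modules)
    (hM : FlatMod.IsFinLocFree M) : Coh.IsCoh ((DCoh.tensorRightMod G).obj M) := by
  refine PerfA.CohSerre.isCoh_of_restrict _ fun x => ?_
  obtain ⟨V, n, hx, ⟨e⟩⟩ := hM x
  refine ⟨V, hx, PerfA.CohSerre.isCoh_of_iso (((tensorRestrict V.ι G).app M ≪≫
    (DCoh.tensorRightMod (G.restrict V.ι)).mapIso e).symm)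
      (isCoh_tensor_free (G.restrict V.ι) (PerfA.CohSerre.isCoh_restrict V.ι hG) n)⟩

theorem isCohD_LTensorMod [IsLocallyNoetherian X] (E : DCoh.D X) (hE : DCoh.IsPerfect E)
    (G : X.Modules) (hG : Coh.IsCoh G) [DCoh.HasLTensorMod G] :
    DCoh.IsCohD ((DCoh.LTensorMod G).obj E) := by
  refine PerfQCoh.isCohD_of_local _ fun x => ?_
  obtain ⟨V, S, hxV, hS, ⟨e⟩⟩ := exists_local E hE G x
  exact ⟨V, hxV, PerfQCoh.isCohD_of_iso e.symm (PerfQCoh.isCohD_Q _ fun i =>
    isCoh_tensor _ (PerfA.CohSerre.isCoh_restrict V.ι hG) _ (hS.2 i))⟩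

end Coherent

end Groth.Agent.Models2.TensLocal
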